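import Mathlib.CategoryTheory.Preadditive.Basic
import Mathlib.CategoryTheory.Linear.Basic
import Mathlib.RingTheory.TensorProduct.Basic
import Mathlib.LinearAlgebra.Matrix.ToLin
import Mathlib.Data.Rat.Cast.CharZero

/-!
An object of a preadditive category which is, up to a nonzero integer, the sum of pairwise orthogonal
objects has a product of matrix algebras as rational endomorphism algebra.
-/

set_option linter.unusedSectionVars false

open CategoryTheory Limits TensorProduct

namespace Groth.Agent.AVDeg3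

universe v u

variable {C : Type u} [Category.{v} C] [Preadditive C] {X : C} {ι : Type} [Fintype ι] [DecidableEq ι] {Y : ι → C}
  {J : ι → Type} [∀ i, Fintype (J i)] [∀ i, DecidableEq (J i)]

/-- Compose an endomorphism with given maps on both sides. -/
def sandwich {U V : C} (a : U ⟶ V) (b : V ⟶ U) : End V →+ End U :=
  AddMonoidHom.mk' (fun φ => (a ≫ φ ≫ b : U ⟶ U)) fun φ ψ => by
    exact (congrArg (a ≫ ·) (Preadditive.add_comp V V U φ ψ b)).trans (Preadditive.comp_add _ _ _ _ _ _)

theorem sandwich_apply {U V : C} (a : U ⟶ V) (b : V ⟶ U) (φ : End V) : sandwich a b φ = a ≫ (φ : V ⟶ V) ≫ b := rfl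

/-- The rational form of a sandwich, divided by `N`. -/
noncomputable def sandwich0 (N : ℕ) {U V : C} (a : U ⟶ V) (b : V ⟶ U) : ℚ ⊗[ℤ] End V →ₗ[ℚ] ℚ ⊗[ℤ] End U :=
  (N : ℚ)⁻¹ • LinearMap.baseChange ℚ (sandwich a b).toIntLinearMap

theorem sandwich0_tmul (N : ℕ) {U V : C} (a : U ⟶ V) (b : V ⟶ U) (c : ℚ) (φ : End V) :
    sandwich0 N a b (c ⊗ₜ φ) = ((N : ℚ)⁻¹ * c) ⊗ₜ[ℤ] sandwich a b φ := by
  simp [sandwich0, TensorProduct.smul_tmul']

variable (N : ℕ) (hN : 0 < N) (p : ∀ i, J i → (X ⟶ Y i)) (q : ∀ i, J i → (Y i ⟶ X))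
  (hδ : ∀ i t s, q i s ≫ p i t = if t = s then N • 𝟙 (Y i) else 0)
  (hoff : ∀ i j, i ≠ j → ∀ f : Y i ⟶ Y j, f = 0)
  (hsum : ∑ i, ∑ t, p i t ≫ q i t = N • 𝟙 X)

theorem nat_tmul {M : Type*} [AddCommGroup M] (n : ℕ) (hn : 0 < n) (a : ℚ) (x : M) :
    ((n : ℚ)⁻¹ * a) ⊗ₜ[ℤ] (n • x) = a ⊗ₜ[ℤ] x := by
  rw [← natCast_zsmul, ← TensorProduct.smul_tmul, zsmul_eq_mul, Int.cast_natCast, ← mul_assoc,
    mul_inv_cancel₀ (Nat.cast_ne_zero.2 hn.ne'), one_mul]

include hδ in
theorem sandwich_coentry (i : ι) (t' s' t s : J i) (ψ : End (Y i)) :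
    sandwich (q i s') (p i t') (sandwich (p i s) (q i t) ψ) = if t = t' ∧ s = s' then N • N • ψ else 0 := by
  have h : sandwich (q i s') (p i t') (sandwich (p i s) (q i t) ψ) =
      (q i s' ≫ p i s) ≫ (ψ : Y i ⟶ Y i) ≫ (q i t ≫ p i t') := by
    simp only [sandwich_apply, Category.assoc]
  rw [h, hδ i s s', hδ i t' t]
  by_cases h1 : s = s'
  · by_cases h2 : t' = t
    · rw [if_pos h1, if_pos h2, if_pos ⟨h2.symm, h1⟩, Preadditive.nsmul_comp, Category.id_comp,
        Preadditive.comp_nsmul, Category.comp_id]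
    · rw [if_neg h2, if_neg (c := t = t' ∧ s = s') (fun h => h2 h.1.symm), comp_zero, comp_zero]
  · rw [if_neg h1, if_neg (c := t = t' ∧ s = s') (fun h => h1 h.2), zero_comp]

include hN hδ in
theorem entry_coentry (i : ι) (t' s' t s : J i) (x : ℚ ⊗[ℤ] End (Y i)) :
    sandwich0 N (q i s') (p i t') (sandwich0 N (p i s) (q i t) x) = if t = t' ∧ s = s' then x else 0 := by
  induction x using TensorProduct.induction_on with
  | zero => simp
  | add a b ha hb => simp only [map_add, ha, hb]; split_ifs <;> simp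
  | tmul a ψ =>
    rw [sandwich0_tmul, sandwich0_tmul, sandwich_coentry N p q hδ]
    split_ifs
    · rw [nat_tmul N hN, nat_tmul N hN]
    · exact TensorProduct.tmul_zero _ _

include hoff in
theorem entry_coentry_ne {i j : ι} (h : i ≠ j) (t' s' : J j) (t s : J i) (x : ℚ ⊗[ℤ] End (Y i)) :
    sandwich0 N (q j s') (p j t') (sandwich0 N (p i s) (q i t) x) = 0 := by
  induction x using TensorProduct.induction_on with
  | zero => simp
  | add a b ha hb => simp only [map_add, ha, hb, add_zero]
  | tmul a ψ =>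
    have h0 : sandwich (q j s') (p j t') (sandwich (p i s) (q i t) ψ) = 0 := by
      have h1 : sandwich (q j s') (p j t') (sandwich (p i s) (q i t) ψ) =
          (q j s' ≫ p i s) ≫ ((ψ : Y i ⟶ Y i) ≫ q i t ≫ p j t') := by
        simp only [sandwich_apply, Category.assoc]
      rw [h1, hoff j i (Ne.symm h) (q j s' ≫ p i s), zero_comp]
    rw [sandwich0_tmul, sandwich0_tmul, h0, TensorProduct.tmul_zero]

include hN hoff hsum in
theorem sum_coentry_entry (φ : ℚ ⊗[ℤ] End X) :
    ∑ i, ∑ t, ∑ s, sandwich0 N (p i s) (q i t) (sandwich0 N (q i s) (p i t) φ) = φ := by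
  induction φ using TensorProduct.induction_on with
  | zero => simp
  | add a b ha hb => simp only [map_add, Finset.sum_add_distrib, ha, hb]
  | tmul a φ =>
    simp only [sandwich0_tmul, ← TensorProduct.tmul_sum]
    have key : ∑ i, ∑ t, ∑ s, sandwich (p i s) (q i t) (sandwich (q i s) (p i t) φ) = N • N • φ := by
      have h1 : (∑ i, ∑ s, p i s ≫ q i s) ≫ (φ : X ⟶ X) ≫ (∑ j, ∑ t, p j t ≫ q j t) = N • N • φ := by
        rw [hsum, Preadditive.comp_nsmul, Category.comp_id, Preadditive.comp_nsmul, Preadditive.nsmul_comp,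
          Category.id_comp]
      refine Eq.trans ?_ h1
      simp only [Preadditive.sum_comp, Preadditive.comp_sum, sandwich_apply, Category.assoc]
      refine Finset.sum_congr rfl fun i _ => ?_
      refine Finset.sum_congr rfl fun t _ => Eq.symm ?_
      refine Finset.sum_eq_single i (fun j _ hj => ?_) (fun h => absurd (Finset.mem_univ _) h)
      refine Finset.sum_eq_zero fun s _ => ?_
      have h2 : q j s ≫ (φ : X ⟶ X) ≫ p i t ≫ q i t = (q j s ≫ (φ : X ⟶ X) ≫ p i t) ≫ q i t := by
        simp only [Category.assoc]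
      rw [h2, hoff j i hj (q j s ≫ (φ : X ⟶ X) ≫ p i t), zero_comp, comp_zero]
    rw [key, nat_tmul N hN, nat_tmul N hN]

include hN hoff hsum in
theorem entry_mul (i : ι) (t s : J i) (x y : ℚ ⊗[ℤ] End X) :
    sandwich0 N (q i s) (p i t) (x * y) =
      ∑ u, sandwich0 N (q i u) (p i t) x * sandwich0 N (q i s) (p i u) y := by
  induction x using TensorProduct.induction_on with
  | zero => simp
  | add a b ha hb => simp only [add_mul, map_add, ha, hb, Finset.sum_add_distrib]
  | tmul a φ =>
    induction y using TensorProduct.induction_on with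
    | zero => simp
    | add c d hc hd => simp only [mul_add, map_add, hc, hd, Finset.sum_add_distrib]
    | tmul b ψ =>
      simp only [Algebra.TensorProduct.tmul_mul_tmul, sandwich0_tmul, ← TensorProduct.tmul_sum]
      have key : ∑ u, sandwich (q i u) (p i t) φ * sandwich (q i s) (p i u) ψ = N • sandwich (q i s) (p i t) (φ * ψ) := by
        have h1 : q i s ≫ (ψ : X ⟶ X) ≫ (∑ j, ∑ u, p j u ≫ q j u) ≫ (φ : X ⟶ X) ≫ p i t =
            N • sandwich (q i s) (p i t) (φ * ψ) := by
          rw [hsum, Preadditive.nsmul_comp, Category.id_comp, Preadditive.comp_nsmul, Preadditive.comp_nsmul]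
          simp only [sandwich_apply, End.mul_def, Category.assoc]
        refine Eq.trans ?_ h1
        simp only [Preadditive.sum_comp, Preadditive.comp_sum, sandwich_apply, End.mul_def, Category.assoc]
        symm
        refine Finset.sum_eq_single i (fun j _ hj => Finset.sum_eq_zero fun u _ => ?_) (fun h => absurd (Finset.mem_univ _) h)
        rw [← Category.assoc (ψ : X ⟶ X), ← Category.assoc (q i s),
          hoff i j (Ne.symm hj) (q i s ≫ (ψ : X ⟶ X) ≫ p j u), zero_comp]
      rw [key, show (N : ℚ)⁻¹ * a * ((N : ℚ)⁻¹ * b) = (N : ℚ)⁻¹ * ((N : ℚ)⁻¹ * (a * b)) by ring, nat_tmul N hN]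

include hN hδ in
theorem entry_one (i : ι) (t s : J i) : sandwich0 N (q i s) (p i t) 1 = if t = s then 1 else 0 := by
  have h : sandwich (q i s) (p i t) (1 : End X) = if t = s then N • (1 : End (Y i)) else 0 := by
    rw [sandwich_apply, End.one_def, Category.id_comp, hδ]
    split_ifs <;> rfl
  rw [Algebra.TensorProduct.one_def, sandwich0_tmul, h]
  split_ifs
  · exact nat_tmul N hN 1 _
  · rw [TensorProduct.tmul_zero]

include hN hδ hoff hsum in
/-- The rational endomorphism algebra of a sum of orthogonal objects up to an integer. -/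
theorem nonempty_algEquiv_pi_matrix :
    Nonempty ((ℚ ⊗[ℤ] End X) ≃ₐ[ℚ] (Π i, Matrix (J i) (J i) (ℚ ⊗[ℤ] End (Y i)))) := by
  let e : (ℚ ⊗[ℤ] End X) ≃ₗ[ℚ] (Π i, Matrix (J i) (J i) (ℚ ⊗[ℤ] End (Y i))) :=
    { toFun := fun φ i => Matrix.of fun t s => sandwich0 N (q i s) (p i t) φ
      map_add' := fun x y => funext fun i => Matrix.ext fun t s => (sandwich0 N (q i s) (p i t)).map_add x y
      map_smul' := fun c x => funext fun i => Matrix.ext fun t s => (sandwich0 N (q i s) (p i t)).map_smul c x
      invFun := fun M => ∑ i, ∑ t, ∑ s, sandwich0 N (p i s) (q i t) (M i t s)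
      left_inv := sum_coentry_entry N hN p q hoff hsum
      right_inv := fun M => funext fun j => Matrix.ext fun t' s' => by
        simp only [Matrix.of_apply, map_sum]
        rw [Finset.sum_eq_single j (fun i _ hi => by simp [entry_coentry_ne N p q hoff hi]) (by simp)]
        simp only [entry_coentry N hN p q hδ]
        rw [Finset.sum_eq_single t' (fun t _ ht => by simp [ht]) (by simp)]
        simp }
  refine ⟨AlgEquiv.ofLinearEquiv e (funext fun i => Matrix.ext fun t s => ?_)
    fun x y => funext fun i => Matrix.ext fun t s => ?_⟩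
  · rw [Pi.one_apply, Matrix.one_apply]
    exact entry_one N hN p q hδ i t s
  · rw [Pi.mul_apply, Matrix.mul_apply]
    exact entry_mul N hN p q hoff hsum i t s x y

end Groth.Agent.AVDeg3
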