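import Mathlib.Algebra.MvPolynomial.Funext
import Mathlib.Algebra.MvPolynomial.Rename
import Mathlib.Algebra.Polynomial.Splits
import Mathlib.Algebra.Polynomial.AlgebraMap
import Mathlib.Algebra.BigOperators.Fin
import Mathlib.FieldTheory.IsAlgClosed.Basic
import Mathlib.Tactic.LinearCombination
import Mathlib.Algebra.Algebra.Rat
import Mathlib.Algebra.MvPolynomial.Monad

/-!
A multiplicative function on integer polynomials which is polynomial in the coefficients is the product
of the values at the roots of its characteristic polynomial.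
-/

noncomputable section

open Polynomial

namespace Groth.Agent.AVDeg3

variable {K : Type*} [Field K] [CharZero K] [IsAlgClosed K]

/-- The product of the values at the given numbers. -/
def rootProd (s : Multiset K) (F : ℤ[X]) : K := (s.map fun x => aeval x F).prod

/-- The product of the values at the given numbers, as a polynomial in the coefficients of a combination. -/
def rootPoly {r : ℕ} (s : Multiset K) (H : Fin r → ℤ[X]) : MvPolynomial (Fin r) K :=
  (s.map fun x => ∑ i, MvPolynomial.C (aeval x (H i)) * MvPolynomial.X i).prod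

theorem eval_rootPoly {r : ℕ} (s : Multiset K) (H : Fin r → ℤ[X]) (c : Fin r → ℕ) :
    MvPolynomial.eval (fun i => (c i : K)) (rootPoly s H) = rootProd s (∑ i, c i • H i) := by
  simp only [rootPoly, rootProd, map_multiset_prod, Multiset.map_map, Function.comp_def, map_sum, map_mul,
    MvPolynomial.eval_C, MvPolynomial.eval_X, map_nsmul, nsmul_eq_mul]
  refine congrArg Multiset.prod (Multiset.map_congr rfl fun x _ => Finset.sum_congr rfl fun i _ => ?_)
  rw [mul_comm]
  simp

theorem eval_map_alg {r : ℕ} (Q : MvPolynomial (Fin r) ℚ) (c : Fin r → ℚ) :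
    MvPolynomial.eval (fun i => (c i : K)) (MvPolynomial.map (algebraMap ℚ K) Q) =
      ((MvPolynomial.eval c Q : ℚ) : K) := by
  induction Q using MvPolynomial.induction_on with
  | C a => simp
  | add p q hp hq => simp [hp, hq]
  | mul_X p i hp => simp [hp]

variable (N : ℤ[X] → ℚ) (s : Multiset K) {d : ℕ}
  (hmul : ∀ F G, N (F * G) = N F * N G)
  (hconst : ∀ a : ℤ, N (C a) = (a : ℚ) ^ d)
  (hs : s.card = d)
  (hlin : ∀ a : ℤ, (N (X + C a) : K) = (s.map fun x => x + (a : K)).prod)
  (hpoly : ∀ {r : ℕ} (H : Fin r → ℤ[X]), ∃ Q : MvPolynomial (Fin r) ℚ,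
    ∀ c : Fin r → ℕ, N (∑ i, c i • H i) = MvPolynomial.eval (fun i => (c i : ℚ)) Q)

include hmul hconst hs hlin in
theorem eq_rootProd_split {m : ℕ} (a : ℤ) (n : Fin m → ℤ) :
    (N (C a * ∏ j, (X + C (n j))) : K) = rootProd s (C a * ∏ j, (X + C (n j))) := by
  have h1 : ∀ t : Finset (Fin m), (N (∏ j ∈ t, (X + C (n j))) : K) = rootProd s (∏ j ∈ t, (X + C (n j))) := by
    intro t
    induction t using Finset.induction with
    | empty =>
      have h := hconst 1
      rw [map_one, Int.cast_one, one_pow] at h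
      simp [rootProd, h]
    | @insert j t hj ih =>
      rw [Finset.prod_insert hj, hmul, Rat.cast_mul, ih, hlin]
      simp only [rootProd, map_mul, Multiset.prod_map_mul, map_add, aeval_X, eq_intCast, map_intCast]
  rw [hmul, Rat.cast_mul, h1, hconst]
  simp only [rootProd, map_mul, Multiset.prod_map_mul, eq_intCast, map_intCast, Multiset.map_const',
    Multiset.prod_replicate, hs, Rat.cast_pow, Rat.cast_intCast]

/-- The generic split polynomial. -/
def splitPoly (m : ℕ) : (MvPolynomial (Fin (m + 1)) K)[X] :=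
  C (MvPolynomial.X 0) * ∏ j : Fin m, (X + C (MvPolynomial.X j.succ))

theorem eval_splitPoly {m : ℕ} (v : Fin (m + 1) → K) :
    (splitPoly (K := K) m).map (MvPolynomial.eval v) = C (v 0) * ∏ j : Fin m, (X + C (v j.succ)) := by
  simp [splitPoly, Polynomial.map_mul, Polynomial.map_prod]

include hmul hconst hs hlin hpoly in
/-- The polynomial identity for combinations of powers of the variable. -/
theorem eq_rootProd_sum (m : ℕ) (c : Fin (m + 1) → ℕ) :
    (N (∑ i, c i • X ^ (i : ℕ)) : K) = rootProd s (∑ i, c i • X ^ (i : ℕ)) := by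
  classical
  obtain ⟨Q, hQ⟩ := hpoly fun i : Fin (m + 1) => X ^ (i : ℕ)
  let D := MvPolynomial.map (algebraMap ℚ K) Q - rootPoly s (fun i : Fin (m + 1) => (X : ℤ[X]) ^ (i : ℕ))
  suffices hD : D = 0 by
    have h := congrArg (MvPolynomial.eval fun i => (c i : K)) hD
    rw [map_sub, map_zero, eval_rootPoly, sub_eq_zero] at h
    rw [← h, hQ c, ← eval_map_alg]
    simp
  let e : Fin (m + 1) → MvPolynomial (Fin (m + 1)) K := fun i => (splitPoly (K := K) m).coeff (i : ℕ)
  have he : ∀ v : Fin (m + 1) → K, MvPolynomial.eval v (MvPolynomial.bind₁ e D) =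
      MvPolynomial.eval (fun i : Fin (m + 1) => (C (v 0) * ∏ j : Fin m, (X + C (v j.succ))).coeff (i : ℕ)) D := by
    intro v
    rw [MvPolynomial.eval, MvPolynomial.eval, MvPolynomial.eval₂Hom_bind₁]
    congr 2
    funext i
    rw [← eval_splitPoly, coeff_map]
    rfl
  have hzero : MvPolynomial.bind₁ e D = 0 := by
    refine MvPolynomial.funext_set (fun _ => Set.range ((↑) : ℕ → K))
      (fun _ => Set.infinite_range_of_injective Nat.cast_injective) fun v hv => ?_
    rw [map_zero, he]
    choose w hw using fun i => hv i (Set.mem_univ i)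
    let F : ℕ[X] := C (w 0) * ∏ j : Fin m, (X + C (w j.succ))
    have hF : F.map (Nat.castRingHom ℤ) = C ((w 0 : ℕ) : ℤ) * ∏ j : Fin m, (X + C ((w j.succ : ℕ) : ℤ)) := by
      simp [F, Polynomial.map_mul, Polynomial.map_prod]
    have hFK : F.map (Nat.castRingHom K) = C (v 0) * ∏ j : Fin m, (X + C (v j.succ)) := by
      simp [F, Polynomial.map_mul, Polynomial.map_prod, ← hw]
    have hdeg : F.natDegree < m + 1 := by
      refine Nat.lt_succ_of_le ((natDegree_C_mul_le _ _).trans ((natDegree_prod_le _ _).trans ?_))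
      refine (Finset.sum_le_card_nsmul _ _ 1 fun j _ => natDegree_add_C.trans_le natDegree_X_le).trans ?_
      simp
    have hsum : ∑ i : Fin (m + 1), F.coeff i • (X : ℤ[X]) ^ (i : ℕ) = F.map (Nat.castRingHom ℤ) := by
      rw [Fin.sum_univ_eq_sum_range (fun i => F.coeff i • (X : ℤ[X]) ^ i)]
      conv_rhs => rw [as_sum_range' F (m + 1) hdeg, Polynomial.map_sum]
      refine Finset.sum_congr rfl fun i _ => ?_
      rw [map_monomial, ← C_mul_X_pow_eq_monomial, nsmul_eq_mul]
      simp
    have h1 := hQ fun i => F.coeff i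
    rw [hsum, hF] at h1
    have h2 := eq_rootProd_split N s hmul hconst hs hlin (m := m) (w 0 : ℤ) fun j => (w j.succ : ℤ)
    rw [h1, ← hF, ← hsum, ← eval_rootPoly, ← eval_map_alg] at h2
    rw [map_sub, sub_eq_zero, ← hFK]
    simpa using h2
  have hlast : MvPolynomial.X (Fin.last m) * D = 0 := by
    refine MvPolynomial.funext fun u => ?_
    rw [map_mul, MvPolynomial.eval_X, map_zero]
    by_cases hu : u (Fin.last m) = 0
    · rw [hu, zero_mul]
    refine mul_eq_zero_of_right _ ?_
    let p : K[X] := ∑ i : Fin (m + 1), C (u i) * X ^ (i : ℕ)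
    have hpc : ∀ i : Fin (m + 1), p.coeff i = u i := fun i => by
      simp only [p, finsetSum_coeff, coeff_C_mul_X_pow]
      rw [Finset.sum_eq_single i (fun j _ hj => if_neg fun h => hj (Fin.ext h.symm)) (by simp)]
      simp
    have hp : p.natDegree = m := by
      refine natDegree_eq_of_le_of_coeff_ne_zero ?_ (by rw [← Fin.val_last m, hpc]; exact hu)
      refine natDegree_sum_le_of_forall_le _ _ fun i _ => (natDegree_C_mul_X_pow_le _ _).trans ?_
      exact Nat.le_of_lt_succ i.2
    have hsp := IsAlgClosed.splits p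
    have hcard : p.roots.toList.length = m := by
      rw [Multiset.length_toList, ← hsp.natDegree_eq_card_roots, hp]
    let γ : Fin m → K := fun j => p.roots.toList.get (j.cast hcard.symm)
    have hprod : C (p.leadingCoeff) * ∏ j : Fin m, (X + C (-γ j)) = p := by
      conv_rhs => rw [hsp.eq_prod_roots]
      congr 1
      conv_rhs => rw [← Multiset.coe_toList p.roots, Multiset.map_coe, Multiset.prod_coe, ← List.ofFn_get p.roots.toList,
        List.map_ofFn, List.prod_ofFn]
      refine Fintype.prod_equiv (finCongr hcard.symm) _ _ fun j => ?_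
      simp [γ, sub_eq_add_neg]
    have h := congrArg (MvPolynomial.eval (Fin.cons p.leadingCoeff fun j => -γ j : Fin (m + 1) → K)) hzero
    rw [map_zero, he] at h
    simp only [Fin.cons_zero, Fin.cons_succ, hprod, hpc] at h
    exact h
  exact (mul_eq_zero.1 hlast).resolve_left (MvPolynomial.X_ne_zero _)

include hmul hconst hs hlin hpoly in
/-- The product formula. -/
theorem eq_rootProd (F : ℤ[X]) : (N F : K) = rootProd s F := by
  classical
  let m := F.natDegree
  let H : ℤ[X] := ∑ i : Fin (m + 1), (1 : ℕ) • X ^ (i : ℕ)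
  obtain ⟨Q, hQ⟩ := hpoly ![F, H]
  let P₁ : K[X] := MvPolynomial.aeval ![1, X] (MvPolynomial.map (algebraMap ℚ K) Q)
  let P₂ : K[X] := MvPolynomial.aeval ![1, X] (rootPoly s ![F, H])
  have hev : ∀ (P : MvPolynomial (Fin 2) K) (j : ℕ),
      (MvPolynomial.aeval ![(1 : K[X]), X] P).eval (j : K) = MvPolynomial.eval (fun i => ((![1, j] : Fin 2 → ℕ) i : K)) P := by
    intro P j
    induction P using MvPolynomial.induction_on with
    | C a => simp
    | add p q hp hq => simp [hp, hq]
    | mul_X p i hp => fin_cases i <;> simp [hp]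
  have h2 : ∀ j : ℕ, (∀ i ≤ m, 0 ≤ F.coeff i + j) → P₁.eval (j : K) = P₂.eval (j : K) := by
    intro j hj
    simp only [P₁, P₂, hev, eval_rootPoly]
    have h1 := hQ ![1, j]
    have e : MvPolynomial.eval (fun i => ((![1, j] : Fin 2 → ℕ) i : K)) (MvPolynomial.map (algebraMap ℚ K) Q) =
        (N (∑ i, (![1, j] : Fin 2 → ℕ) i • ![F, H] i) : K) := by
      rw [h1, ← eval_map_alg]
      simp
    rw [e]
    have hc : ∑ i, (![1, j] : Fin 2 → ℕ) i • ![F, H] i =
        ∑ i : Fin (m + 1), (F.coeff i + j).toNat • (X : ℤ[X]) ^ (i : ℕ) := by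
      rw [Fin.sum_univ_two]
      simp only [Matrix.cons_val_zero, Matrix.cons_val_one, one_nsmul]
      simp only [H, Finset.smul_sum, one_nsmul]
      conv_lhs => rw [as_sum_range' F (m + 1) (Nat.lt_succ_self _),
        ← Fin.sum_univ_eq_sum_range (fun i => monomial i (F.coeff i))]
      rw [← Finset.sum_add_distrib]
      refine Finset.sum_congr rfl fun i _ => ?_
      have hz : ((F.coeff i + j).toNat : ℤ) = F.coeff i + j := Int.toNat_of_nonneg (hj i (Nat.le_of_lt_succ i.2))
      rw [← C_mul_X_pow_eq_monomial, nsmul_eq_mul, nsmul_eq_mul, ← add_mul]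
      congr 1
      rw [← C_eq_natCast, ← C_eq_natCast, ← map_add, hz]
    rw [hc]
    exact eq_rootProd_sum N s hmul hconst hs hlin hpoly m fun i => (F.coeff i + j).toNat
  obtain ⟨B, hB⟩ := ((Finset.range (m + 1)).image fun i => (F.coeff i).natAbs).bddAbove
  have hP : P₁ = P₂ := by
    refine eq_of_infinite_eval_eq _ _ (Set.Infinite.mono (s := (fun j : ℕ => (j : K)) '' Set.Ici B) ?_ ?_)
    · rintro _ ⟨j, hj, rfl⟩
      refine h2 j fun i hi => ?_
      have := hB (Finset.mem_image_of_mem (fun i => (F.coeff i).natAbs) (Finset.mem_range.2 (Nat.lt_succ_of_le hi)))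
      have hj' : B ≤ j := hj
      omega
    · exact (Set.Ici_infinite B).image (Nat.cast_injective.injOn)
  have h0 := congrArg (Polynomial.eval ((0 : ℕ) : K)) hP
  simp only [P₁, P₂, hev, eval_rootPoly] at h0
  have h1 := hQ ![1, 0]
  have hF : ∑ i, (![1, 0] : Fin 2 → ℕ) i • ![F, H] i = F := by simp [Fin.sum_univ_two]
  rw [hF] at h1 h0
  rw [← h0, h1, ← eval_map_alg]
  simp

end Groth.Agent.AVDeg3
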