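import Groth.Agent.AVDeg3.MultiDeg
import Groth.Agent.AVDeg3.Roots
import Groth.Agent.AVDeg3.PiMatrix
import Groth.Agent.S12031
import Mathlib.NumberTheory.Padics.Complex
import Mathlib.LinearAlgebra.Matrix.Charpoly.Coeff
import Mathlib.LinearAlgebra.Charpoly.ToMatrix
import Mathlib.LinearAlgebra.Matrix.ToLinearEquiv
import Mathlib.FieldTheory.IntermediateField.Adjoin.Basic
import Groth.Prelude.Def_EndTate

/-!
The degree of a polynomial in an endomorphism, and the degree as determinant on Tate modules.
-/

noncomputable section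

set_option linter.style.haveILetI false
set_option linter.unusedSectionVars false
set_option backward.isDefEq.respectTransparency false
set_option backward.isDefEq.respectTransparency.types false
set_option synthInstance.maxHeartbeats 400000
set_option maxHeartbeats 1600000

universe u

open CategoryTheory CategoryTheory.Limits MonoidalCategory CartesianMonoidalCategory MonObj GrpObj AlgebraicGeometry
open Polynomial (X C aeval)

namespace Groth.Agent.AVDeg3

section Algebra

variable {L : Type*} [Field L] [IsAlgClosed L] {J : Type*} [Fintype J] [DecidableEq J]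

/-- The determinant of a polynomial in a matrix is the product of its values at the eigenvalues. -/
theorem det_aeval_eq_prod (M : Matrix J J L) (F : Polynomial L) :
    (aeval M F).det = (M.charpoly.roots.map fun x => F.eval x).prod := by
  have hn : M.charpoly.roots.card = Fintype.card J := by
    rw [← (IsAlgClosed.splits _).natDegree_eq_card_roots, Matrix.charpoly_natDegree_eq_dim]
  have hlin : ∀ t : L, (aeval M (X - C t)).det = (M.charpoly.roots.map fun x => x - t).prod := by
    intro t
    have h1 := Matrix.eval_charpoly M t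
    rw [(IsAlgClosed.splits _).eq_prod_roots_of_monic M.charpoly_monic, Polynomial.eval_multiset_prod, Multiset.map_map,
      ] at h1
    have h2 : aeval M (X - C t) = -(Matrix.scalar J t - M) := by
      rw [map_sub, Polynomial.aeval_X, Polynomial.aeval_C, neg_sub]
      rfl
    rw [h2, Matrix.det_neg, ← h1, ← hn]
    conv_lhs => rw [← Multiset.card_map (Polynomial.eval t ∘ fun a => X - C a) M.charpoly.roots]
    rw [← Multiset.prod_map_neg, Multiset.map_map]
    simp [Function.comp_def]
  rw [(IsAlgClosed.splits F).eq_prod_roots]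
  generalize F.roots = s
  rw [map_mul, Matrix.det_mul, Polynomial.aeval_C, Algebra.algebraMap_eq_smul_one, Matrix.det_smul, Matrix.det_one,
    _root_.mul_one]
  simp only [Polynomial.eval_mul, Polynomial.eval_C, Multiset.prod_map_mul, Multiset.map_const', Multiset.prod_replicate,
    hn]
  congr 1
  induction s using Multiset.induction_on with
  | empty => simp
  | cons t s ih =>
    simp only [Multiset.map_cons, Multiset.prod_cons, map_mul, Matrix.det_mul, hlin, ih, Polynomial.eval_mul,
      Polynomial.eval_sub, Polynomial.eval_X, Polynomial.eval_C, Multiset.prod_map_mul]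

/-- The ring map commutes with polynomial evaluation. -/
theorem map_aeval_int {R : Type*} [Ring R] [Algebra ℤ R] (Ψ : R →+* Matrix J J L) (x : R) (F : Polynomial ℤ) :
    Ψ (aeval x F) = aeval (Ψ x) (F.map (Int.castRingHom L)) := by
  induction F using Polynomial.induction_on' with
  | add p q hp hq => simp only [map_add, hp, hq, Polynomial.map_add]
  | monomial n a => simp [Polynomial.aeval_monomial, eq_intCast]

/-- The determinant of an integer polynomial in a matrix, in an algebraically closed extension. -/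
theorem map_det_aeval {K₀ : Type*} [Field K₀] [Algebra K₀ L] {R : Type*} [Ring R] [Algebra ℤ R]
    (Ψ : R →+* Matrix J J K₀) (x : R) (F : Polynomial ℤ) :
    algebraMap K₀ L (Ψ (aeval x F)).det =
      rootProd ((Ψ x).charpoly.map (algebraMap K₀ L)).roots F := by
  rw [RingHom.map_det]
  let Φ : R →+* Matrix J J L := ((algebraMap K₀ L).mapMatrix).comp Ψ
  show (Φ (aeval x F)).det = _
  rw [map_aeval_int, det_aeval_eq_prod, ← Matrix.charpoly_map]
  refine congrArg Multiset.prod (Multiset.map_congr rfl fun y _ => ?_)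
  rw [← algebraMap_int_eq, Polynomial.eval_map_algebraMap]

end Algebra

theorem exists_fin_roots {L : Type*} [Field L] [IsAlgClosed L] {r : ℕ} (p : Polynomial L) (hp : p.Monic)
    (hd : p.natDegree = r) :
    ∃ ω : Fin r → L, p = ∏ i, (X - C (ω i)) ∧ ∀ q : L → L, ∏ i, q (ω i) = (p.roots.map q).prod := by
  have hs := IsAlgClosed.splits p
  have hc : p.roots.toList.length = r := by
    rw [Multiset.length_toList, ← hs.natDegree_eq_card_roots, hd]
  subst hc
  refine ⟨p.roots.toList.get, ?_, fun q => ?_⟩
  · conv_lhs => rw [hs.eq_prod_roots_of_monic hp, ← Multiset.coe_toList p.roots, Multiset.map_coe, Multiset.prod_coe,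
      ← List.ofFn_get p.roots.toList, List.map_ofFn, List.prod_ofFn]
    rfl
  · conv_rhs => rw [← Multiset.coe_toList p.roots, Multiset.map_coe, Multiset.prod_coe, ← List.ofFn_get p.roots.toList,
      List.map_ofFn, List.prod_ofFn]
    rfl

/-- Two monic polynomials over `ℚ_l` with the same absolute values of the products over the roots are equal. -/
theorem eq_of_norm_rootProd_eq (l : ℕ) [Fact l.Prime] {r : ℕ} {P Q : Polynomial ℚ_[l]} (hP : P.Monic) (hQ : Q.Monic)
    (hPd : P.natDegree = r) (hQd : Q.natDegree = r)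
    (h : ∀ F : Polynomial ℤ, ‖rootProd (P.map (algebraMap ℚ_[l] (PadicAlgCl l))).roots F‖ =
      ‖rootProd (Q.map (algebraMap ℚ_[l] (PadicAlgCl l))).roots F‖) : P = Q := by
  obtain ⟨ω, hω, hωq⟩ := exists_fin_roots (r := r) (P.map (algebraMap ℚ_[l] (PadicAlgCl l))) (hP.map _)
    (by rw [Polynomial.natDegree_map, hPd])
  obtain ⟨ν, hν, hνq⟩ := exists_fin_roots (r := r) (Q.map (algebraMap ℚ_[l] (PadicAlgCl l))) (hQ.map _)
    (by rw [Polynomial.natDegree_map, hQd])
  let E : IntermediateField ℚ_[l] (PadicAlgCl l) := IntermediateField.adjoin ℚ_[l] (Set.range ω ∪ Set.range ν)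
  haveI : FiniteDimensional ℚ_[l] E := by
    haveI := ((Set.finite_range ω).union (Set.finite_range ν)).to_subtype
    exact IntermediateField.finiteDimensional_adjoin fun x _ => Algebra.IsIntegral.isIntegral x
  let ω' : Fin r → E := fun i => ⟨ω i, IntermediateField.subset_adjoin _ _ (Or.inl ⟨i, rfl⟩)⟩
  let ν' : Fin r → E := fun i => ⟨ν i, IntermediateField.subset_adjoin _ _ (Or.inr ⟨i, rfl⟩)⟩
  let v : AbsoluteValue E ℝ :=
    (NormedField.toAbsoluteValue (PadicAlgCl l)).comp (f := E.val.toRingHom) Subtype.val_injective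
  have hinj := Polynomial.map_injective E.val.toRingHom Subtype.val_injective
  have hcomp : E.val.toRingHom.comp (algebraMap ℚ_[l] E) = algebraMap ℚ_[l] (PadicAlgCl l) := E.val.comp_algebraMap
  have hv : ∀ (i : Fin r → E) (F : Polynomial ℤ),
      E.val (∏ j, aeval (i j) F) = ∏ j, aeval ((i j : PadicAlgCl l)) F := fun i F => by
    rw [map_prod]
    exact Finset.prod_congr rfl fun j _ =>
      (Polynomial.aeval_algHom_apply ((E.val).restrictScalars ℤ) (i j) F).symm
  refine Groth.Agent.S12031.result l E v (fun x => ?_) r P Q ω' ν' (hinj ?_) (hinj ?_) fun F => ?_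
  · exact PadicAlgCl.norm_extends l x
  · rw [Polynomial.map_map, hcomp, Polynomial.map_prod]
    refine hω.trans (Finset.prod_congr rfl fun i _ => ?_)
    rw [Polynomial.map_sub, Polynomial.map_X, Polynomial.map_C]
    rfl
  · rw [Polynomial.map_map, hcomp, Polynomial.map_prod]
    refine hν.trans (Finset.prod_congr rfl fun i _ => ?_)
    rw [Polynomial.map_sub, Polynomial.map_X, Polynomial.map_C]
    rfl
  show ‖E.val (∏ i, aeval (ω' i) F)‖ = ‖E.val (∏ i, aeval (ν' i) F)‖
  rw [hv, hv]
  exact ((congrArg norm (hωq fun x => aeval x F)).trans (h F)).trans (congrArg norm (hνq fun x => aeval x F)).symm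

variable {k : Type u} [Field k] [IsAlgClosed k] {A : Over (Spec (CommRingCat.of k))} [GrpObj A] [IsCommMonObj A]
  [IsProper A.hom] [GeometricallyIntegral A.hom]

local notation "T₀" => Over.mk (𝟙 (Spec (CommRingCat.of k)))

/-- The characteristic polynomial of an endomorphism. -/
def IsCharPoly (φ : EndAV.End A) (g : ℕ) (P : Polynomial ℚ) : Prop :=
  P.Monic ∧ P.natDegree = 2 * g ∧ ∀ n : ℤ, nu (φ - (n : EndAV.End A)) = P.eval (n : ℚ)

theorem exists_isCharPoly {g : ℕ} (hg : topologicalKrullDim A.left = g) (φ : EndAV.End A) :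
    ∃ P, IsCharPoly φ g P := by
  obtain ⟨R, hR, hd, hn⟩ := exists_poly_nu hg φ
  refine ⟨R.comp (-X), ?_, ?_, fun n => ?_⟩
  · rw [Polynomial.Monic, Polynomial.leadingCoeff_comp (by simp), hR.leadingCoeff, hd]
    simp [pow_mul]
  · rw [Polynomial.natDegree_comp, hd, Polynomial.natDegree_neg, Polynomial.natDegree_X, _root_.mul_one]
  · rw [show φ - (n : EndAV.End A) = φ + ((-n : ℤ) : EndAV.End A) by rw [Int.cast_neg, sub_eq_add_neg], hn]
    simp

/-- The degree of a polynomial in an endomorphism is the product of its values at the roots. -/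
theorem IsCharPoly.nu_aeval {g : ℕ} (hg : topologicalKrullDim A.left = g) {φ : EndAV.End A} {P : Polynomial ℚ}
    (hP : IsCharPoly φ g P) (K : Type*) [Field K] [CharZero K] [IsAlgClosed K] (F : Polynomial ℤ) :
    (nu (aeval φ F) : K) = rootProd (P.map (algebraMap ℚ K)).roots F := by
  obtain ⟨hm, hd, hn⟩ := hP
  have hsp := IsAlgClosed.splits (P.map (algebraMap ℚ K))
  have hcard : (P.map (algebraMap ℚ K)).roots.card = 2 * g := by
    rw [← hsp.natDegree_eq_card_roots, Polynomial.natDegree_map, hd]
  refine eq_rootProd (fun F => nu (aeval φ F)) _ (d := 2 * g) (fun F G => ?_) (fun a => ?_) hcard (fun a => ?_)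
    (fun {r} H => ?_) F
  · show nu (aeval φ (F * G)) = _
    rw [map_mul, nu_mul]
  · show nu (aeval φ (C a)) = _
    rw [Polynomial.aeval_C, eq_intCast, nu_intCast hg]
  · show (nu (aeval φ (X + C a)) : K) = _
    rw [map_add, Polynomial.aeval_X, Polynomial.aeval_C, eq_intCast]
    rw [show φ + (a : EndAV.End A) = φ - ((-a : ℤ) : EndAV.End A) by rw [Int.cast_neg, sub_neg_eq_add], hn]
    have h1 : ((P.eval ((-a : ℤ) : ℚ) : ℚ) : K) = (P.map (algebraMap ℚ K)).eval ((-a : ℤ) : K) := by
      rw [show ((-a : ℤ) : K) = algebraMap ℚ K ((-a : ℤ) : ℚ) from (map_intCast _ _).symm, Polynomial.eval_map_algebraMap,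
        Polynomial.aeval_algebraMap_apply_eq_algebraMap_eval]
      rfl
    conv_rhs at h1 => rw [hsp.eq_prod_roots_of_monic (hm.map _)]
    rw [h1, Polynomial.eval_multiset_prod, Multiset.map_map]
    have h2 : (Polynomial.eval ((-a : ℤ) : K) ∘ fun x : K => X - C x) = Neg.neg ∘ fun x : K => x + (a : K) := by
      funext x; simp; ring
    rw [h2, ← Multiset.map_map, Multiset.prod_map_neg, Multiset.card_map, hcard,
      pow_mul]
    simp
  · obtain ⟨Q, hQ⟩ := exists_nu_poly hg fun i => aeval φ (H i)
    refine ⟨Q, fun c => ?_⟩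
    show nu (aeval φ (∑ i, c i • H i)) = _
    rw [map_sum, ← hQ c]
    refine congrArg nu (Finset.sum_congr rfl fun i _ => map_nsmul _ _ _)

section Tate

variable {g : ℕ} (l : ℕ) [Fact l.Prime] {J : Type*} [Fintype J] [DecidableEq J]
  (b : Module.Basis J ℤ_[l] (AbDual.TateMod A l (Over.mk (𝟙 (Spec (CommRingCat.of k))))))

/-- The `l`-adic representation as a matrix over `ℚ_l`. -/
def tateMat : EndAV.End A →+* Matrix J J ℚ_[l] :=
  ((PadicInt.Coe.ringHom (p := l)).mapMatrix).comp
    (((LinearMap.toMatrixAlgEquiv b).toRingEquiv.toRingHom).comp (EndAV.End.tateRep l T₀))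

theorem det_tateMat (f : EndAV.End A) :
    (tateMat l b f).det = ((LinearMap.det (AbDual.tateMapₗ (l := l) (T := T₀) (EndAV.End.toHom f)) : ℤ_[l]) : ℚ_[l]) := by
  rw [← LinearMap.det_toMatrix b, show ∀ x : ℤ_[l], (x : ℚ_[l]) = PadicInt.Coe.ringHom x from fun x => rfl,
    RingHom.map_det]
  rfl

theorem norm_det_tateMat (hg : topologicalKrullDim A.left = g) (hl : (l : k) ≠ 0) (f : EndAV.End A) :
    ‖(tateMat l b f).det‖ = ‖(nu f : ℚ_[l])‖ := by
  rw [det_tateMat l b, ← LinearMap.det_toMatrix b, ← PadicInt.norm_def]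
  haveI := AVIsog3.isIntegral_left A
  by_cases hf : IsFinite (EndAV.End.toHom f).left
  · haveI := hf
    let a := η[A].left (IsLocalRing.closedPoint k)
    obtain ⟨hne, hv⟩ := padicValNat_degree_eq hg hg (EndAV.End.toHom f) hl b b a
    haveI := AVIsog3.surjective_of_isFinite (EndAV.End.toHom f) rfl
    have hpos := AVIsog3.finrank_pos (EndAV.End.toHom f) a
    rw [← nu_of_finite f hf a, Rat.cast_natCast, PadicInt.norm_eq_zpow_neg_valuation hne, ← hv,
      Padic.norm_eq_zpow_neg_valuation (Nat.cast_ne_zero.2 hpos.ne'), Padic.valuation_natCast]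
  · rw [nu_of_not_finite f hf, Rat.cast_zero, norm_zero, norm_eq_zero]
    rw [injective_tateMap_iff (EndAV.End.toHom f) l hl, injective_iff_map_eq_zero] at hf
    push_neg at hf
    obtain ⟨x, hx, hx0⟩ := hf
    refine Matrix.exists_mulVec_eq_zero_iff.1 ⟨b.repr x, fun h => hx0 ?_, ?_⟩
    · exact b.repr.injective (by ext i; simpa using congrFun h i)
    · rw [LinearMap.toMatrix_mulVec_repr, hx, map_zero]
      rfl

/-- The characteristic polynomial on the Tate module. -/
theorem IsCharPoly.charpoly_tateMat (hg : topologicalKrullDim A.left = g) (hl : (l : k) ≠ 0) {φ : EndAV.End A}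
    {P : Polynomial ℚ} (hP : IsCharPoly φ g P) :
    (tateMat l b φ).charpoly = P.map (algebraMap ℚ ℚ_[l]) := by
  classical
  have hJ : Fintype.card J = 2 * g := by
    have h := norm_det_tateMat l b hg hl ((l : ℤ) : EndAV.End A)
    rw [nu_intCast hg, map_intCast, Rat.cast_pow, Rat.cast_intCast] at h
    have e : ((l : ℤ) : Matrix J J ℚ_[l]) = Matrix.diagonal fun _ => ((l : ℤ) : ℚ_[l]) := by
      rw [← map_intCast (Matrix.scalar J : ℚ_[l] →+* Matrix J J ℚ_[l]) (l : ℤ)]; rfl
    rw [e, Matrix.det_diagonal, Finset.prod_const, Finset.card_univ, norm_pow, norm_pow, Int.cast_natCast,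
      Padic.norm_p] at h
    refine (pow_right_injective₀ (a := (l : ℝ)⁻¹) (inv_pos.2 (by exact_mod_cast (Fact.out : l.Prime).pos)) ?_) h
    exact ne_of_lt (inv_lt_one_of_one_lt₀ (by exact_mod_cast (Fact.out : l.Prime).one_lt))
  symm
  refine eq_of_norm_rootProd_eq l (r := 2 * g) (hP.1.map _) (Matrix.charpoly_monic _)
    (by rw [Polynomial.natDegree_map, hP.2.1]) (by rw [Matrix.charpoly_natDegree_eq_dim, hJ]) fun F => ?_
  have e1 : rootProd ((P.map (algebraMap ℚ ℚ_[l])).map (algebraMap ℚ_[l] (PadicAlgCl l))).roots F =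
      algebraMap ℚ_[l] (PadicAlgCl l) ((nu (aeval φ F) : ℚ) : ℚ_[l]) := by
    rw [Polynomial.map_map, ← IsScalarTower.algebraMap_eq, ← hP.nu_aeval hg (PadicAlgCl l) F, map_ratCast]
  have e2 := map_det_aeval (L := PadicAlgCl l) (tateMat l b) φ F
  rw [e1, ← e2]
  exact ((PadicAlgCl.norm_extends l _).trans (norm_det_tateMat l b hg hl _).symm).trans
    (PadicAlgCl.norm_extends l _).symm

/-- The degree is the determinant on the Tate module. -/
theorem nu_eq_det (hg : topologicalKrullDim A.left = g) (hl : (l : k) ≠ 0) (f : EndAV.End A) :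
    (nu f : ℚ_[l]) = (tateMat l b f).det := by
  obtain ⟨P, hP⟩ := exists_isCharPoly hg f
  have h := hP.2.2 0
  rw [Int.cast_zero, sub_zero, Int.cast_zero] at h
  rw [Matrix.det_eq_sign_charpoly_coeff, hP.charpoly_tateMat l b hg hl, Polynomial.coeff_map, h,
    Polynomial.coeff_zero_eq_eval_zero]
  have hJ : Fintype.card J = 2 * g := by
    rw [← Matrix.charpoly_natDegree_eq_dim (tateMat l b f), hP.charpoly_tateMat l b hg hl, Polynomial.natDegree_map,
      hP.2.1]
  simp [hJ, pow_mul]

end Tate

end Groth.Agent.AVDeg3
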