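import Groth.Agent.AVDeg3.CharPoly
import Groth.Agent.AVIdx.TateInj

/-!
Uniqueness of the characteristic polynomial of an endomorphism, its trace, and its integrality.
-/

noncomputable section

set_option linter.style.haveILetI false
set_option linter.unusedSectionVars false
set_option backward.isDefEq.respectTransparency false
set_option backward.isDefEq.respectTransparency.types false
set_option synthInstance.maxHeartbeats 400000
set_option maxHeartbeats 800000

universe u

open CategoryTheory CategoryTheory.Limits MonoidalCategory CartesianMonoidalCategory MonObj GrpObj AlgebraicGeometry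
open Polynomial (X C aeval)

namespace Groth.Agent.AVDeg3

theorem eq_of_eval_intCast {R : Type*} [CommRing R] [IsDomain R] [CharZero R] {P Q : Polynomial R}
    (h : ∀ n : ℤ, P.eval (n : R) = Q.eval (n : R)) : P = Q :=
  Polynomial.eq_of_infinite_eval_eq _ _ (Set.Infinite.mono (s := Set.range ((↑) : ℤ → R))
    (by rintro _ ⟨n, rfl⟩; exact h n) (Set.infinite_range_of_injective Int.cast_injective))

variable {k : Type u} [Field k] [IsAlgClosed k] {A : Over (Spec (CommRingCat.of k))} [GrpObj A] [IsCommMonObj A]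
  [IsProper A.hom] [GeometricallyIntegral A.hom]

theorem IsCharPoly.unique {g : ℕ} {φ : EndAV.End A} {P Q : Polynomial ℚ} (hP : IsCharPoly φ g P)
    (hQ : ∀ n : ℤ, nu (φ - (n : EndAV.End A)) = Q.eval (n : ℚ)) : Q = P :=
  eq_of_eval_intCast fun n => by rw [← hP.2.2 n, hQ n]

theorem nu_eq_of_spec (f : EndAV.End A) (x : ℚ)
    (h1 : IsFinite (EndAV.End.toHom f).left → ∀ a : A.left, ((EndAV.End.toHom f).left.finrank a : ℚ) = x)
    (h2 : ¬ IsFinite (EndAV.End.toHom f).left → x = 0) : nu f = x := by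
  haveI := AVIsog3.isIntegral_left A
  by_cases hf : IsFinite (EndAV.End.toHom f).left
  · rw [← nu_of_finite f hf (η[A].left (IsLocalRing.closedPoint k)), h1 hf]
  · rw [nu_of_not_finite f hf, h2 hf]

theorem spec_of_nu_eq (f : EndAV.End A) (x : ℚ) (h : nu f = x) :
    (IsFinite (EndAV.End.toHom f).left → ∀ a : A.left, ((EndAV.End.toHom f).left.finrank a : ℚ) = x) ∧
      (¬ IsFinite (EndAV.End.toHom f).left → x = 0) :=
  ⟨fun hf a => (nu_of_finite f hf a).trans h, fun hf => h.symm.trans (nu_of_not_finite f hf)⟩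

theorem toHom_of_sub_intCast (α : A ⟶ A) [IsMonHom α] (n : ℤ) :
    EndAV.End.toHom (EndAV.End.of α - (n : EndAV.End A)) = α * 𝟙 A ^ (-n) := by
  rw [show EndAV.End.of α - (n : EndAV.End A) = EndAV.End.of α + ((-n : ℤ) : EndAV.End A) by
    rw [Int.cast_neg, sub_eq_add_neg], toHom_add_intCast, EndAV.End.toHom_of]

theorem exists_invertible_prime (k : Type u) [Field k] : ∃ l : ℕ, l.Prime ∧ (l : k) ≠ 0 := by
  obtain ⟨N, hN⟩ := exists_bound_natCast_ne_zero k
  obtain ⟨l, hl, hp⟩ := Nat.exists_infinite_primes (N + 1)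
  exact ⟨l, hp, hN l hp (by omega)⟩

/-- The trace on the Tate module is minus the coefficient below the leading one. -/
theorem IsCharPoly.trace_tateMat {g : ℕ} (hg : topologicalKrullDim A.left = g) {φ : EndAV.End A} {P : Polynomial ℚ}
    (hP : IsCharPoly φ g P) (l : ℕ) [Fact l.Prime] (hl : (l : k) ≠ 0) {J : Type*} [Fintype J] [DecidableEq J]
    (b : Module.Basis J ℤ_[l] (AbDual.TateMod A l (Over.mk (𝟙 (Spec (CommRingCat.of k)))))) :
    (tateMat l b φ).trace = -((P.nextCoeff : ℚ) : ℚ_[l]) := by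
  rcases isEmpty_or_nonempty J with hJ | hJ
  · have h := hP.charpoly_tateMat l b hg hl
    rw [Matrix.charpoly, Matrix.det_isEmpty, eq_comm, ← Polynomial.map_one (algebraMap ℚ ℚ_[l]),
      (Polynomial.map_injective _ (algebraMap ℚ ℚ_[l]).injective).eq_iff] at h
    rw [h]
    simp [Polynomial.nextCoeff, Matrix.trace]
  · rw [Matrix.trace_eq_neg_charpoly_nextCoeff, hP.charpoly_tateMat l b hg hl,
      Polynomial.nextCoeff_map (algebraMap ℚ ℚ_[l]).injective, eq_ratCast]

/-- The product over the roots of a linear polynomial having a big root is big. -/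
theorem coeff_prod_norm_le {K : Type*} [NormedField K] [IsUltrametricDist K] (s : Multiset K)
    (hs : ∀ x ∈ s, ‖x‖ ≤ 1) : ∀ i, ‖((s.map fun x => X - C x).prod).coeff i‖ ≤ 1 := by
  induction s using Multiset.induction_on with
  | empty =>
    intro i
    simp only [Multiset.map_zero, Multiset.prod_zero, Polynomial.coeff_one]
    split <;> simp
  | cons a s ih =>
    intro i
    have ih' := ih fun x hx => hs x (Multiset.mem_cons_of_mem hx)
    have ha := hs a (Multiset.mem_cons_self a s)
    rw [Multiset.map_cons, Multiset.prod_cons, sub_mul, Polynomial.coeff_sub, Polynomial.coeff_C_mul]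
    rw [sub_eq_add_neg]
    refine (IsUltrametricDist.norm_add_le_max _ _).trans (max_le ?_ ?_)
    · cases i with
      | zero => simp
      | succ i => rw [Polynomial.coeff_X_mul]; exact ih' i
    · rw [norm_neg, norm_mul]; exact mul_le_one₀ ha (norm_nonneg _) (ih' i)

/-- The roots of the characteristic polynomial are integral at every prime. -/
theorem IsCharPoly.norm_root_le_one {g : ℕ} (hg : topologicalKrullDim A.left = g) {φ : EndAV.End A} {P : Polynomial ℚ}
    (hP : IsCharPoly φ g P) (p : ℕ) [Fact p.Prime] :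
    ∀ x ∈ (P.map (algebraMap ℚ (PadicAlgCl p))).roots, ‖x‖ ≤ 1 := by
  classical
  intro x hx
  by_contra hbig
  rw [not_le] at hbig
  have hp0 : (0 : ℝ) < (p : ℝ)⁻¹ := inv_pos.2 (by exact_mod_cast (Fact.out : p.Prime).pos)
  have hp1 : (p : ℝ)⁻¹ < 1 := inv_lt_one_of_one_lt₀ (by exact_mod_cast (Fact.out : p.Prime).one_lt)
  let s := (P.map (algebraMap ℚ (PadicAlgCl p))).roots
  obtain ⟨N, hN⟩ : ∃ N : ℕ, ∀ y ∈ s, 1 < ‖y‖ → 1 < (p : ℝ)⁻¹ * ‖y‖ ^ (N + 1) := by
    have h : ∀ y : PadicAlgCl p, ∀ᶠ N : ℕ in Filter.atTop, 1 < ‖y‖ → 1 < (p : ℝ)⁻¹ * ‖y‖ ^ (N + 1) := by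
      intro y
      by_cases hy : 1 < ‖y‖
      · filter_upwards [(((tendsto_pow_atTop_atTop_of_one_lt hy).comp (Filter.tendsto_add_atTop_nat 1)).const_mul_atTop
          hp0).eventually_gt_atTop 1] with N hN _ using hN
      · exact Filter.Eventually.of_forall fun N h => absurd h hy
    obtain ⟨N, hN⟩ := (s.toFinset.eventually_all.2 fun y _ => h y).exists
    exact ⟨N, fun y hy => hN y (Multiset.mem_toFinset.2 hy)⟩
  let F : Polynomial ℤ := 1 + C (p : ℤ) * X ^ (N + 1)
  have hpn : ‖(p : PadicAlgCl p)‖ = (p : ℝ)⁻¹ := by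
    rw [← map_natCast (algebraMap ℚ_[p] (PadicAlgCl p)), ← Padic.norm_p (p := p)]
    exact PadicAlgCl.norm_extends p _
  have hF : ∀ y ∈ s, ‖aeval y F‖ = if 1 < ‖y‖ then (p : ℝ)⁻¹ * ‖y‖ ^ (N + 1) else 1 := by
    intro y hy
    have e : aeval y F = 1 + (p : PadicAlgCl p) * y ^ (N + 1) := by simp [F]
    have e2 : ‖(p : PadicAlgCl p) * y ^ (N + 1)‖ = (p : ℝ)⁻¹ * ‖y‖ ^ (N + 1) := by rw [norm_mul, norm_pow, hpn]
    rw [e]
    split_ifs with h
    · rw [IsUltrametricDist.norm_add_eq_max_of_norm_ne_norm (by rw [e2, norm_one]; exact (hN y hy h).ne), e2, norm_one,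
        max_eq_right (hN y hy h).le]
    · have h2 : (p : ℝ)⁻¹ * ‖y‖ ^ (N + 1) < 1 :=
        lt_of_le_of_lt (mul_le_of_le_one_right hp0.le (pow_le_one₀ (norm_nonneg _) (not_lt.1 h))) hp1
      rw [IsUltrametricDist.norm_add_eq_max_of_norm_ne_norm (by rw [e2, norm_one]; exact h2.ne'), e2, norm_one,
        max_eq_left h2.le]
  have hle : ‖(nu (aeval φ F) : PadicAlgCl p)‖ ≤ 1 := by
    by_cases hf : IsFinite (EndAV.End.toHom (aeval φ F)).left
    · rw [← nu_of_finite _ hf (η[A].left (IsLocalRing.closedPoint k)), Rat.cast_natCast]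
      exact IsUltrametricDist.norm_natCast_le_one _ _
    · rw [nu_of_not_finite _ hf, Rat.cast_zero, norm_zero]; exact zero_le_one
  rw [hP.nu_aeval hg (PadicAlgCl p) F, rootProd] at hle
  obtain ⟨t, ht⟩ := Multiset.exists_cons_of_mem (show x ∈ s from hx)
  rw [show (P.map (algebraMap ℚ (PadicAlgCl p))).roots = x ::ₘ t from ht, Multiset.map_cons, Multiset.prod_cons,
    norm_mul] at hle
  have h1 : 1 < ‖aeval x F‖ := by rw [hF x hx, if_pos hbig]; exact hN x hx hbig
  have h2 : 1 ≤ ‖(t.map fun y => aeval y F).prod‖ := by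
    have h3 : ∀ u : Multiset (PadicAlgCl p), (∀ z ∈ u, 1 ≤ ‖z‖) → 1 ≤ ‖u.prod‖ := by
      intro u
      induction u using Multiset.induction_on with
      | empty => simp
      | cons z u ih =>
        intro hu
        rw [Multiset.prod_cons, norm_mul]
        exact one_le_mul_of_one_le_of_one_le (hu z (Multiset.mem_cons_self z u))
          (ih fun w hw => hu w (Multiset.mem_cons_of_mem hw))
    refine h3 _ fun z hz => ?_
    obtain ⟨y, hy, rfl⟩ := Multiset.mem_map.1 hz
    have hys : y ∈ s := ht ▸ Multiset.mem_cons_of_mem hy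
    rw [hF y hys]
    split_ifs with h
    · exact (hN y hys h).le
    · exact le_rfl
  exact absurd hle (not_le.2 (one_lt_mul_of_lt_of_le h1 h2))

/-- The characteristic polynomial has integer coefficients. -/
theorem IsCharPoly.exists_int {g : ℕ} (hg : topologicalKrullDim A.left = g) {φ : EndAV.End A} {P : Polynomial ℚ}
    (hP : IsCharPoly φ g P) : ∃ P' : Polynomial ℤ, P'.map (Int.castRingHom ℚ) = P := by
  have hc : ∀ i, ∃ z : ℤ, (z : ℚ) = P.coeff i := by
    intro i
    have hden : (P.coeff i).den = 1 := by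
      rw [Nat.eq_one_iff_not_exists_prime_dvd]
      intro p hp hdvd
      haveI := Fact.mk hp
      let PK := P.map (algebraMap ℚ (PadicAlgCl p))
      have h1 : ‖PK.coeff i‖ ≤ 1 := by
        rw [(IsAlgClosed.splits PK).eq_prod_roots_of_monic (hP.1.map _)]
        exact coeff_prod_norm_le _ (hP.norm_root_le_one hg p) i
      rw [Polynomial.coeff_map, eq_ratCast, ← map_ratCast (algebraMap ℚ_[p] (PadicAlgCl p))] at h1
      have h2 : ‖((P.coeff i : ℚ) : ℚ_[p])‖ ≤ 1 := (PadicAlgCl.norm_extends p _).symm.trans_le h1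
      rw [Rat.cast_def, norm_div] at h2
      have hnum : ‖((P.coeff i).num : ℚ_[p])‖ = 1 := by
        refine le_antisymm (Padic.norm_int_le_one _) (not_lt.1 fun h => ?_)
        rw [Padic.norm_intCast_lt_one_iff] at h
        have h3 : p ∣ Nat.gcd (P.coeff i).num.natAbs (P.coeff i).den :=
          Nat.dvd_gcd (Int.natCast_dvd.1 h) hdvd
        rw [(P.coeff i).reduced] at h3
        exact hp.ne_one (Nat.dvd_one.1 h3)
      have hdlt : ‖((P.coeff i).den : ℚ_[p])‖ < 1 := Padic.norm_natCast_lt_one_iff.2 hdvd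
      rw [hnum, div_le_one (norm_pos_iff.2 (Nat.cast_ne_zero.2 (P.coeff i).den_nz))] at h2
      exact absurd hdlt (not_lt.2 h2)
    exact ⟨(P.coeff i).num, Rat.coe_int_num_of_den_eq_one hden⟩
  exact (Polynomial.mem_lifts P).1 ((Polynomial.lifts_iff_coeff_lifts P).2 fun i => hc i)

end Groth.Agent.AVDeg3
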