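import Groth.Agent.AVDeg3.CharPolyApi
import Groth.Agent.AVIdx.TateBc
import Groth.Agent.AVIdx.TateRank

/-!
The characteristic polynomial of an endomorphism of an abelian variety over any field.
-/

noncomputable section

set_option linter.style.haveILetI false
set_option linter.unusedSectionVars false
set_option backward.isDefEq.respectTransparency false
set_option backward.isDefEq.respectTransparency.types false
set_option synthInstance.maxHeartbeats 400000
set_option maxHeartbeats 800000

universe u

open CategoryTheory CategoryTheory.Limits MonoidalCategory CartesianMonoidalCategory MonObj GrpObj AlgebraicGeometry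

namespace Groth.Agent.AVDeg3

variable {k : Type u} [Field k] {A : Over (Spec (CommRingCat.of k))}
  [GrpObj A] [IsCommMonObj A] [IsProper A.hom] [GeometricallyIntegral A.hom]
  (Ω : Type u) [Field Ω] [Algebra k Ω] [IsAlgClosed Ω]

/-- The rank of a finite endomorphism is constant. -/
theorem finrank_const_av (f : A ⟶ A) [IsMonHom f] [IsFinite f.left] (a b : A.left) :
    f.left.finrank a = f.left.finrank b := by
  haveI := AVIsog3.surjective_of_isFinite f rfl
  haveI := AVIsog3.flat_of_surjective f
  haveI := AVIsog3.lfp_left f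
  haveI := AVIsog3.isIntegral_left A
  exact (f.left.isLocallyConstant_finrank).apply_eq_of_preconnectedSpace a b

/-- An endomorphism is finite if and only if it is so geometrically. -/
theorem isFinite_bc_iff (f : A ⟶ A) [IsMonHom f] :
    IsFinite ((Over.pullback (AVIdx.fieldMap (k := k) Ω)).map f).left ↔ IsFinite f.left := by
  let σ := AVIdx.fieldMap (k := k) Ω
  let A' := Red.bc σ A
  haveI : IsProper A'.hom := inferInstanceAs (IsProper (pullback.snd A.hom σ))
  haveI : GeometricallyIntegral A'.hom := inferInstanceAs (GeometricallyIntegral (pullback.snd A.hom σ))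
  have hsq := AVIdx.isPullback_map_left' σ f
  refine ⟨fun h => ?_, fun h => MorphismProperty.of_isPullback hsq h⟩
  let f' : A' ⟶ A' := (Over.pullback σ).map f
  haveI : IsFinite f'.left := h
  haveI := AVIsog3.surjective_of_isFinite f' rfl
  obtain ⟨_, _⟩ := AVIdx.flat_fieldMap (k := k) Ω
  haveI : Surjective (pullback.fst A.hom σ) := inferInstance
  haveI : Surjective f.left := by
    refine ⟨fun y => ?_⟩
    obtain ⟨y', hy'⟩ := (pullback.fst A.hom σ).surjective y
    obtain ⟨x', hx'⟩ := f'.left.surjective y'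
    refine ⟨(pullback.fst A.hom σ) x', ?_⟩
    rw [← Scheme.Hom.comp_apply, hsq.w, Scheme.Hom.comp_apply]
    exact (congrArg _ hx').trans hy'
  exact AVIsog3.isFinite_of_surjective f rfl

/-- The degree is geometric. -/
theorem finrank_bc (f : A ⟶ A) [IsMonHom f] [IsFinite f.left] (a : (Red.bc (AVIdx.fieldMap (k := k) Ω) A).left)
    (b : A.left) :
    ((Over.pullback (AVIdx.fieldMap (k := k) Ω)).map f).left.finrank a = f.left.finrank b := by
  haveI := AVIsog3.surjective_of_isFinite f rfl
  haveI := AVIsog3.flat_of_surjective f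
  exact (Scheme.Hom.finrank_of_isPullback _ _ _ _ (AVIdx.isPullback_map_left' _ f) a).trans
    (finrank_const_av f _ b)

/-- Characteristic polynomials over an arbitrary field. -/
theorem exists_charpoly {g : ℕ} (hg : topologicalKrullDim A.left = g) (φ : EndAV.End A) :
    ∃ P : Polynomial ℤ, P.Monic ∧ P.natDegree = 2 * g ∧
      (∀ n : ℤ, (IsFinite (EndAV.End.toHom (φ - (n : EndAV.End A))).left →
          ∀ a : A.left, ((EndAV.End.toHom (φ - (n : EndAV.End A))).left.finrank a : ℤ) = P.eval n) ∧
        (¬ IsFinite (EndAV.End.toHom (φ - (n : EndAV.End A))).left → P.eval n = 0)) ∧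
      ∀ (l : ℕ) [Fact l.Prime], (l : k) ≠ 0 →
        ∀ [Module.Free ℤ_[l] (AbDual.TateMod A l (Over.mk (AVIdx.fieldMap (k := k) Ω)))]
          [Module.Finite ℤ_[l] (AbDual.TateMod A l (Over.mk (AVIdx.fieldMap (k := k) Ω)))],
          (EndAV.End.tateRep l (Over.mk (AVIdx.fieldMap (k := k) Ω)) φ).charpoly = P.map (Int.castRingHom ℤ_[l]) := by
  classical
  let σ := AVIdx.fieldMap (k := k) Ω
  let A' := Red.bc σ A
  haveI : IsProper A'.hom := inferInstanceAs (IsProper (pullback.snd A.hom σ))
  haveI : GeometricallyIntegral A'.hom := inferInstanceAs (GeometricallyIntegral (pullback.snd A.hom σ))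
  haveI : IsCommMonObj A' := isCommMonObj_of_isProper_of_geometricallyIntegral A'
  have hg' : topologicalKrullDim A'.left = g := AVIdx.dim_bc Ω A hg
  obtain ⟨Q, hQ⟩ := exists_isCharPoly hg' (AVIdx.TateBc.bcEnd σ A φ)
  obtain ⟨P, hP⟩ := hQ.exists_int hg'
  have hinj := (Int.castRingHom ℚ).injective_int
  refine ⟨P, Polynomial.monic_of_injective hinj (hP ▸ hQ.1), ?_, fun n => ?_, fun l hlp hl => ?_⟩
  · rw [← hQ.2.1, ← hP, Polynomial.natDegree_map_eq_of_injective hinj]
  · haveI := AVIsog3.isIntegral_left A'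
    have h : ((P.eval n : ℤ) : ℚ) = Q.eval (n : ℚ) := by
      rw [← hP, show ((n : ℤ) : ℚ) = Int.castRingHom ℚ n from rfl, Polynomial.eval_map_apply]
      rfl
    have e : AVIdx.TateBc.bcEnd σ A φ - (n : EndAV.End A') = AVIdx.TateBc.bcEnd σ A (φ - (n : EndAV.End A)) := by
      rw [map_sub, map_intCast]
    obtain ⟨h1, h2⟩ := spec_of_nu_eq _ _ ((e ▸ hQ.2.2 n : nu (AVIdx.TateBc.bcEnd σ A (φ - (n : EndAV.End A))) = _).trans h.symm)
    let f := EndAV.End.toHom (φ - (n : EndAV.End A))
    have hiff := isFinite_bc_iff Ω f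
    refine ⟨fun hf a => ?_, fun hf => ?_⟩
    · haveI := hf
      let a' := η[A'].left (IsLocalRing.closedPoint Ω)
      have h3 : ((f.left.finrank a : ℕ) : ℚ) = ((P.eval n : ℤ) : ℚ) := by
        rw [← finrank_bc Ω f a' a]
        exact h1 (hiff.2 hf) a'
      exact_mod_cast h3
    · exact_mod_cast h2 fun h => hf (hiff.1 h)
  · intro _ _
    haveI := AVTate3.free_tateMod (A := A') (𝟙 (Spec (CommRingCat.of Ω))) l
    haveI := AVTate3.finite_tateMod (A := A') (𝟙 (Spec (CommRingCat.of Ω))) l
    have hlΩ : (l : Ω) ≠ 0 := by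
      intro h0
      refine hl ((algebraMap k Ω).injective ?_)
      rw [map_natCast, map_zero, h0]
    let b := Module.Free.chooseBasis ℤ_[l] (AbDual.TateMod A' l (Over.mk (𝟙 (Spec (CommRingCat.of Ω)))))
    have h1 : (EndAV.End.tateRep l (Over.mk (𝟙 (Spec (CommRingCat.of Ω)))) (AVIdx.TateBc.bcEnd σ A φ)).charpoly =
        P.map (Int.castRingHom ℤ_[l]) := by
      refine Polynomial.map_injective (PadicInt.Coe.ringHom (p := l)) Subtype.val_injective ?_
      rw [Polynomial.map_map, ← LinearMap.charpoly_toMatrix _ b, ← Matrix.charpoly_map]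
      refine (hQ.charpoly_tateMat l b hg' hlΩ).trans ?_
      rw [← hP, Polynomial.map_map]
      exact congrArg (fun r => P.map r) (RingHom.ext_int _ _)
    rw [← h1]
    haveI : Module.Free ℤ_[l] (AbDual.TateMod (Red.bc σ A) l (𝟙_ (Over (Spec (CommRingCat.of Ω))))) :=
      Module.Free.of_equiv (AVIdx.TateBc.equiv σ A l)
    haveI : Module.Finite ℤ_[l] (AbDual.TateMod (Red.bc σ A) l (𝟙_ (Over (Spec (CommRingCat.of Ω))))) :=
      Module.Finite.equiv (AVIdx.TateBc.equiv σ A l)
    have h2 := AVIdx.TateBc.tateRep_eq σ A l φ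
    exact ((LinearEquiv.charpoly_conj (AVIdx.TateBc.equiv σ A l) _).symm.trans (congrArg LinearMap.charpoly h2).symm)

end Groth.Agent.AVDeg3
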