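import Mathlib.RingTheory.Bialgebra.Convolution
import Mathlib.LinearAlgebra.FiniteDimensional.Basic
import Mathlib.Algebra.CharP.Algebra
import Mathlib.FieldTheory.Perfect
import Mathlib.Algebra.CharP.Lemmas

/-!
On a finite cocommutative bialgebra in characteristic `p`, multiplication by `p` takes values in `p`-th powers.
-/

noncomputable section

open WithConv Coalgebra TensorProduct

namespace Groth.Agent.AVDeg3.ConvFrob

variable {k : Type*} [Field k] {H : Type*} [CommRing H] [Bialgebra k H]

/-- Powers of a rank one map are rank one. -/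
theorem exists_pow_smulRight (φ : H →ₗ[k] k) (e : H) : ∀ n : ℕ, ∃ ψ : H →ₗ[k] k, ∀ x : H,
    ((toConv (φ.smulRight e) : WithConv (H →ₗ[k] H)) ^ n) x = ψ x • e ^ n
  | 0 => ⟨counit, fun x => by rw [pow_zero, LinearMap.convOne_apply, pow_zero, Algebra.algebraMap_eq_smul_one]⟩
  | n + 1 => by
    obtain ⟨ψ, hψ⟩ := exists_pow_smulRight φ e n
    refine ⟨(LinearMap.mul' k k) ∘ₗ TensorProduct.map ψ φ ∘ₗ comul, fun x => ?_⟩
    rw [pow_succ, (ℛ k x).convMul_apply]
    simp only [hψ, LinearMap.comp_apply]
    rw [← (ℛ k x).eq, map_sum, map_sum, Finset.sum_smul]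
    refine Finset.sum_congr rfl fun i _ => ?_
    rw [TensorProduct.map_tmul, LinearMap.mul'_apply, pow_succ]
    show ψ _ • e ^ n * (φ _ • e) = _
    rw [smul_mul_smul_comm]

variable (p : ℕ) [Fact p.Prime] [CharP k p] [PerfectRing k p] [IsCocomm k H] [Module.Finite k H]

/-- The `p`-th convolution power of the identity takes values in `p`-th powers. -/
theorem exists_eq_pow (x : H) :
    ∃ b : H, ((toConv (LinearMap.id : H →ₗ[k] H) : WithConv (H →ₗ[k] H)) ^ p) x = b ^ p := by
  classical
  haveI : Nontrivial H := (Bialgebra.counitAlgHom k H).toRingHom.domain_nontrivial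
  haveI : CharP H p := charP_of_injective_algebraMap (algebraMap k H).injective p
  haveI : Nontrivial (WithConv (H →ₗ[k] H)) := ⟨1, 0, fun h => by
    have h1 := congrArg (fun f : WithConv (H →ₗ[k] H) => f (1 : H)) h
    simp at h1⟩
  haveI : CharP (WithConv (H →ₗ[k] H)) p :=
    charP_of_injective_algebraMap (algebraMap k (WithConv (H →ₗ[k] H))).injective p
  let b := Module.finBasis k H
  have hid : (toConv (LinearMap.id : H →ₗ[k] H) : WithConv (H →ₗ[k] H)) =
      ∑ i, toConv ((b.coord i).smulRight (b i)) := by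
    apply WithConv.ofConv_injective
    rw [WithConv.ofConv_sum]
    refine LinearMap.ext fun y => ?_
    simp only [LinearMap.coe_sum, Finset.sum_apply, WithConv.ofConv_toConv, LinearMap.smulRight_apply,
      Module.Basis.coord_apply, b.sum_repr, LinearMap.id_apply]
  choose ψ hψ using fun i => exists_pow_smulRight (b.coord i) (b i) p
  choose c hc using fun i => (bijective_frobenius k p).2 (ψ i x)
  refine ⟨∑ i, c i • b i, ?_⟩
  rw [hid, sum_pow_char p, sum_pow_char p]
  have happ : ∀ (s : Finset (Fin (Module.finrank k H))) (f : Fin (Module.finrank k H) → WithConv (H →ₗ[k] H)),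
      (∑ i ∈ s, f i) x = ∑ i ∈ s, f i x := fun s f => by
    induction s using Finset.induction with
    | empty => simp
    | @insert a s ha ih => rw [Finset.sum_insert ha, Finset.sum_insert ha, ← ih]; rfl
  rw [happ]
  refine Finset.sum_congr rfl fun i _ => ?_
  rw [hψ, smul_pow, ← hc i, frobenius_def]

/-- Iteration: the `p^j`-th convolution power of the identity takes values in `p^j`-th powers. -/
theorem exists_eq_pow_pow (N : ℕ → (H →ₐ[k] H)) (h0 : N 0 = AlgHom.id k H)
    (hs : ∀ j, N (j + 1) = (N j).comp (N 1))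
    (h1 : (N 1).toLinearMap = ((toConv (LinearMap.id : H →ₗ[k] H) : WithConv (H →ₗ[k] H)) ^ p).ofConv) :
    ∀ (j : ℕ) (x : H), ∃ b : H, N j x = b ^ (p ^ j)
  | 0, x => ⟨x, by rw [h0, pow_zero, pow_one]; rfl⟩
  | j + 1, x => by
    obtain ⟨b, hb⟩ := exists_eq_pow (k := k) p x
    have hb' : N 1 x = b ^ p := (LinearMap.congr_fun h1 x).trans hb
    obtain ⟨b', hb''⟩ := exists_eq_pow_pow N h0 hs h1 j b
    exact ⟨b', by rw [hs, AlgHom.comp_apply, hb', map_pow, hb'', ← pow_mul, ← pow_succ]⟩

end Groth.Agent.AVDeg3.ConvFrob
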