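import Groth.Agent.AVFac.Kernel
import Groth.Agent.AVFac.Card
import Groth.Agent.AVFac.Tate
import Groth.Agent.GrpSchLib.HomFinite
import Groth.Agent.AVTate3.AbVar
import Groth.Agent.AVIdx.TateCoker
import Groth.Agent.AVIdx.TateInj
import Groth.Agent.AVIsog3.Basic

/-!
Homomorphisms of abelian varieties over an algebraically closed field with infinite kernel kill an abelian
subvariety of positive dimension, hence nonzero torsion points and Tate vectors.
-/

set_option linter.style.haveILetI false
set_option linter.unusedSectionVars false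
set_option backward.isDefEq.respectTransparency false
set_option backward.isDefEq.respectTransparency.types false

universe u

open CategoryTheory CategoryTheory.Limits MonoidalCategory CartesianMonoidalCategory MonObj GrpObj AlgebraicGeometry
open TopologicalSpace

namespace Groth.Agent.AVDeg3

variable {k : Type u} [Field k] [IsAlgClosed k] {A B : Over (Spec (CommRingCat.of k))}
  [GrpObj A] [IsProper A.hom] [GeometricallyIntegral A.hom] [GrpObj B] [IsSeparated B.hom] [LocallyOfFiniteType B.hom]

/-- A homomorphism with finitely many rational points in its kernel is finite. -/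
theorem isFinite_of_finite_ker (u : A ⟶ B) [IsMonHom u]
    (h : Set.Finite {x : 𝟙_ (Over (Spec (CommRingCat.of k))) ⟶ A | x ≫ u = η[B]}) : IsFinite u.left := by
  haveI : IsProper u.left := by
    haveI : IsProper (u.left ≫ B.hom) := by rw [Over.w u]; infer_instance
    exact IsProper.of_comp u.left B.hom
  haveI : JacobsonSpace A.left := LocallyOfFiniteType.jacobsonSpace A.hom
  let pt := IsLocalRing.closedPoint k
  have hy₀ : IsClosed ({η[B].left pt} : Set B.left) := by
    haveI : IsClosedImmersion η[B].left := isClosedImmersion_of_comp_eq_id B.hom _ (Over.w η[B])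
    have := η[B].left.isClosedEmbedding.isClosed_range
    rwa [AVFac.range_pt η[B]] at this
  have hfin : (u.left ⁻¹' {η[B].left pt}).Finite := by
    have hsub : u.left ⁻¹' {η[B].left pt} ∩ closedPoints A.left ⊆
        (fun x : 𝟙_ (Over (Spec (CommRingCat.of k))) ⟶ A => AVFac.ptOf x) '' {x | x ≫ u = η[B]} := by
      rintro z ⟨hz, hzc⟩
      refine ⟨AVFac.ptAt z hzc, ?_, AVFac.ptAt_apply z hzc⟩
      refine Over.OverMorphism.ext (ext_of_apply_closedPoint_eq B.hom (Over.w _) (Over.w η[B]) ?_)
      show u.left (AVFac.ptOf (AVFac.ptAt z hzc)) = _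
      rw [AVFac.ptOf, AVFac.ptAt_apply]
      exact hz
    have hcl : IsClosed (u.left ⁻¹' {η[B].left pt}) := hy₀.preimage u.left.continuous
    have h1 := (h.image fun x => AVFac.ptOf x).subset hsub
    have h2 : IsClosed (u.left ⁻¹' {η[B].left pt} ∩ closedPoints A.left) := by
      rw [← Set.biUnion_of_singleton (u.left ⁻¹' {η[B].left pt} ∩ closedPoints A.left)]
      exact h1.isClosed_biUnion fun z hz => hz.2
    refine h1.subset fun x hx => ?_
    rw [← h2.closure_eq, closure_inter_closedPoints hcl]
    exact hx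
  haveI : LocallyQuasiFinite u.left := GrpSchLib.HomFinite.locallyQuasiFinite_of_finite_preimage u hfin
  exact GrpSchLib.HomFinite.isFinite_of_isAlgClosed u

theorem subsingleton_of_dim_zero' (C : Over (Spec (CommRingCat.of k))) [GeometricallyIntegral C.hom]
    (hC : topologicalKrullDim C.left = ((0 : ℕ) : WithBot ℕ∞)) : Subsingleton C.left := by
  haveI : IsIntegral C.left := GeometricallyIntegral.isIntegral_of_subsingleton C.hom
  have hmax := Order.krullDim_nonpos_iff_forall_isMin.1 (hC.le : Order.krullDim (IrreducibleCloseds C.left) ≤ 0)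
  have htop : ∀ x : C.left, IsGenericPoint x Set.univ := fun x => by
    let a : IrreducibleCloseds C.left := ⟨closure {x}, isIrreducible_singleton.closure, isClosed_closure⟩
    let t : IrreducibleCloseds C.left := ⟨Set.univ, IrreducibleSpace.isIrreducible_univ _, isClosed_univ⟩
    exact Set.eq_univ_of_univ_subset ((hmax t) (show a ≤ t from Set.subset_univ _))
  exact ⟨fun x y => (htop x).eq (htop y)⟩

/-- A homomorphism which is not finite kills an abelian subvariety of positive dimension. -/
theorem exists_abelian_in_ker [IsReduced A.left] (u : A ⟶ B) [IsMonHom u] (hu : ¬ IsFinite u.left) :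
    ∃ (C : Over (Spec (CommRingCat.of k))) (_ : GrpObj C) (j : C ⟶ A) (g : ℕ), IsMonHom j ∧ IsClosedImmersion j.left ∧
      IsProper C.hom ∧ GeometricallyIntegral C.hom ∧ topologicalKrullDim C.left = g ∧ 0 < g ∧
      j ≫ u = toUnit C ≫ η[B] := by
  classical
  let pt := IsLocalRing.closedPoint k
  let S : Set A.left := u.left ⁻¹' {AVFac.ptOf η[B]}
  have hmem : ∀ a : 𝟙_ (Over (Spec (CommRingCat.of k))) ⟶ A, AVFac.ptOf a ∈ S ↔ a ≫ u = η[B] := fun a => by
    refine ⟨fun h => Over.OverMorphism.ext (ext_of_apply_closedPoint_eq B.hom (Over.w _) (Over.w η[B]) h), fun h => ?_⟩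
    show u.left (AVFac.ptOf a) = _
    rw [← AVFac.ptOf_comp, h]
  have hη : η[B] = (1 : 𝟙_ (Over (Spec (CommRingCat.of k))) ⟶ B) := AVFac.eta_eq_one B
  have hS : AVFac.IsSubgroupSet S :=
    { closed := by
        haveI : IsClosedImmersion η[B].left := isClosedImmersion_of_comp_eq_id B.hom _ (Over.w η[B])
        have := η[B].left.isClosedEmbedding.isClosed_range
        rw [AVFac.range_pt η[B]] at this
        exact this.preimage u.left.continuous
      one := (hmem _).2 (IsMonHom.one_hom u)
      mul := fun a b ha hb => (hmem _).2 (by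
        rw [MonObj.mul_comp, (hmem _).1 ha, (hmem _).1 hb, hη, _root_.mul_one])
      inv := fun a ha => (hmem _).2 (by rw [GrpObj.inv_comp, (hmem _).1 ha, hη, inv_one]) }
  obtain ⟨C, hC, j, hjm, hjc, hCp, hCg, hr, F, hF⟩ := AVFac.exists_abelian_finite_index hS
  obtain ⟨g, hg⟩ := AVIdx.exists_dim C
  refine ⟨C, hC, j, g, hjm, hjc, hCp, hCg, hg, Nat.pos_of_ne_zero ?_, ?_⟩
  · rintro rfl
    refine hu (isFinite_of_finite_ker u ?_)
    haveI : Subsingleton (𝟙_ (Over (Spec (CommRingCat.of k))) ⟶ C) := by
      haveI : IsIntegral C.left := AVIsog3.isIntegral_left C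
      haveI : Subsingleton C.left := subsingleton_of_dim_zero' C hg
      refine ⟨fun a b => Over.OverMorphism.ext ?_⟩
      exact ext_of_apply_closedPoint_eq C.hom (Over.w a) (Over.w b) (Subsingleton.elim _ _)
    refine (F.finite_toSet.image fun f => f * (η[C] ≫ j)).subset fun a ha => ?_
    obtain ⟨f, hf, b, rfl⟩ := hF a ((hmem a).2 ha)
    exact ⟨f, hf, by rw [Subsingleton.elim b η[C]]⟩
  · haveI : IsIntegral C.left := AVIsog3.isIntegral_left C
    refine AVFac.ext_pts fun x => ?_
    rw [← Category.assoc, ← Category.assoc, toUnit_unique (x ≫ toUnit C) (𝟙 _), Category.id_comp]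
    exact (hmem _).1 (hr ⟨_, rfl⟩)

/-- An abelian variety of positive dimension has a nonzero point of order `l`. -/
theorem exists_torsion_ne_one {C : Over (Spec (CommRingCat.of k))} [GrpObj C] [IsProper C.hom] [GeometricallyIntegral C.hom]
    {g : ℕ} (hg : topologicalKrullDim C.left = g) (hg0 : 0 < g) {l : ℕ} (hl : 1 < l) (hlk : (l : k) ≠ 0) :
    ∃ x : 𝟙_ (Over (Spec (CommRingCat.of k))) ⟶ C, x ^ l = 1 ∧ x ≠ 1 := by
  by_contra h
  push Not at h
  haveI : Subsingleton {x : 𝟙_ (Over (Spec (CommRingCat.of k))) ⟶ C // x ^ l = 1} :=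
    ⟨fun a b => Subtype.ext ((h a.1 a.2).trans (h b.1 b.2).symm)⟩
  have h1 := AVFac.card_torsion hg hlk
  have h2 : 1 < l ^ (2 * g) := one_lt_pow₀ hl (by omega)
  exact absurd (Finite.card_le_one_iff_subsingleton.2 this) (by omega)

/-- A subgroup of a commutative group object is commutative. -/
theorem isCommMonObj_of_mono {C A : Over (Spec (CommRingCat.of k))} [GrpObj C] [GrpObj A] [IsCommMonObj A]
    (j : C ⟶ A) [IsMonHom j] [Mono j] : IsCommMonObj C := by
  refine ⟨(cancel_mono j).1 ?_⟩
  rw [Category.assoc, IsMonHom.mul_hom j, ← Category.assoc, ← BraidedCategory.braiding_naturality, Category.assoc,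
    IsCommMonObj.mul_comm]

theorem eq_zero_of_tateMap_injective {S : Scheme.{u}} {C A B T : Over S} [GrpObj C] [IsCommMonObj C] [GrpObj A]
    [IsCommMonObj A] [GrpObj B] [IsCommMonObj B] {l : ℕ} [Fact l.Prime] (j : C ⟶ A) [IsMonHom j] [Mono j]
    (u : A ⟶ B) [IsMonHom u] (h : ∀ b : T ⟶ C, b ≫ j ≫ u = 1)
    (hinj : Function.Injective (AbDual.tateMapₗ (l := l) (T := T) u)) (x : AbDual.TateMod C l T) : x = 0 := by
  have h0 : AbDual.tateMapₗ (l := l) (T := T) u (AbDual.tateMapₗ (l := l) (T := T) j x) = 0 :=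
    AbDual.TateMod.ext fun n => by
      show Additive.ofMul ((((x : ℕ → Additive (T ⟶ C)) n).toMul ≫ j) ≫ u) = 0
      rw [Category.assoc, h _]
      rfl
  exact (AVTate3.tateMap_saturated (T := T) j).1 ((hinj (h0.trans (map_zero _).symm)).trans (map_zero _).symm)

/-- A homomorphism kills no nonzero Tate vector if and only if it is finite. -/
theorem injective_tateMap_iff [IsCommMonObj A] [IsCommMonObj B] [IsReduced A.left] (u : A ⟶ B) [IsMonHom u]
    (l : ℕ) [Fact l.Prime] (hl : (l : k) ≠ 0) :
    IsFinite u.left ↔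
      Function.Injective (AbDual.tateMapₗ (l := l) (T := Over.mk (𝟙 (Spec (CommRingCat.of k)))) u) := by
  refine ⟨fun hu => (injective_iff_map_eq_zero _).2 fun x hx => ?_, fun hinj => by_contra fun hu => ?_⟩
  · haveI := hu
    let F : Additive (Over.mk (𝟙 (Spec (CommRingCat.of k))) ⟶ A) →+
        Additive (Over.mk (𝟙 (Spec (CommRingCat.of k))) ⟶ B) :=
      { toFun := fun a => Additive.ofMul (a.toMul ≫ u)
        map_zero' := congrArg Additive.ofMul (MonObj.one_comp u)
        map_add' := fun a b => congrArg Additive.ofMul (MonObj.mul_comp _ _ u) }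
    haveI : Finite F.ker := by
      haveI := (AVTate3.finite_comp_eq (𝟙 (Spec (CommRingCat.of k))) u 1).to_subtype
      exact Finite.of_injective
        (fun a => (⟨a.1.toMul, congrArg Additive.toMul (AddMonoidHom.mem_ker.1 a.2)⟩ :
          {y : Over.mk (𝟙 (Spec (CommRingCat.of k))) ⟶ A | y ≫ u = 1}))
        fun a b h => Subtype.ext (Additive.toMul.injective (congrArg Subtype.val h))
    exact Subtype.ext (AVIdx.TateCoker.eq_zero_of_comp (l := l) F (x := x.1) x.2 fun n =>
      congrArg (fun z : AbDual.TateMod B l (Over.mk (𝟙 (Spec (CommRingCat.of k)))) =>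
        (z : ℕ → Additive (Over.mk (𝟙 (Spec (CommRingCat.of k))) ⟶ B)) n) hx)
  · obtain ⟨C, hC, j, g, hj, hjc, hCp, hCg, hg, hg0, hju⟩ := exists_abelian_in_ker u hu
    haveI : Mono j.left := inferInstance
    haveI : Mono j := Over.mono_of_mono_left j
    haveI := isCommMonObj_of_mono j
    obtain ⟨a, ha, ha1⟩ := exists_torsion_ne_one hg hg0 (Fact.out : l.Prime).one_lt hl
    obtain ⟨x, hx⟩ := AVFac.exists_component_eq (A := C) (Fact.out : l.Prime).one_le 1 a (by rw [pow_one, ha])
    have hju' : ∀ b : Over.mk (𝟙 (Spec (CommRingCat.of k))) ⟶ C, b ≫ j ≫ u = 1 := fun b => by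
      rw [hju, ← Category.assoc, AVFac.eta_eq_one B]
      exact MonObj.comp_one _
    have h1 : x = 0 := eq_zero_of_tateMap_injective (T := Over.mk (𝟙 (Spec (CommRingCat.of k)))) j u hju' hinj x
    rw [h1] at hx
    exact ha1 (congrArg Additive.toMul hx).symm

end Groth.Agent.AVDeg3
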