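import Groth.Agent.AVDeg3.Vol
import Groth.Agent.AVDeg3.Kernel
import Groth.Agent.AVIsog3.Desc
import Mathlib.LinearAlgebra.Eigenspace.Basic
import Mathlib.FieldTheory.Finiteness
import Mathlib.Algebra.Module.ZMod
import Mathlib.Algebra.CharP.Basic

/-!
The degree polynomial of an endomorphism of an abelian variety over an algebraically closed field: monic of
degree `2g`, with value the degree of `φ + n` when this is finite and zero otherwise.
-/

noncomputable section

set_option linter.style.haveILetI false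
set_option linter.unusedSectionVars false
set_option backward.isDefEq.respectTransparency false
set_option backward.isDefEq.respectTransparency.types false

universe u

open CategoryTheory CategoryTheory.Limits MonoidalCategory CartesianMonoidalCategory MonObj GrpObj AlgebraicGeometry
open TopologicalSpace

namespace Groth.Agent.AVDeg3

variable {k : Type u} [Field k]

/-- All primes above a bound are invertible in a field. -/
theorem exists_bound_natCast_ne_zero (k : Type u) [Field k] :
    ∃ N : ℕ, ∀ l : ℕ, l.Prime → N < l → (l : k) ≠ 0 := by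
  refine ⟨ringChar k, fun l hl hN h => ?_⟩
  have h1 : ringChar k ∣ l := (ringChar.spec k l).1 h
  rcases (Nat.dvd_prime hl).1 h1 with h2 | h2
  · exact CharP.ringChar_ne_one h2
  · omega

variable [IsAlgClosed k] {A : Over (Spec (CommRingCat.of k))} [GrpObj A] [IsCommMonObj A] [IsProper A.hom]
  [GeometricallyIntegral A.hom]

/-- A non-finite endomorphism kills a point of order `l`. -/
theorem exists_torsion_in_ker {B : Over (Spec (CommRingCat.of k))} [GrpObj B] [IsProper B.hom]
    (f : A ⟶ B) [IsMonHom f] (hf : ¬ IsFinite f.left) {l : ℕ} (hl : l.Prime) (hlk : (l : k) ≠ 0) :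
    ∃ x : 𝟙_ (Over (Spec (CommRingCat.of k))) ⟶ A, x ^ l = 1 ∧ x ≠ 1 ∧ x ≫ f = 1 := by
  haveI := AVIsog3.isIntegral_left A
  obtain ⟨C, _, j, g, _, hjc, hCp, hCg, hg, hg0, hju⟩ := exists_abelian_in_ker f hf
  haveI : Mono j.left := inferInstance
  haveI : Mono j := Over.mono_of_mono_left j
  obtain ⟨x, hx, hx1⟩ := exists_torsion_ne_one hg hg0 hl.one_lt hlk
  refine ⟨x ≫ j, ?_, fun h => hx1 ?_, ?_⟩
  · rw [← MonObj.pow_comp, hx, MonObj.one_comp]
  · rw [← cancel_mono j, h, MonObj.one_comp]
  · rw [Category.assoc, hju, ← Category.assoc, AVFac.eta_eq_one B, MonObj.comp_one]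

theorem toHom_add_intCast (φ : EndAV.End A) (n : ℤ) :
    EndAV.End.toHom (φ + (n : EndAV.End A)) = EndAV.End.toHom φ * (𝟙 A) ^ n := by
  rw [EndAV.End.toHom_add, EndAV.End.toHom_intCast]

theorem comp_toHom_add_intCast {T : Over (Spec (CommRingCat.of k))} (x : T ⟶ A) (φ : EndAV.End A) (n : ℤ) :
    x ≫ EndAV.End.toHom (φ + (n : EndAV.End A)) = (x ≫ EndAV.End.toHom φ) * x ^ n := by
  rw [toHom_add_intCast, MonObj.comp_mul, AVIsog3.comp_zpow, Category.comp_id]

/-- Only finitely many translates of an endomorphism by integers fail to be finite. -/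
theorem finite_setOf_not_isFinite {g : ℕ} (hg : topologicalKrullDim A.left = g) (φ : EndAV.End A) :
    Set.Finite {n : ℤ | ¬ IsFinite (EndAV.End.toHom (φ + (n : EndAV.End A))).left} := by
  classical
  by_contra hinf
  obtain ⟨S, hS, hcard⟩ := Set.Infinite.exists_subset_card_eq hinf (2 * g + 1)
  obtain ⟨N, hN⟩ := exists_bound_natCast_ne_zero k
  obtain ⟨l, hlN, hlp⟩ := Nat.exists_infinite_primes (N + 2 * (S.sup Int.natAbs) + 1)
  have hlk : (l : k) ≠ 0 := hN l hlp (by omega)
  haveI : Fact l.Prime := ⟨hlp⟩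
  let G := Additive (𝟙_ (Over (Spec (CommRingCat.of k))) ⟶ A)
  let V : AddSubgroup G := (nsmulAddMonoidHom l : G →+ G).ker
  have hmemV : ∀ x : G, x ∈ V ↔ x.toMul ^ l = 1 := fun x => Iff.rfl
  have hcardV : Nat.card V = l ^ (2 * g) := by
    rw [← AVFac.card_torsion hg hlk]
    exact Nat.card_congr (Equiv.subtypeEquiv Additive.toMul fun x => hmemV x)
  have hVl : ∀ x : V, l • x = 0 := fun x => Subtype.ext x.2
  letI : Module (ZMod l) V := AddCommGroup.zmodModule (n := l) (G := V) hVl
  let φ' : G →+ G := EndAV.Hom.ptsMap _ φ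
  let φV : V →+ V := AddMonoidHom.mk' (fun x => ⟨φ' x.1, show l • φ' x.1 = 0 by
    rw [← map_nsmul, show l • x.1 = 0 from x.2, map_zero]⟩) fun a b => Subtype.ext (map_add φ' _ _)
  let T : Module.End (ZMod l) V := φV.toZModLinearMap l
  have hv : ∀ n : S, ∃ x : V, T.HasEigenvector (-((n.1 : ℤ) : ZMod l)) x := by
    rintro ⟨n, hn⟩
    obtain ⟨x, hxl, hx1, hxf⟩ := exists_torsion_in_ker (EndAV.End.toHom (φ + (n : EndAV.End A))) (hS hn) hlp hlk
    refine ⟨⟨Additive.ofMul x, (hmemV _).2 hxl⟩, Module.End.mem_eigenspace_iff.2 ?_, fun h =>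
      hx1 (congrArg (fun v : V => v.1.toMul) h)⟩
    rw [comp_toHom_add_intCast] at hxf
    rw [← Int.cast_neg, Int.cast_smul_eq_zsmul]
    refine Subtype.ext (Additive.toMul.injective ?_)
    show x ≫ EndAV.End.toHom φ = x ^ (-n)
    rw [zpow_neg, eq_inv_iff_mul_eq_one, hxf]
  choose v hv using hv
  have hinj : Function.Injective fun n : S => -((n.1 : ℤ) : ZMod l) := by
    rintro ⟨a, ha⟩ ⟨b, hb⟩ h
    have h1 := (ZMod.intCast_eq_intCast_iff_dvd_sub _ _ _).1 (neg_injective h)
    have hA := Finset.le_sup (f := Int.natAbs) ha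
    have hB := Finset.le_sup (f := Int.natAbs) hb
    refine Subtype.ext (sub_eq_zero.1 (Int.eq_zero_of_dvd_of_natAbs_lt_natAbs h1 ?_)).symm
    simp only [Int.natAbs_natCast]
    omega
  haveI : IsDomain (ZMod l) := inferInstance
  haveI : Module.IsTorsionFree (ZMod l) V := inferInstance
  have hli := Module.End.eigenvectors_linearIndependent' (R := ZMod l) (M := V) T _ hinj v hv
  haveI : Finite V := Nat.finite_of_card_ne_zero (by rw [hcardV]; exact pow_ne_zero _ hlp.ne_zero)
  haveI : Module.Finite (ZMod l) V := Module.Finite.of_finite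
  have h1 := hli.fintype_card_le_finrank
  have h2 := Module.natCard_eq_pow_finrank (K := ZMod l) (V := V)
  rw [hcardV, Nat.card_eq_fintype_card, ZMod.card] at h2
  have h3 := Nat.pow_right_injective hlp.two_le h2
  rw [Fintype.card_coe, hcard] at h1
  omega

/-- The degree polynomial. -/
theorem exists_degree_poly {g : ℕ} (hg : topologicalKrullDim A.left = g) (φ : EndAV.End A) :
    ∃ R : Polynomial ℚ, R.Monic ∧ R.natDegree = 2 * g ∧ ∀ n : ℤ,
      (IsFinite (EndAV.End.toHom (φ + (n : EndAV.End A))).left →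
        ∀ a : A.left, ((EndAV.End.toHom (φ + (n : EndAV.End A))).left.finrank a : ℚ) = R.eval (n : ℚ)) ∧
      (¬ IsFinite (EndAV.End.toHom (φ + (n : EndAV.End A))).left → R.eval (n : ℚ) = 0) := by
  classical
  haveI := AVIsog3.isIntegral_left A
  obtain ⟨c, hc⟩ := exists_degree_poly_nat hg
  have hc1 : c = 1 := by
    obtain ⟨R, hR, hRc, hRn⟩ := hc 0
    have e : R = Polynomial.X ^ (2 * g) := by
      refine eq_of_eval_natCast _ _ 1 fun n hn => ?_
      have hn0 : (n : ℤ) ≠ 0 := by omega
      have e2 : EndAV.End.toHom ((0 : EndAV.End A) + (n : EndAV.End A)) = 𝟙 A ^ (n : ℤ) := by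
        rw [zero_add, EndAV.End.toHom_natCast, zpow_natCast]
      have h := hRn n (by rw [e2]; exact (AVDegLib.zpow_props (A := A) _ hn0).1) (genericPoint A.left)
      rw [e2, AVDegLib.finrank_zpow hg _ hn0] at h
      rw [← h]
      simp
    rw [← hRc, e, Polynomial.coeff_X_pow_self]
  subst hc1
  obtain ⟨R, hR, hRc, hRn⟩ := hc φ
  refine ⟨R, Polynomial.monic_of_natDegree_le_of_coeff_eq_one _ hR hRc,
    Polynomial.natDegree_eq_of_le_of_coeff_ne_zero hR (by rw [hRc]; exact one_ne_zero), ?_⟩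
  have hfin : ∀ n : ℤ, IsFinite (EndAV.End.toHom (φ + (n : EndAV.End A))).left →
      ∀ a : A.left, ((EndAV.End.toHom (φ + (n : EndAV.End A))).left.finrank a : ℚ) = R.eval (n : ℚ) := by
    intro n hn a
    obtain ⟨m, hm⟩ : ∃ m : ℕ, 0 ≤ n + m := ⟨n.natAbs, by omega⟩
    obtain ⟨R', -, -, hR'⟩ := hc (φ - (m : EndAV.End A))
    obtain ⟨B, hB⟩ := ((finite_setOf_not_isFinite hg φ).image Int.natAbs).bddAbove
    have e : R' = R.comp (Polynomial.X - Polynomial.C (m : ℚ)) := by
      refine eq_of_eval_natCast _ _ (m + B + 1) fun j hj => ?_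
      obtain ⟨i, rfl⟩ := Nat.exists_eq_add_of_le (show m ≤ j by omega)
      have hi : IsFinite (EndAV.End.toHom (φ + (i : EndAV.End A))).left := by
        by_contra h
        have := hB ⟨(i : ℤ), by rw [Set.mem_setOf_eq, Int.cast_natCast]; exact h, rfl⟩
        simp only [Int.natAbs_natCast] at this
        omega
      have e1 : φ - (m : EndAV.End A) + ((m + i : ℕ) : EndAV.End A) = φ + (i : EndAV.End A) := by
        push_cast; abel
      have h1 := hR' (m + i) (by rw [e1]; exact hi) (genericPoint A.left)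
      rw [e1, hRn i hi] at h1
      rw [← h1]
      simp
    obtain ⟨j, hj⟩ := Int.eq_ofNat_of_zero_le hm
    have e1 : φ - (m : EndAV.End A) + (j : EndAV.End A) = φ + (n : EndAV.End A) := by
      rw [show (n : EndAV.End A) = (((j : ℤ) - m : ℤ) : EndAV.End A) by rw [← hj]; simp]
      push_cast; abel
    have h1 := hR' j (by rw [e1]; exact hn) a
    rw [e1, e] at h1
    rw [h1, show (n : ℚ) = (j : ℚ) - m by rw [eq_sub_iff_add_eq]; exact_mod_cast hj]
    simp
  refine fun n => ⟨hfin n, fun hn => ?_⟩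
  obtain ⟨N, hN⟩ := exists_bound_natCast_ne_zero k
  refine eval_eq_zero_of_dvd R n N fun l hlp hlN => ?_
  obtain ⟨x, hxl, hx1, hxf⟩ := exists_torsion_in_ker _ hn hlp (hN l hlp hlN)
  obtain ⟨j, hj⟩ : ∃ j : ℤ, IsFinite (EndAV.End.toHom (φ + ((n + l * j : ℤ) : EndAV.End A))).left := by
    by_contra h
    push Not at h
    refine Set.infinite_of_injective_forall_mem (f := fun j : ℤ => n + l * j) (fun a b e => ?_) h
      (finite_setOf_not_isFinite hg φ)
    exact mul_left_cancel₀ (Int.natCast_ne_zero.2 hlp.ne_zero) (add_left_cancel e)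
  let f := EndAV.End.toHom (φ + ((n + l * j : ℤ) : EndAV.End A))
  haveI : IsFinite f.left := hj
  haveI := AVIsog3.surjective_of_isFinite f rfl
  haveI := AVIsog3.flat_of_surjective f
  have hxf' : x ≫ f = 1 := by
    rw [comp_toHom_add_intCast, zpow_add, zpow_mul, zpow_natCast, hxl, one_zpow, _root_.mul_one,
      ← comp_toHom_add_intCast, hxf]
  have h1 := AVIsog3.pow_finrank_eq_of_comp_eq f x 1 (by rw [hxf', MonObj.one_comp])
  rw [one_pow] at h1
  have h2 : l ∣ f.left.finrank (η[A].left (IsLocalRing.closedPoint k)) := by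
    haveI : Fact l.Prime := ⟨hlp⟩
    rw [← orderOf_eq_prime hxl hx1]
    exact orderOf_dvd_of_pow_eq_one h1
  obtain ⟨a, ha⟩ := h2
  refine ⟨j, (a : ℤ), ?_⟩
  rw [← hfin _ hj (η[A].left (IsLocalRing.closedPoint k))]
  show ((f.left.finrank _ : ℕ) : ℚ) = _
  rw [ha]
  push_cast
  rfl

end Groth.Agent.AVDeg3
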