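import Mathlib.NumberTheory.Padics.RingHoms
import Mathlib.LinearAlgebra.FreeModule.Finite.Quotient
import Mathlib.LinearAlgebra.Matrix.Basis
import Mathlib.LinearAlgebra.Matrix.ToLin
import Mathlib.LinearAlgebra.Determinant
import Mathlib.Data.ZMod.QuotientRing

/-!
The order of the cokernel of an injective map of free modules over the `p`-adic integers.
-/

noncomputable section

open Module

namespace Groth.Agent.AVDeg3

variable {p : ℕ} [Fact p.Prime]

theorem span_eq_span_pow {a : ℤ_[p]} (ha : a ≠ 0) :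
    Ideal.span ({a} : Set ℤ_[p]) = Ideal.span {(p : ℤ_[p]) ^ a.valuation} := by
  conv_lhs => rw [PadicInt.unitCoeff_spec ha]
  exact Ideal.span_singleton_mul_left_unit (PadicInt.unitCoeff ha).isUnit _

theorem card_quotient_span {a : ℤ_[p]} (ha : a ≠ 0) :
    Nat.card (ℤ_[p] ⧸ Ideal.span ({a} : Set ℤ_[p])) = p ^ a.valuation := by
  have hs : Function.Surjective (PadicInt.toZModPow a.valuation : ℤ_[p] →+* ZMod (p ^ a.valuation)) :=
    fun z => ⟨(z.cast : ℤ_[p]), by
      obtain ⟨m, rfl⟩ := ZMod.natCast_zmod_surjective z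
      simp⟩
  rw [span_eq_span_pow ha, ← PadicInt.ker_toZModPow,
    Nat.card_congr (RingHom.quotientKerEquivOfSurjective hs).toEquiv, Nat.card_zmod]

theorem valuation_units (u : ℤ_[p]ˣ) : (u : ℤ_[p]).valuation = 0 := by
  have h1 := PadicInt.valuation_mul (u.ne_zero) (u⁻¹).ne_zero
  rw [← Units.val_mul, mul_inv_cancel, Units.val_one, PadicInt.valuation_one] at h1
  omega

theorem valuation_prod {ι : Type*} (s : Finset ι) (a : ι → ℤ_[p]) (ha : ∀ i ∈ s, a i ≠ 0) :
    (∏ i ∈ s, a i).valuation = ∑ i ∈ s, (a i).valuation := by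
  classical
  induction s using Finset.induction with
  | empty => simp [PadicInt.valuation_one]
  | @insert i s hi ih =>
    rw [Finset.prod_insert hi, Finset.sum_insert hi, PadicInt.valuation_mul (ha i (Finset.mem_insert_self i s))
      (Finset.prod_ne_zero_iff.2 fun j hj => ha j (Finset.mem_insert_of_mem hj)),
      ih fun j hj => ha j (Finset.mem_insert_of_mem hj)]

/-- The cokernel of an injective map has order `p` to the valuation of the determinant. -/
theorem card_coker_and_det_ne_zero {M M' : Type*} [AddCommGroup M] [Module ℤ_[p] M] [AddCommGroup M']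
    [Module ℤ_[p] M'] {ι : Type*} [Fintype ι] [DecidableEq ι] (bA : Basis ι ℤ_[p] M) (bB : Basis ι ℤ_[p] M')
    (u : M →ₗ[ℤ_[p]] M') (hu : Function.Injective u) :
    (LinearMap.toMatrix bA bB u).det ≠ 0 ∧
      Nat.card (M' ⧸ LinearMap.range u) = p ^ (LinearMap.toMatrix bA bB u).det.valuation := by
  classical
  let N := LinearMap.range u
  let e : M ≃ₗ[ℤ_[p]] N := LinearEquiv.ofInjective u hu
  have h : finrank ℤ_[p] N = finrank ℤ_[p] M' := by
    rw [← e.finrank_eq, finrank_eq_card_basis bA, finrank_eq_card_basis bB]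
  let b' := Submodule.smithNormalFormTopBasis bB h
  let ab := Submodule.smithNormalFormBotBasis bB h
  let a := Submodule.smithNormalFormCoeffs bB h
  have ha : ∀ i, a i ≠ 0 := Submodule.smithNormalFormCoeffs_ne_zero bB h
  have hdiag : LinearMap.toMatrix ab b' N.subtype = Matrix.diagonal a := by
    ext i j
    rw [LinearMap.toMatrix_apply]
    show b'.repr (ab j : M') i = _
    rw [Submodule.smithNormalFormBotBasis_def bB h, map_smul, Basis.repr_self]
    by_cases hij : j = i
    · subst hij; simp [a]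
    · simp [Finsupp.single_eq_of_ne (Ne.symm hij), Matrix.diagonal_apply_ne _ (Ne.symm hij)]
  have hcomp : u = (LinearMap.id : M' →ₗ[ℤ_[p]] M').comp (N.subtype.comp e.toLinearMap) :=
    LinearMap.ext fun x => rfl
  have hm : LinearMap.toMatrix bA bB u =
      LinearMap.toMatrix b' bB LinearMap.id * (Matrix.diagonal a * LinearMap.toMatrix bA ab e.toLinearMap) := by
    conv_lhs => rw [hcomp]
    rw [LinearMap.toMatrix_comp bA b' bB, LinearMap.toMatrix_comp bA ab b', hdiag]
  have u1 : IsUnit (LinearMap.toMatrix b' bB (LinearMap.id : M' →ₗ[ℤ_[p]] M')).det :=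
    LinearEquiv.isUnit_det (LinearEquiv.refl ℤ_[p] M') b' bB
  have u2 : IsUnit (LinearMap.toMatrix bA ab e.toLinearMap).det := LinearEquiv.isUnit_det e bA ab
  obtain ⟨v1, hv1⟩ := u1
  obtain ⟨v2, hv2⟩ := u2
  have hprod : (∏ i, a i) ≠ 0 := Finset.prod_ne_zero_iff.2 fun i _ => ha i
  rw [hm, Matrix.det_mul, Matrix.det_mul, Matrix.det_diagonal, ← hv1, ← hv2]
  refine ⟨mul_ne_zero v1.ne_zero (mul_ne_zero hprod v2.ne_zero), ?_⟩
  rw [PadicInt.valuation_mul v1.ne_zero (mul_ne_zero hprod v2.ne_zero), PadicInt.valuation_mul hprod v2.ne_zero,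
    valuation_units, valuation_units, zero_add, add_zero, valuation_prod _ _ fun i _ => ha i,
    Nat.card_congr (Submodule.quotientEquivPiSpan N bB h).toEquiv, Nat.card_pi, ← Finset.prod_pow_eq_pow_sum]
  exact Finset.prod_congr rfl fun i _ => card_quotient_span (ha i)

end Groth.Agent.AVDeg3
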