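import Groth.Agent.AVDeg3.KerCard
import Groth.Agent.AVDeg3.PadicIndex
import Groth.Agent.AVFac.Card
import Groth.Agent.AVTate3.AbVar
import Groth.Agent.AVIdx.TateCoker
import Groth.Agent.AVIsog3.Basic
import Groth.Agent.AbSchX.FinRank
import Mathlib.GroupTheory.Perm.Cycle.Type
import Mathlib.GroupTheory.Index

/-!
The `l`-adic valuation of the degree of an isogeny is that of the determinant of the map of Tate modules.
-/

noncomputable section

set_option linter.style.haveILetI false
set_option linter.unusedSectionVars false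
set_option backward.isDefEq.respectTransparency false
set_option backward.isDefEq.respectTransparency.types false

universe u

open CategoryTheory CategoryTheory.Limits MonoidalCategory CartesianMonoidalCategory MonObj GrpObj AlgebraicGeometry

namespace Groth.Agent.AVDeg3

theorem card_ker_comp {G H K : Type*} [AddCommGroup G] [AddCommGroup H] [AddCommGroup K] (f : G →+ H) (g : H →+ K)
    (hf : Function.Surjective f) : Nat.card (g.comp f).ker = Nat.card f.ker * Nat.card g.ker := by
  let r : (g.comp f).ker →+ g.ker := AddMonoidHom.mk' (fun x => ⟨f x.1, x.2⟩) fun a b => Subtype.ext (map_add f _ _)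
  have hr : Function.Surjective r := fun y => by
    obtain ⟨x, hx⟩ := hf y.1
    exact ⟨⟨x, show g (f x) = 0 by rw [hx]; exact y.2⟩, Subtype.ext hx⟩
  let e : r.ker ≃ f.ker :=
    { toFun := fun x => ⟨x.1.1, congrArg Subtype.val x.2⟩
      invFun := fun x => ⟨⟨x.1, show g (f x.1) = 0 by rw [show f x.1 = 0 from x.2, map_zero]⟩, Subtype.ext x.2⟩
      left_inv := fun x => rfl
      right_inv := fun x => rfl }
  rw [← AddSubgroup.card_mul_index r.ker, Nat.card_congr e, AddSubgroup.index_ker,
    Nat.card_congr (Equiv.ofBijective Subtype.val ⟨Subtype.val_injective, fun y => ⟨⟨y, hr y⟩, rfl⟩⟩ : r.range ≃ g.ker)]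

theorem card_primary {G : Type*} [AddCommGroup G] [Finite G] (l : ℕ) [hl : Fact l.Prime] :
    Nat.card (AddCommMonoid.primaryComponent G l) = l ^ padicValNat l (Nat.card G) := by
  let P : AddSubgroup G := AddCommGroup.primaryComponent G l
  have hmem : ∀ x : G, x ∈ P ↔ ∃ j : ℕ, (l ^ j) • x = 0 := fun x => Iff.rfl
  show Nat.card P = _
  have hdiv : ∀ q : ℕ, q.Prime → q ∣ Nat.card P → q = l := by
    intro q hq hqd
    haveI := Fact.mk hq
    obtain ⟨x, hx⟩ := exists_prime_addOrderOf_dvd_card' (G := P) q hqd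
    obtain ⟨j, hj⟩ := (hmem x.1).1 x.2
    have h1 : addOrderOf x ∣ l ^ j := addOrderOf_dvd_of_nsmul_eq_zero (Subtype.ext hj)
    rw [hx] at h1
    exact (Nat.prime_dvd_prime_iff_eq hq hl.out).1 (hq.dvd_of_dvd_pow h1)
  have hP : Nat.card P = l ^ (Nat.card P).factorization l := by
    refine (Nat.eq_pow_of_factorization_eq_single Nat.card_pos.ne' ?_)
    ext q
    by_cases h : q = l
    · subst h; simp
    · rw [Finsupp.single_eq_of_ne (by simpa using h)]
      by_contra hq
      exact h (hdiv q (Nat.prime_of_mem_primeFactors (Nat.support_factorization _ ▸ Finsupp.mem_support_iff.2 hq))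
        (Nat.dvd_of_factorization_pos hq))
  have hindex : ¬ l ∣ P.index := by
    intro hd
    rw [AddSubgroup.index_eq_card] at hd
    obtain ⟨y, hy⟩ := exists_prime_addOrderOf_dvd_card' (G := G ⧸ P) l hd
    obtain ⟨x, rfl⟩ := QuotientAddGroup.mk_surjective y
    have h1 : l • x ∈ P := by
      rw [← QuotientAddGroup.eq_zero_iff, QuotientAddGroup.mk_nsmul, ← hy, addOrderOf_nsmul_eq_zero]
    obtain ⟨j, hj⟩ := (hmem _).1 h1
    rw [← mul_nsmul', ← pow_succ] at hj
    have h2 : (x : G ⧸ P) = 0 := (QuotientAddGroup.eq_zero_iff x).2 ((hmem x).2 ⟨_, hj⟩)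
    rw [h2, addOrderOf_zero] at hy
    exact hl.out.ne_one hy.symm
  have hd := P.card_mul_index
  rw [← hd, padicValNat.mul Nat.card_pos.ne' P.index_ne_zero_of_finite, padicValNat.eq_zero_of_not_dvd hindex,
    add_zero]
  conv_rhs => rw [hP, padicValNat.prime_pow]
  exact hP

variable {k : Type u} [Field k] [IsAlgClosed k] {A B : Over (Spec (CommRingCat.of k))}
  [GrpObj A] [IsCommMonObj A] [IsProper A.hom] [GeometricallyIntegral A.hom]
  [GrpObj B] [IsCommMonObj B] [IsProper B.hom] [GeometricallyIntegral B.hom]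

local notation "T₀" => Over.mk (𝟙 (Spec (CommRingCat.of k)))

/-- A homomorphism on rational points, written additively. -/
def ptsHom (f : A ⟶ B) [IsMonHom f] : Additive (T₀ ⟶ A) →+ Additive (T₀ ⟶ B) :=
  AddMonoidHom.mk' (fun a => Additive.ofMul (a.toMul ≫ f))
    fun a b => congrArg Additive.ofMul (MonObj.mul_comp _ _ f)

theorem finite_ker (f : A ⟶ B) [IsMonHom f] [IsFinite f.left] : Finite (ptsHom f).ker := by
  haveI := (AVTate3.finite_comp_eq (𝟙 (Spec (CommRingCat.of k))) f 1).to_subtype
  exact Finite.of_injective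
    (fun a => (⟨a.1.toMul, congrArg Additive.toMul (AddMonoidHom.mem_ker.1 a.2)⟩ : {x : T₀ ⟶ A | x ≫ f = 1}))
    fun a b h => Subtype.ext (Additive.toMul.injective (congrArg Subtype.val h))

theorem finrank_const (f : A ⟶ B) [IsMonHom f] [IsFinite f.left] [Surjective f.left] (a b : B.left) :
    f.left.finrank a = f.left.finrank b := by
  haveI := AVIsog3.flat_of_surjective f
  haveI := AVIsog3.lfp_left f
  haveI := AVIsog3.isIntegral_left B
  exact (f.left.isLocallyConstant_finrank).apply_eq_of_preconnectedSpace a b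

theorem card_ker_dvd' (f : A ⟶ B) [IsMonHom f] [IsFinite f.left] [Surjective f.left] :
    Nat.card (ptsHom f).ker ∣ f.left.finrank (η[B].left (IsLocalRing.closedPoint k)) := by
  haveI := AVIsog3.flat_of_surjective f
  haveI := AVIsog3.lfp_left f
  refine (dvd_of_eq ?_).trans (card_ker_dvd f)
  refine Nat.card_congr ?_
  exact Equiv.subtypeEquiv Additive.toMul fun a => by
    rw [AVFac.eta_eq_one B]
    exact ⟨fun h => congrArg Additive.toMul h, fun h => congrArg Additive.ofMul h⟩

/-- Up to units, the degree and the number of points in the kernel agree `l`-adically. -/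
theorem padicValNat_card_ker {g : ℕ} (hA : topologicalKrullDim A.left = g) (hB : topologicalKrullDim B.left = g)
    (f : A ⟶ B) [IsMonHom f] [IsFinite f.left] {l : ℕ} [Fact l.Prime] (hl : (l : k) ≠ 0) :
    padicValNat l (Nat.card (ptsHom f).ker) = padicValNat l (f.left.finrank (η[B].left (IsLocalRing.closedPoint k))) := by
  haveI := AVIsog3.surjective_of_isFinite f (hA.trans hB.symm)
  haveI := AVIsog3.flat_of_surjective f
  haveI := AVIsog3.isProper_left f
  obtain ⟨d, g', hd, _, hfg, hgf⟩ := AVIsog3.exists_quasiInverse f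
  haveI := AVIsog3.isProper_left g'
  haveI : IsFinite g'.left := by
    haveI := AVMulN.isFinite_pow (A := B) d hd
    haveI : IsFinite (g'.left ≫ f.left) := by rw [← Over.comp_left, hgf]; infer_instance
    exact IsFinite.of_comp g'.left f.left
  haveI := AVIsog3.surjective_of_isFinite g' (hB.trans hA.symm)
  haveI := AVIsog3.flat_of_surjective g'
  haveI := finite_ker f
  haveI := finite_ker g'
  let a0 := η[A].left (IsLocalRing.closedPoint k)
  let b0 := η[B].left (IsLocalRing.closedPoint k)
  have hdeg : f.left.finrank b0 * g'.left.finrank a0 = d ^ (2 * g) := by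
    rw [← AbSchX.FinRank.finrank_comp f.left g'.left _ (fun y => finrank_const f y b0) a0, ← Over.comp_left, hfg,
      show (𝟙 A ^ d : A ⟶ A) = 𝟙 A ^ (d : ℤ) from (zpow_natCast _ _).symm,
      AVDegLib.finrank_zpow hA _ (by exact_mod_cast hd.ne')]
    simp
  have hsurj : Function.Surjective (ptsHom f) := fun y => by
    obtain ⟨x, hx⟩ := AVTate3.exists_comp_eq (𝟙 (Spec (CommRingCat.of k))) f y.toMul
    exact ⟨Additive.ofMul x, congrArg Additive.ofMul hx⟩
  have hcard : l ^ (2 * g * padicValNat l d) ∣ Nat.card (ptsHom f).ker * Nat.card (ptsHom g').ker := by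
    rw [← card_ker_comp _ _ hsurj]
    let e := padicValNat l d
    let V : AddSubgroup (Additive (T₀ ⟶ A)) := (nsmulAddMonoidHom (l ^ e)).ker
    have hV : V ≤ ((ptsHom g').comp (ptsHom f)).ker := fun x (hx : (l ^ e) • x = 0) => by
      obtain ⟨c, hc⟩ := pow_padicValNat_dvd (p := l) (n := d)
      show Additive.ofMul ((x.toMul ≫ f) ≫ g') = 0
      rw [Category.assoc, hfg, MonObj.comp_pow, Category.comp_id, hc, pow_mul,
        show x.toMul ^ (l ^ e) = 1 from congrArg Additive.toMul hx, one_pow]
      rfl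
    refine dvd_trans (dvd_of_eq ?_) (AddSubgroup.card_dvd_of_le hV)
    rw [mul_comm, pow_mul, ← AVFac.card_torsion (N := l ^ e) hA (by rw [Nat.cast_pow]; exact pow_ne_zero _ hl)]
    let eV : V ≃ {x : T₀ ⟶ A // x ^ l ^ e = 1} := Equiv.subtypeEquiv Additive.toMul fun x => Iff.rfl
    exact (Nat.card_congr eV).symm
  have h0 : ∀ (m : ℕ), m ≠ 0 → ∀ n, n ∣ m → padicValNat l n ≤ padicValNat l m := fun m hm n hn =>
    (padicValNat_dvd_iff_le hm).1 (pow_padicValNat_dvd.trans hn)
  have hdpos : (d ^ (2 * g)) ≠ 0 := pow_ne_zero _ hd.ne'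
  have hf0 : f.left.finrank b0 ≠ 0 := fun h => hdpos (by rw [← hdeg, h, zero_mul])
  have hg0 : g'.left.finrank a0 ≠ 0 := fun h => hdpos (by rw [← hdeg, h, mul_zero])
  have h1 := h0 _ hf0 _ (card_ker_dvd' f)
  have h2 := h0 _ hg0 _ (card_ker_dvd' g')
  have h3 := (padicValNat_dvd_iff_le (mul_ne_zero Nat.card_pos.ne' Nat.card_pos.ne')).1 hcard
  rw [padicValNat.mul Nat.card_pos.ne' Nat.card_pos.ne'] at h3
  have h4 := congrArg (padicValNat l) hdeg
  rw [padicValNat.mul hf0 hg0, padicValNat.pow] at h4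
  show _ = padicValNat l (f.left.finrank b0)
  omega

/-- The `l`-adic valuations of the degree and of the determinant on Tate modules agree. -/
theorem padicValNat_degree_eq {g : ℕ} (hA : topologicalKrullDim A.left = g) (hB : topologicalKrullDim B.left = g)
    (f : A ⟶ B) [IsMonHom f] [IsFinite f.left] {l : ℕ} [Fact l.Prime] (hl : (l : k) ≠ 0) {J : Type*} [Fintype J]
    [DecidableEq J] (bA : Module.Basis J ℤ_[l] (AbDual.TateMod A l T₀))
    (bB : Module.Basis J ℤ_[l] (AbDual.TateMod B l T₀)) (b : B.left) :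
    (LinearMap.toMatrix bA bB (AbDual.tateMapₗ (l := l) (T := T₀) f)).det ≠ 0 ∧
      padicValNat l (f.left.finrank b) =
        (LinearMap.toMatrix bA bB (AbDual.tateMapₗ (l := l) (T := T₀) f)).det.valuation := by
  haveI := finite_ker f
  haveI := AVIsog3.surjective_of_isFinite f (hA.trans hB.symm)
  haveI := AVIsog3.isProper_left f
  let u := AbDual.tateMapₗ (l := l) (T := T₀) f
  have hu : Function.Injective u := fun x y h => AVIdx.TateCoker.seqMap_injective (l := l) (ptsHom f) h
  obtain ⟨hne, hcard⟩ := card_coker_and_det_ne_zero bA bB u hu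
  refine ⟨hne, ?_⟩
  rw [finrank_const f b (η[B].left (IsLocalRing.closedPoint k)), ← padicValNat_card_ker hA hB f hl]
  have hsurj : Function.Surjective (ptsHom f) := fun y => by
    obtain ⟨x, hx⟩ := AVTate3.exists_comp_eq (𝟙 (Spec (CommRingCat.of k))) f y.toMul
    exact ⟨Additive.ofMul x, congrArg Additive.ofMul hx⟩
  have hdiv : ∀ a : Additive (T₀ ⟶ A), ∃ c : Additive (T₀ ⟶ A), l • c = a := fun a => by
    obtain ⟨c, hc⟩ := AVTate3.exists_pow_eq (𝟙 (Spec (CommRingCat.of k))) (Fact.out : l.Prime).one_le a.toMul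
    exact ⟨Additive.ofMul c, congrArg Additive.ofMul hc⟩
  obtain ⟨Φ⟩ := AVIdx.TateCoker.nonempty_coker (l := l) (ptsHom f) hsurj hdiv
  have h : Nat.card (AbDual.TateMod B l T₀ ⧸ LinearMap.range u) = l ^ padicValNat l (Nat.card (ptsHom f).ker) := by
    rw [← card_primary l]
    exact Nat.card_congr Φ.toEquiv
  rw [hcard] at h
  exact (Nat.pow_right_injective (Fact.out : l.Prime).two_le h).symm

end Groth.Agent.AVDeg3
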