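import Groth.Agent.AVDeg3.Homogeneous
import Groth.Agent.AVDeg3.CharPolyBc

/-!
The degree of an integral combination of endomorphisms is a homogeneous polynomial, over any field.
-/

noncomputable section

set_option linter.style.haveILetI false
set_option linter.unusedSectionVars false
set_option backward.isDefEq.respectTransparency false
set_option backward.isDefEq.respectTransparency.types false
set_option synthInstance.maxHeartbeats 400000
set_option maxHeartbeats 800000

universe u

open CategoryTheory CategoryTheory.Limits MonoidalCategory CartesianMonoidalCategory MonObj GrpObj AlgebraicGeometry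

namespace Groth.Agent.AVDeg3

section AlgClosed

variable {k : Type u} [Field k] [IsAlgClosed k] {A : Over (Spec (CommRingCat.of k))} [GrpObj A] [IsCommMonObj A]
  [IsProper A.hom] [GeometricallyIntegral A.hom]

/-- The degree of an integral combination of endomorphisms is a homogeneous polynomial. -/
theorem exists_homogeneous_nu_fin {g : ℕ} (hg : topologicalKrullDim A.left = g) {r : ℕ} (ψ : Fin r → EndAV.End A) :
    ∃ P : MvPolynomial (Fin r) ℚ, P.IsHomogeneous (2 * g) ∧
      ∀ c : Fin r → ℤ, nu (∑ i, c i • ψ i) = MvPolynomial.eval (fun i => (c i : ℚ)) P := by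
  classical
  obtain ⟨Q₁, hQ₁⟩ := exists_nu_poly hg (Fin.snoc ψ (-∑ i, ψ i) : Fin (r + 1) → EndAV.End A)
  have h1 : ∀ (a : Fin r → ℕ) (M : ℕ), nu (∑ i, ((a i : ℤ) - M) • ψ i) =
      MvPolynomial.eval (Fin.snoc (fun i => (a i : ℚ)) (M : ℚ) : Fin (r + 1) → ℚ) Q₁ := by
    intro a M
    have h := hQ₁ (Fin.snoc a M)
    rw [show (fun i => ((Fin.snoc a M : Fin (r + 1) → ℕ) i : ℚ)) = Fin.snoc (fun i => (a i : ℚ)) (M : ℚ) from
      funext fun i => by cases i using Fin.lastCases <;> simp] at h
    rw [← h]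
    refine congrArg nu ?_
    rw [Fin.sum_univ_castSucc, Fin.snoc_last, Fin.snoc_last]
    simp only [Fin.snoc_castSucc]
    rw [smul_neg, ← sub_eq_add_neg, Finset.smul_sum, ← Finset.sum_sub_distrib]
    exact Finset.sum_congr rfl fun i _ => by rw [sub_smul, natCast_zsmul, natCast_zsmul]
  have evalsub : ∀ {σ τ : Type} (w : σ → MvPolynomial τ ℚ) (x : τ → ℚ) (P : MvPolynomial σ ℚ),
      MvPolynomial.eval x (MvPolynomial.aeval w P) = MvPolynomial.eval (fun i => MvPolynomial.eval x (w i)) P := by
    intro σ τ w x P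
    rw [MvPolynomial.aeval_def, MvPolynomial.eval_eval₂,
      show (MvPolynomial.eval x).comp (algebraMap ℚ (MvPolynomial τ ℚ)) = RingHom.id ℚ from
        RingHom.ext fun y => by simp]
    rfl
  let Q : MvPolynomial (Fin r) ℚ := MvPolynomial.aeval (Fin.snoc MvPolynomial.X 0 : Fin (r + 1) → _) Q₁
  have hQ : ∀ s : Fin r → ℚ, MvPolynomial.eval s Q = MvPolynomial.eval (Fin.snoc s 0 : Fin (r + 1) → ℚ) Q₁ := by
    intro s
    rw [evalsub]
    exact congrArg (fun w => MvPolynomial.eval w Q₁) (funext fun i => by cases i using Fin.lastCases <;> simp)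
  let D : MvPolynomial (Fin (r + 1)) ℚ :=
    MvPolynomial.aeval (Fin.snoc (fun i : Fin r => MvPolynomial.X i.castSucc + MvPolynomial.X (Fin.last r))
      (MvPolynomial.X (Fin.last r)) : Fin (r + 1) → _) Q₁ -
    MvPolynomial.aeval (fun i : Fin r => MvPolynomial.X i.castSucc) Q
  have hD : D = 0 := by
    refine MvPolynomial.funext_set (fun _ => Set.range ((↑) : ℕ → ℚ))
      (fun _ => Set.infinite_range_of_injective Nat.cast_injective) fun x hx => ?_
    choose w hw using fun i => hx i (Set.mem_univ i)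
    rw [map_sub, map_zero, evalsub, evalsub, sub_eq_zero, hQ]
    have e1 : (fun i => MvPolynomial.eval x ((Fin.snoc (fun i : Fin r => MvPolynomial.X i.castSucc +
        MvPolynomial.X (Fin.last r)) (MvPolynomial.X (Fin.last r)) : Fin (r + 1) → MvPolynomial (Fin (r + 1)) ℚ) i)) =
        Fin.snoc (fun i => ((w i.castSucc + w (Fin.last r) : ℕ) : ℚ)) (w (Fin.last r) : ℚ) :=
      funext fun i => by cases i using Fin.lastCases <;> simp [hw]
    have e2 : (Fin.snoc (fun i : Fin r => MvPolynomial.eval x (MvPolynomial.X i.castSucc)) 0 : Fin (r + 1) → ℚ) =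
        Fin.snoc (fun i => (w i.castSucc : ℚ)) ((0 : ℕ) : ℚ) :=
      funext fun i => by cases i using Fin.lastCases <;> simp [hw]
    rw [e1, e2, ← h1, ← h1]
    simp
  have hf : ∀ c : Fin r → ℤ, nu (∑ i, c i • ψ i) = MvPolynomial.eval (fun i => (c i : ℚ)) Q := by
    intro c
    let M : ℕ := ∑ i, (c i).natAbs
    have hM : ∀ i, 0 ≤ c i + (M : ℤ) := fun i => by
      have h : (c i).natAbs ≤ M := Finset.single_le_sum (f := fun j => (c j).natAbs) (fun j _ => Nat.zero_le _) (Finset.mem_univ i)
      omega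
    have h := congrArg (MvPolynomial.eval (Fin.snoc (fun i => (c i : ℚ)) (M : ℚ) : Fin (r + 1) → ℚ)) hD
    rw [map_sub, map_zero, evalsub, evalsub, sub_eq_zero] at h
    have e3 := h1 (fun i => (c i + (M : ℤ)).toNat) M
    have e4 : ∀ i, (((c i + (M : ℤ)).toNat : ℤ)) = c i + M := fun i => Int.toNat_of_nonneg (hM i)
    simp only [e4, add_sub_cancel_right] at e3
    rw [e3]
    refine Eq.trans (congrArg (fun w => MvPolynomial.eval w Q₁) (funext fun i => ?_)) (h.trans (congrArg (fun w => MvPolynomial.eval w Q) (funext fun i => ?_)))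
    · cases i using Fin.lastCases with
      | last => simp
      | cast i =>
        have h5 : (((c i + (M : ℤ)).toNat : ℕ) : ℚ) = (c i : ℚ) + M := by exact_mod_cast e4 i
        simp [h5]
    · simp
  refine ⟨MvPolynomial.homogeneousComponent (2 * g) Q, MvPolynomial.homogeneousComponent_isHomogeneous _ _, fun c => ?_⟩
  let x : Fin r → ℚ := fun i => (c i : ℚ)
  let p : Polynomial ℚ := MvPolynomial.aeval (fun i => Polynomial.C (x i) * Polynomial.X) Q
  have hp1 : p = Polynomial.C (nu (∑ i, c i • ψ i)) * Polynomial.X ^ (2 * g) := by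
    refine eq_of_eval_natCast _ _ 0 fun j _ => ?_
    have h1 : p.eval (j : ℚ) = MvPolynomial.eval (fun i => (((j : ℤ) * c i : ℤ) : ℚ)) Q := by
      rw [eval_aeval_poly]
      exact congrArg (fun w => MvPolynomial.eval w Q) (funext fun i => by simp [x, mul_comm])
    have h2 : ∑ i, ((j : ℤ) * c i) • ψ i = ((j : ℤ) : EndAV.End A) * ∑ i, c i • ψ i := by
      rw [← zsmul_eq_mul, Finset.smul_sum]
      exact Finset.sum_congr rfl fun i _ => mul_smul _ _ _
    rw [h1, ← hf, h2, nu_mul, nu_intCast hg]
    rw [Polynomial.eval_mul, Polynomial.eval_C, Polynomial.eval_pow, Polynomial.eval_X, Int.cast_natCast, _root_.mul_comm]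
  have hp2 : p = ∑ i ∈ Finset.range (Q.totalDegree + 1),
      Polynomial.C (MvPolynomial.eval x (MvPolynomial.homogeneousComponent i Q)) * Polynomial.X ^ i := by
    show MvPolynomial.aeval _ Q = _
    conv_lhs => rw [← MvPolynomial.sum_homogeneousComponent Q, map_sum]
    exact Finset.sum_congr rfl fun i _ =>
      aeval_line_of_isHomogeneous x (MvPolynomial.homogeneousComponent_isHomogeneous i Q)
  have h3 := congrArg (fun q : Polynomial ℚ => q.coeff (2 * g)) (hp1.symm.trans hp2)
  simp only [Polynomial.coeff_C_mul, Polynomial.coeff_X_pow_self, _root_.mul_one, Polynomial.finsetSum_coeff,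
    Polynomial.coeff_X_pow, mul_ite, MulZeroClass.mul_zero, Finset.sum_ite_eq, Finset.mem_range] at h3
  rw [h3]
  split_ifs with h
  · rfl
  · rw [MvPolynomial.homogeneousComponent_eq_zero _ _ (by omega), map_zero]

end AlgClosed

variable {k : Type u} [Field k] {A : Over (Spec (CommRingCat.of k))}
  [GrpObj A] [IsCommMonObj A] [IsProper A.hom] [GeometricallyIntegral A.hom]

/-- The degree is a homogeneous polynomial function. -/
theorem exists_homogeneous_degree {g : ℕ} (hg : topologicalKrullDim A.left = g) {r : ℕ} (ψ : Fin r → EndAV.End A) :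
    ∃ P : MvPolynomial (Fin r) ℚ, P.IsHomogeneous (2 * g) ∧ ∀ c : Fin r → ℤ,
      (IsFinite (EndAV.End.toHom (∑ i, c i • ψ i)).left → ∀ a : A.left,
          ((EndAV.End.toHom (∑ i, c i • ψ i)).left.finrank a : ℚ) = MvPolynomial.eval (fun i => (c i : ℚ)) P) ∧
        (¬ IsFinite (EndAV.End.toHom (∑ i, c i • ψ i)).left → MvPolynomial.eval (fun i => (c i : ℚ)) P = 0) := by
  let Ω := AlgebraicClosure k
  let σ := AVIdx.fieldMap (k := k) Ω
  let A' := Red.bc σ A
  haveI : IsProper A'.hom := inferInstanceAs (IsProper (pullback.snd A.hom σ))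
  haveI : GeometricallyIntegral A'.hom := inferInstanceAs (GeometricallyIntegral (pullback.snd A.hom σ))
  haveI : IsCommMonObj A' := isCommMonObj_of_isProper_of_geometricallyIntegral A'
  have hg' : topologicalKrullDim A'.left = g := AVIdx.dim_bc Ω A hg
  obtain ⟨P, hP, hPn⟩ := exists_homogeneous_nu_fin hg' (fun i => AVIdx.TateBc.bcEnd σ A (ψ i))
  refine ⟨P, hP, fun c => ?_⟩
  have hn : nu (AVIdx.TateBc.bcEnd σ A (∑ i, c i • ψ i)) = MvPolynomial.eval (fun i => (c i : ℚ)) P := by
    rw [← hPn c, map_sum]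
    exact congrArg nu (Finset.sum_congr rfl fun i _ => map_zsmul _ _ _)
  obtain ⟨h1, h2⟩ := spec_of_nu_eq _ _ hn
  let f := EndAV.End.toHom (∑ i, c i • ψ i)
  have hiff := isFinite_bc_iff Ω f
  refine ⟨fun hfin a => ?_, fun hfin => h2 fun h => hfin (hiff.1 h)⟩
  haveI : IsFinite f.left := hfin
  haveI := AVIsog3.isIntegral_left A'
  let a' := η[A'].left (IsLocalRing.closedPoint Ω)
  rw [← finrank_bc Ω f a' a]
  exact h1 (hiff.2 hfin) a'

/-- A product of integer powers is the underlying map of an integral combination. -/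
theorem toHom_sum_zsmul {r : ℕ} (f : Fin r → (A ⟶ A)) [∀ i, IsMonHom (f i)] (c : Fin r → ℤ) :
    EndAV.End.toHom (∑ i, c i • EndAV.End.of (f i)) = ∏ i, f i ^ c i := by
  let θ : EndAV.End A →+ Additive (A ⟶ A) :=
    AddMonoidHom.mk' (fun x => Additive.ofMul (EndAV.End.toHom x)) fun x y => rfl
  have h := map_sum θ (fun i => c i • EndAV.End.of (f i)) Finset.univ
  refine (congrArg Additive.toMul h).trans ?_
  rw [toMul_sum]
  exact Finset.prod_congr rfl fun i _ => EndAV.End.toHom_zsmul _ _

end Groth.Agent.AVDeg3
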