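import Groth.Agent.AVIsog3.Desc
import Groth.Agent.AVFac.Points
import Groth.Agent.FinGrpLib.Order
import Mathlib.AlgebraicGeometry.Group.Affine
import Mathlib.AlgebraicGeometry.Morphisms.FlatRank

/-!
The number of rational points in the kernel of a finite flat homomorphism divides its degree.
-/

set_option linter.style.haveILetI false
set_option linter.unusedSectionVars false
set_option backward.isDefEq.respectTransparency false
set_option backward.isDefEq.respectTransparency.types false

universe u

open CategoryTheory CategoryTheory.Limits MonoidalCategory CartesianMonoidalCategory MonObj GrpObj AlgebraicGeometry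
open scoped Obj

namespace Groth.Agent.AVDeg3

variable {k : Type u} [Field k] [IsAlgClosed k]

/-- A finite group scheme over an algebraically closed field has a number of points dividing its order. -/
theorem card_pts_dvd (N : Over (Spec (CommRingCat.of k))) [GrpObj N] [IsFinite N.hom] :
    Nat.card (𝟙_ (Over (Spec (CommRingCat.of k))) ⟶ N) ∣ N.hom.finrank (IsLocalRing.closedPoint k) := by
  haveI : IsAffine N.left := isAffine_of_isAffineHom N.hom
  obtain ⟨⟨H⟩, ⟨e⟩⟩ := (essImage_hopfSpec (R := CommRingCat.of k) (G := Grp.mk N)).mpr ‹IsAffine N.left›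
  let X' := (Spec (CommRingCat.of H)).asOver (Spec (CommRingCat.of k))
  let eh : X' ⟶ N := e.hom.hom.hom
  let ei : N ⟶ X' := e.inv.hom.hom
  have hei : ei ≫ eh = 𝟙 N := congrArg (fun g => g.hom.hom) e.inv_hom_id
  have hei' : eh ≫ ei = 𝟙 X' := congrArg (fun g => g.hom.hom) e.hom_inv_id
  haveI : IsIso eh.left :=
    ⟨ei.left, congrArg (fun g => g.left) hei', congrArg (fun g => g.left) hei⟩
  have hw : eh.left ≫ N.hom = Spec.map (CommRingCat.ofHom (algebraMap k H)) := Over.w eh
  have hf : IsFinite (eh.left ≫ N.hom) := inferInstance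
  rw [hw] at hf
  haveI : Module.Finite k H := by
    rw [← RingHom.finite_algebraMap]
    exact (IsFinite.SpecMap_iff _).mp hf
  have hrank : N.hom.finrank (IsLocalRing.closedPoint k) = Module.finrank k H := by
    have h := congrFun (Scheme.Hom.finrank_comp_left_of_isIso eh.left N.hom) (IsLocalRing.closedPoint k)
    rw [hw] at h
    rw [← h, Scheme.Hom.finrank_SpecMap_algebraMap, Module.rankAtStalk_eq_finrank_of_free]
    simp
  let T₀ : Over (Spec (CommRingCat.of k)) := (Spec (CommRingCat.of k)).asOver (Spec (CommRingCat.of k))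
  have hT : T₀.hom = 𝟙 (Spec (CommRingCat.of k)) := by
    show Spec.map (CommRingCat.ofHom (algebraMap k k)) = _
    rw [Algebra.algebraMap_self, CommRingCat.ofHom_id, Spec.map_id]
  let eT : 𝟙_ (Over (Spec (CommRingCat.of k))) ≅ T₀ :=
    Over.isoMk (Iso.refl _) (by simpa using hT)
  let E : (𝟙_ (Over (Spec (CommRingCat.of k))) ⟶ N) ≃ WithConv (H →ₐ[k] k) :=
    (Iso.homCongr eT ⟨ei, eh, hei, hei'⟩).trans
      (Spec.mapMulEquiv (R := k) (S := H) (T := k)).toEquiv.symm
  rw [Nat.card_congr E, hrank, FinGrpLib.finrank_eq_card_mul]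
  exact dvd_mul_right _ _

/-- The number of rational points killed by a finite flat homomorphism divides its degree. -/
theorem card_ker_dvd {A B : Over (Spec (CommRingCat.of k))} [GrpObj A] [GrpObj B] [IsSeparated B.hom]
    [LocallyOfFiniteType A.hom] (f : A ⟶ B) [IsMonHom f] [IsFinite f.left] [Flat f.left]
    [LocallyOfFinitePresentation f.left] :
    Nat.card {a : 𝟙_ (Over (Spec (CommRingCat.of k))) ⟶ A // a ≫ f = η[B]} ∣
      f.left.finrank (η[B].left (IsLocalRing.closedPoint k)) := by
  obtain ⟨N, _, i, _, _, _, hk⟩ := GrpSchLib.exists_kernel f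
  have hp : IsPullback i.left N.hom f.left η[B].left := by
    have h' : IsPullback i.left (toUnit N).left f.left (η[B]).left := hk.map (Over.forget _)
    exact (show (toUnit N).left = N.hom from rfl) ▸ h'
  haveI : IsFinite N.hom := MorphismProperty.of_isPullback hp ‹IsFinite f.left›
  let E : {a : 𝟙_ (Over (Spec (CommRingCat.of k))) ⟶ A // a ≫ f = η[B]} ≃
      (𝟙_ (Over (Spec (CommRingCat.of k))) ⟶ N) :=
    { toFun := fun a => hk.lift a.1 (toUnit _)
        (a.2.trans (by rw [toUnit_unique (toUnit (𝟙_ _)) (𝟙 _), Category.id_comp]))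
      invFun := fun n => ⟨n ≫ i, by
        rw [Category.assoc, hk.w, ← Category.assoc, toUnit_unique (n ≫ toUnit N) (𝟙 _), Category.id_comp]⟩
      left_inv := fun a => Subtype.ext (hk.lift_fst _ _ _)
      right_inv := fun n => hk.hom_ext (hk.lift_fst _ _ _) (toUnit_unique _ _) }
  rw [Nat.card_congr E]
  exact (card_pts_dvd N).trans (dvd_of_eq
    (Scheme.Hom.finrank_of_isPullback i.left N.hom f.left η[B].left hp (IsLocalRing.closedPoint k)))

end Groth.Agent.AVDeg3
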