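import Groth.Agent.AVDeg3.Nu
import Mathlib.Algebra.MvPolynomial.Rename
import Mathlib.Algebra.BigOperators.Fin

/-!
The degree of a linear combination of endomorphisms is a polynomial in the coefficients.
-/

noncomputable section

set_option linter.style.haveILetI false
set_option linter.unusedSectionVars false
set_option backward.isDefEq.respectTransparency false
set_option backward.isDefEq.respectTransparency.types false

universe u

open CategoryTheory CategoryTheory.Limits MonoidalCategory CartesianMonoidalCategory MonObj GrpObj AlgebraicGeometry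

namespace Groth.Agent.AVDeg3

open Groth.Agent.H23 Groth.Agent.AVCube Groth.Agent.Snapper
open scoped Groth.Agent.H23.PicMul

/-- Families of invertible classes of the form `∏ uⱼ ^ eⱼ(c)` with polynomial exponents. -/
def IsPolyFam {X : Scheme.{u}} {σ : Type} (F : (σ → ℕ) → (PicF.Cl X)ˣ) : Prop :=
  ∃ (t : ℕ) (w : Fin t → (PicF.Cl X)ˣ) (e : Fin t → (σ → ℕ) → ℕ) (E : Fin t → MvPolynomial σ ℚ),
    (∀ j, PicF.IsInvertibleCl (w j : PicF.Cl X)) ∧
    (∀ j c, MvPolynomial.eval (fun i => (c i : ℚ)) (E j) = (e j c : ℚ)) ∧ ∀ c, F c = ∏ j, w j ^ e j c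

section PolyFam

variable {X : Scheme.{u}} {σ κ : Type} {F G : (σ → ℕ) → (PicF.Cl X)ˣ}

theorem IsPolyFam.one : IsPolyFam fun _ : σ → ℕ => (1 : (PicF.Cl X)ˣ) :=
  ⟨0, Fin.elim0, Fin.elim0, Fin.elim0, fun j => j.elim0, fun j => j.elim0, fun _ => by simp⟩

theorem IsPolyFam.single (w : (PicF.Cl X)ˣ) (hw : PicF.IsInvertibleCl (w : PicF.Cl X)) (e : (σ → ℕ) → ℕ)
    (E : MvPolynomial σ ℚ) (hE : ∀ c, MvPolynomial.eval (fun i => (c i : ℚ)) E = (e c : ℚ)) :
    IsPolyFam fun c => w ^ e c :=
  ⟨1, fun _ => w, fun _ => e, fun _ => E, fun _ => hw, fun _ => hE, fun c => by simp⟩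

theorem IsPolyFam.congr (hF : IsPolyFam F) (h : ∀ c, G c = F c) : IsPolyFam G :=
  let ⟨t, w, e, E, hw, hE, hFc⟩ := hF; ⟨t, w, e, E, hw, hE, fun c => (h c).trans (hFc c)⟩

theorem IsPolyFam.mul (hF : IsPolyFam F) (hG : IsPolyFam G) : IsPolyFam fun c => F c * G c := by
  obtain ⟨t, w, e, E, hw, hE, hFc⟩ := hF
  obtain ⟨s, v, d, D, hv, hD, hGc⟩ := hG
  refine ⟨t + s, Fin.append w v, Fin.append e d, Fin.append E D, fun j => ?_, fun j => ?_, fun c => ?_⟩
  · refine Fin.addCases (fun i => ?_) (fun i => ?_) j <;> simp [hw, hv]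
  · refine Fin.addCases (fun i => ?_) (fun i => ?_) j <;> simp [hE, hD]
  · show F c * G c = _
    rw [hFc, hGc, Fin.prod_univ_add]
    simp

theorem IsPolyFam.prod {J : Type*} (s : Finset J) (F : J → (σ → ℕ) → (PicF.Cl X)ˣ)
    (h : ∀ j ∈ s, IsPolyFam (F j)) : IsPolyFam fun c => ∏ j ∈ s, F j c := by
  classical
  induction s using Finset.induction with
  | empty => exact IsPolyFam.one.congr fun c => Finset.prod_empty
  | @insert a s ha ih =>
    exact ((h a (Finset.mem_insert_self a s)).mul (ih fun j hj => h j (Finset.mem_insert_of_mem hj))).congr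
      fun c => Finset.prod_insert ha

theorem IsPolyFam.comp (hF : IsPolyFam F) (σ : σ → κ) : IsPolyFam fun c : κ → ℕ => F fun i => c (σ i) := by
  obtain ⟨t, w, e, E, hw, hE, hFc⟩ := hF
  exact ⟨t, w, fun j c => e j fun i => c (σ i), fun j => MvPolynomial.rename σ (E j), hw,
    fun j c => by rw [MvPolynomial.eval_rename]; exact hE j _, fun c => hFc _⟩

end PolyFam

variable {k : Type u} [Field k] {A : Over (Spec (CommRingCat.of k))} [GrpObj A] [IsCommMonObj A] [IsProper A.hom]
  [GeometricallyIntegral A.hom] {L : A.left.Modules} (hL : PicF.IsInvertible L)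

/-- The pullback class. -/
def qcl (x : EndAV.End A) : (PicF.Cl A.left)ˣ := pc hL (EndAV.End.toHom x)

theorem isInvertibleCl_qcl (x : EndAV.End A) : PicF.IsInvertibleCl (qcl hL x : PicF.Cl A.left) :=
  PicClLib.isInvertibleCl_pullCl _ ⟨L, rfl, hL⟩

theorem qcl_zero : qcl hL (0 : EndAV.End A) = 1 := pc_one hL A

/-- The bilinear form. -/
def bcl (x y : EndAV.End A) : (PicF.Cl A.left)ˣ := qcl hL (x + y) / (qcl hL x * qcl hL y)

theorem isInvertibleCl_bcl (x y : EndAV.End A) : PicF.IsInvertibleCl (bcl hL x y : PicF.Cl A.left) :=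
  isInvertibleCl_div (isInvertibleCl_qcl hL _)
    (by rw [Units.val_mul]; exact PicMul.isInvertibleCl_mul (isInvertibleCl_qcl hL x) (isInvertibleCl_qcl hL y))

theorem qcl_add (x y : EndAV.End A) : qcl hL (x + y) = qcl hL x * qcl hL y * bcl hL x y := by
  rw [bcl, mul_div_cancel]

theorem bcl_comm (x y : EndAV.End A) : bcl hL x y = bcl hL y x := by
  rw [bcl, bcl, add_comm, _root_.mul_comm (qcl hL x)]

theorem bcl_add (x y z : EndAV.End A) : bcl hL (x + y) z = bcl hL x z * bcl hL y z := by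
  have h : qcl hL (x + y + z) * qcl hL x * qcl hL y * qcl hL z =
      qcl hL (x + y) * qcl hL (x + z) * qcl hL (y + z) :=
    cube_rel hL (EndAV.End.toHom x) (EndAV.End.toHom y) (EndAV.End.toHom z)
  rw [bcl, bcl, bcl, div_mul_div_comm, div_eq_div_iff_mul_eq_mul]
  calc qcl hL (x + y + z) * (qcl hL x * qcl hL z * (qcl hL y * qcl hL z))
      = qcl hL (x + y + z) * qcl hL x * qcl hL y * qcl hL z * qcl hL z := by ac_rfl
    _ = qcl hL (x + y) * qcl hL (x + z) * qcl hL (y + z) * qcl hL z := by rw [h]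
    _ = qcl hL (x + z) * qcl hL (y + z) * (qcl hL (x + y) * qcl hL z) := by ac_rfl

/-- The bilinear form as an additive map in the first variable. -/
def bclHom (z : EndAV.End A) : EndAV.End A →+ Additive (PicF.Cl A.left)ˣ :=
  AddMonoidHom.mk' (fun x => Additive.ofMul (bcl hL x z)) fun x y => congrArg Additive.ofMul (bcl_add hL x y z)

theorem bcl_sum_nsmul {J : Type*} (s : Finset J) (c : J → ℕ) (x : J → EndAV.End A) (z : EndAV.End A) :
    bcl hL (∑ j ∈ s, c j • x j) z = ∏ j ∈ s, bcl hL (x j) z ^ c j := by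
  have h := map_sum (bclHom hL z) (fun j => c j • x j) s
  simp only [map_nsmul] at h
  exact congrArg Additive.toMul h

theorem bcl_nsmul (n : ℕ) (x z : EndAV.End A) : bcl hL (n • x) z = bcl hL x z ^ n :=
  congrArg Additive.toMul (map_nsmul (bclHom hL z) n x)

theorem qcl_nsmul (x : EndAV.End A) : ∀ n : ℕ, qcl hL (n • x) = qcl hL x ^ n * bcl hL x x ^ n.choose 2
  | 0 => by rw [zero_nsmul, qcl_zero]; simp
  | n + 1 => by
    rw [succ_nsmul, qcl_add, qcl_nsmul x n, bcl_nsmul, Nat.choose_succ_succ n 1, Nat.choose_one_right, pow_succ,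
      pow_add]
    ac_rfl

/-- The class of the pullback along a combination is a family with polynomial exponents. -/
theorem isPolyFam_qcl : ∀ {r : ℕ} (ψ : Fin r → EndAV.End A), IsPolyFam fun c => qcl hL (∑ i, c i • ψ i)
  | 0, ψ => IsPolyFam.one.congr fun c => by rw [Finset.univ_eq_empty, Finset.sum_empty, qcl_zero]
  | r + 1, ψ => by
    let χ := ψ (Fin.last r)
    have h1 := (isPolyFam_qcl fun i => ψ i.castSucc).comp Fin.castSucc
    have h2 := IsPolyFam.single (σ := Fin (r + 1)) (qcl hL χ) (isInvertibleCl_qcl hL χ) (fun c => c (Fin.last r))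
      (MvPolynomial.X (Fin.last r)) fun c => by simp
    have h3 := IsPolyFam.single (σ := Fin (r + 1)) (bcl hL χ χ) (isInvertibleCl_bcl hL χ χ)
      (fun c => (c (Fin.last r)).choose 2)
      (MvPolynomial.C (1 / 2 : ℚ) * (MvPolynomial.X (Fin.last r) * (MvPolynomial.X (Fin.last r) - 1))) fun c => by
        simp [Nat.cast_choose_two]; ring
    have h4 := IsPolyFam.prod Finset.univ (fun (i : Fin r) (c : Fin (r + 1) → ℕ) =>
        bcl hL (ψ i.castSucc) χ ^ (c i.castSucc * c (Fin.last r))) fun i _ =>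
      IsPolyFam.single _ (isInvertibleCl_bcl hL _ _) _
        (MvPolynomial.X i.castSucc * MvPolynomial.X (Fin.last r)) fun c => by simp
    refine ((h1.mul (h2.mul h3)).mul h4).congr fun c => ?_
    rw [Fin.sum_univ_castSucc, qcl_add, qcl_nsmul, bcl_sum_nsmul]
    congr 1
    refine Finset.prod_congr rfl fun i _ => ?_
    rw [bcl_comm, bcl_nsmul, bcl_comm, ← pow_mul, _root_.mul_comm (c (Fin.last r))]

variable [IsAlgClosed k]

/-- The degree of a combination is a polynomial in the coefficients, where it is finite. -/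
theorem exists_nu_poly_finite {g : ℕ} (hg : topologicalKrullDim A.left = g) {r : ℕ} (ψ : Fin r → EndAV.End A) :
    ∃ Q : MvPolynomial (Fin r) ℚ, ∀ c : Fin r → ℕ, IsFinite (EndAV.End.toHom (∑ i, c i • ψ i)).left →
      nu (∑ i, c i • ψ i) = MvPolynomial.eval (fun i => (c i : ℚ)) Q := by
  classical
  haveI := AVIsog3.isIntegral_left A
  letI : A.left.Over (Spec (CommRingCat.of k)) := ⟨A.hom⟩
  haveI : IsProper (A.left ↘ Spec (CommRingCat.of k)) := ‹IsProper A.hom›
  haveI := CurveCohLib.isNoetherian_of_proper (k := k) (X := A.left)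
  obtain ⟨M₀, hM₀, -⟩ := S8121.result k A
  have hLi : PicF.IsInvertible M₀ := hM₀.1
  have hO : Coh.IsCoh (Coh.structureModule A.left) := QCoh.isCoh_structureModule'
  have hsupp : topologicalKrullDim ↥(CohB1.support (Coh.structureModule A.left)) = (g : WithBot ℕ∞) := by
    rw [VanGrowth.support_structureModule, VanGrowth.dim_univ, hg]
  obtain ⟨P₀, hP₀, -, hα⟩ := HilbPoly.exists_poly (HilbPoly.additive_euler k) hM₀.1 hO hsupp.le
  have ha : 0 < P₀.coeff g := by
    have h1 := (HilbPoly.mult_nonneg_and_pos k hM₀ g _ hO hsupp.le).2 hsupp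
    have h2 : (0 : ℚ) < StabCat.alpha g P₀ := by rw [hα]; exact_mod_cast h1
    exact pos_of_mul_pos_right h2 (Nat.cast_nonneg _)
  obtain ⟨t, w, e, E, hw, hE, hF⟩ := isPolyFam_qcl hLi ψ
  choose Mw hMw hMwi using hw
  obtain ⟨P, -, hP⟩ := exists_mpoly k (L := Mw) hMwi hO hsupp.le
  let Φ : MvPolynomial (Fin t) ℚ →ₐ[ℚ] Polynomial (MvPolynomial (Fin r) ℚ) :=
    MvPolynomial.aeval fun j => Polynomial.C (E j) * Polynomial.X
  refine ⟨(Φ P).coeff g * MvPolynomial.C (1 / P₀.coeff g), fun c hfin => ?_⟩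
  let f : EndAV.End A := ∑ i, c i • ψ i
  haveI : IsFinite (EndAV.End.toHom f).left := hfin
  haveI := AVIsog3.surjective_of_isFinite (EndAV.End.toHom f) rfl
  haveI := AVIsog3.flat_of_surjective (EndAV.End.toHom f)
  haveI := AVIsog3.lfp_left (EndAV.End.toHom f)
  obtain ⟨Q, hQ, hQn⟩ := isMPolyLt_pullback k (EndAV.End.toHom f).left (Over.w _) hg
    (L := fun _ : Fin 1 => M₀) (fun _ => hLi)
  rw [← nu_of_finite f hfin (genericPoint A.left)]
  set d : ℚ := ((EndAV.End.toHom f).left.finrank (genericPoint A.left) : ℚ)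
  let ev : MvPolynomial (Fin r) ℚ →+* ℚ := MvPolynomial.eval fun i => (c i : ℚ)
  have hΦ : ∀ (P : MvPolynomial (Fin t) ℚ) (m : ℚ),
      ((Φ P).map ev).eval m = MvPolynomial.eval (fun j => ev (E j) * m) P := by
    intro P m
    induction P using MvPolynomial.induction_on with
    | C a => simp [Φ, ev, Polynomial.algebraMap_apply]
    | add p q hp hq => simp [hp, hq]
    | mul_X p i hp => simp [Φ] at hp ⊢; simp [hp]
  have hp : (Φ P).map ev - Polynomial.C d * P₀ =
      MvPolynomial.aeval (fun _ : Fin 1 => (Polynomial.X : Polynomial ℚ)) Q := by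
    refine eq_of_eval_natCast _ _ 0 fun m _ => ?_
    rw [Polynomial.eval_sub, Polynomial.eval_mul, Polynomial.eval_C, hΦ, ← hP₀ m, eval_aeval_X, ← hQn fun _ => m]
    have hsl : (fun j => ev (E j) * (m : ℚ)) = fun j => ((e j c * m : ℕ) : ℚ) := funext fun j => by
      rw [show ev (E j) = _ from hE j c, Nat.cast_mul]
    rw [hsl, ← hP]
    simp only [Pi.sub_apply, Pi.smul_apply, smul_eq_mul]
    congr 1
    refine congrArg Int.cast (CurveCohLib.euler_congr (k := k) ?_)
    exact (PicMul.cl_eq_iff.1 (by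
      rw [cl_tensorPows, cl_tensorPows, Fin.prod_univ_one]
      congr 1
      simp only [hMw, ← Units.val_pow_eq_pow_val]
      rw [← Units.coe_prod, ← val_pc hLi, ← Units.val_pow_eq_pow_val]
      refine congrArg Units.val ?_
      show _ = qcl hLi f ^ m
      rw [show qcl hLi f = _ from hF c, ← Finset.prod_pow]
      simp only [pow_mul])).some
  have hg' := congrArg (fun q => Polynomial.coeff q g) hp
  simp only [Polynomial.coeff_sub, Polynomial.coeff_C_mul, coeff_aeval_X_eq_zero le_rfl Q hQ,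
    Polynomial.coeff_map] at hg'
  rw [map_mul, MvPolynomial.eval_C, show MvPolynomial.eval (fun i => (c i : ℚ)) ((Φ P).coeff g) = ev ((Φ P).coeff g)
    from rfl, sub_eq_zero.1 hg']
  field_simp

theorem eval_aeval_poly {σ : Type*} (v : σ → Polynomial ℚ) (x : ℚ) (Q : MvPolynomial σ ℚ) :
    Polynomial.eval x (MvPolynomial.aeval v Q) = MvPolynomial.eval (fun i => (v i).eval x) Q := by
  induction Q using MvPolynomial.induction_on with
  | C a => simp
  | add p q hp hq => simp [hp, hq]
  | mul_X p i hp => simp [hp]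

/-- The degree of a combination is a polynomial in the coefficients. -/
theorem exists_nu_poly {g : ℕ} (hg : topologicalKrullDim A.left = g) {r : ℕ} (ψ : Fin r → EndAV.End A) :
    ∃ Q : MvPolynomial (Fin r) ℚ, ∀ c : Fin r → ℕ,
      nu (∑ i, c i • ψ i) = MvPolynomial.eval (fun i => (c i : ℚ)) Q := by
  classical
  obtain ⟨Q₁, hQ₁⟩ := exists_nu_poly_finite hg (Fin.snoc ψ (1 : EndAV.End A))
  refine ⟨MvPolynomial.aeval (Fin.lastCases 0 MvPolynomial.X) Q₁, fun c => ?_⟩
  set S := ∑ i, c i • ψ i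
  obtain ⟨R, -, -, hR⟩ := exists_poly_nu hg S
  let p : Polynomial ℚ := MvPolynomial.aeval (Fin.lastCases Polynomial.X fun i => Polynomial.C (c i : ℚ)) Q₁
  have hp : ∀ x : ℚ, p.eval x = MvPolynomial.eval (Fin.lastCases x fun i => (c i : ℚ)) Q₁ := by
    intro x
    rw [eval_aeval_poly]
    refine congrArg (fun v => MvPolynomial.eval v Q₁) (funext fun i => ?_)
    cases i using Fin.lastCases <;> simp
  obtain ⟨B, hB⟩ := ((finite_setOf_not_isFinite hg S).image Int.natAbs).bddAbove
  have hpR : p = R := by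
    refine eq_of_eval_natCast _ _ (B + 1) fun n hn => ?_
    have hs : ∑ i, (Fin.snoc c n : Fin (r + 1) → ℕ) i • (Fin.snoc ψ (1 : EndAV.End A) : Fin (r + 1) → EndAV.End A) i =
        S + ((n : ℤ) : EndAV.End A) := by
      rw [Fin.sum_univ_castSucc, Fin.snoc_last, Fin.snoc_last, nsmul_one, Int.cast_natCast]
      simp only [Fin.snoc_castSucc]
      rfl
    have hf : IsFinite (EndAV.End.toHom (S + ((n : ℤ) : EndAV.End A))).left := by
      by_contra h
      have := hB ⟨(n : ℤ), h, rfl⟩
      simp only [Int.natAbs_natCast] at this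
      omega
    have h := hQ₁ (Fin.snoc c n) (by rw [hs]; exact hf)
    rw [hs, hR n] at h
    rw [hp, show ((n : ℕ) : ℚ) = (((n : ℤ)) : ℚ) from (Int.cast_natCast n).symm, h]
    congr 2
    funext i
    cases i using Fin.lastCases <;> simp
  have h0 := hR 0
  rw [Int.cast_zero, add_zero, ← hpR, Int.cast_zero, hp] at h0
  rw [h0]
  simp only [MvPolynomial.aeval_def, MvPolynomial.eval_eval₂]
  have hC : (MvPolynomial.eval fun i => (c i : ℚ)).comp (algebraMap ℚ (MvPolynomial (Fin r) ℚ)) = RingHom.id ℚ :=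
    RingHom.ext fun x => by simp
  rw [hC]
  refine congrArg (fun v => MvPolynomial.eval v Q₁) ?_
  funext i
  cases i using Fin.lastCases <;> simp

end Groth.Agent.AVDeg3
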