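import Groth.Agent.AVDeg3.DegPoly
import Groth.Agent.AVDeg3.DetVal

/-!
The degree of an endomorphism, zero when it is not an isogeny, as a multiplicative function.
-/

noncomputable section

set_option linter.style.haveILetI false
set_option linter.unusedSectionVars false
set_option backward.isDefEq.respectTransparency false
set_option backward.isDefEq.respectTransparency.types false

universe u

open CategoryTheory CategoryTheory.Limits MonoidalCategory CartesianMonoidalCategory MonObj GrpObj AlgebraicGeometry
open scoped Classical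

namespace Groth.Agent.AVDeg3

variable {k : Type u} [Field k] [IsAlgClosed k] {A : Over (Spec (CommRingCat.of k))} [GrpObj A] [IsCommMonObj A]
  [IsProper A.hom] [GeometricallyIntegral A.hom]

/-- The degree, zero for endomorphisms which are not finite. -/
def nu (f : EndAV.End A) : ℚ :=
  if IsFinite (EndAV.End.toHom f).left then
    ((EndAV.End.toHom f).left.finrank (η[A].left (IsLocalRing.closedPoint k)) : ℚ) else 0

theorem nu_of_finite (f : EndAV.End A) (hf : IsFinite (EndAV.End.toHom f).left) (a : A.left) :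
    ((EndAV.End.toHom f).left.finrank a : ℚ) = nu f := by
  haveI := hf
  haveI := AVIsog3.surjective_of_isFinite (EndAV.End.toHom f) rfl
  rw [nu, if_pos hf, finrank_apply_eq (EndAV.End.toHom f) a]

theorem nu_of_not_finite (f : EndAV.End A) (hf : ¬ IsFinite (EndAV.End.toHom f).left) : nu f = 0 := if_neg hf

theorem nu_ne_zero_iff (f : EndAV.End A) : nu f ≠ 0 ↔ IsFinite (EndAV.End.toHom f).left := by
  refine ⟨fun h => by_contra fun hf => h (nu_of_not_finite f hf), fun hf => ?_⟩
  haveI := hf
  haveI := AVIsog3.surjective_of_isFinite (EndAV.End.toHom f) rfl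
  rw [nu, if_pos hf]
  exact Nat.cast_ne_zero.2 (AVIsog3.finrank_pos (EndAV.End.toHom f) _).ne'

/-- The degree of translates by integers is a monic polynomial of degree `2g`. -/
theorem exists_poly_nu {g : ℕ} (hg : topologicalKrullDim A.left = g) (f : EndAV.End A) :
    ∃ R : Polynomial ℚ, R.Monic ∧ R.natDegree = 2 * g ∧ ∀ n : ℤ, nu (f + (n : EndAV.End A)) = R.eval (n : ℚ) := by
  obtain ⟨R, hR, hd, hn⟩ := exists_degree_poly hg f
  refine ⟨R, hR, hd, fun n => ?_⟩
  by_cases h : IsFinite (EndAV.End.toHom (f + (n : EndAV.End A))).left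
  · rw [← nu_of_finite _ h (η[A].left (IsLocalRing.closedPoint k))]
    exact (hn n).1 h _
  · rw [nu_of_not_finite _ h, (hn n).2 h]

theorem nu_intCast {g : ℕ} (hg : topologicalKrullDim A.left = g) (n : ℤ) :
    nu (n : EndAV.End A) = (n : ℚ) ^ (2 * g) := by
  obtain ⟨R, -, -, hR⟩ := exists_poly_nu hg (0 : EndAV.End A)
  have e : R = Polynomial.X ^ (2 * g) := by
    refine eq_of_eval_natCast _ _ 1 fun m hm => ?_
    have h := hR m
    rw [zero_add] at h
    have hm0 : (m : ℤ) ≠ 0 := by omega
    have e2 : EndAV.End.toHom ((m : ℤ) : EndAV.End A) = 𝟙 A ^ (m : ℤ) := EndAV.End.toHom_intCast _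
    have hfin : IsFinite (EndAV.End.toHom ((m : ℤ) : EndAV.End A)).left := by
      rw [e2]; exact (AVDegLib.zpow_props (A := A) _ hm0).1
    rw [← nu_of_finite _ hfin (η[A].left (IsLocalRing.closedPoint k)), e2, AVDegLib.finrank_zpow hg _ hm0] at h
    rw [show (m : ℚ) = ((m : ℤ) : ℚ) from (Int.cast_natCast m).symm, ← h]
    simp
  have h := hR n
  rw [zero_add, e] at h
  simpa using h

/-- The degree is multiplicative. -/
theorem nu_mul (f f' : EndAV.End A) : nu (f * f') = nu f * nu f' := by
  let u := EndAV.End.toHom f'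
  let v := EndAV.End.toHom f
  have huv : EndAV.End.toHom (f * f') = u ≫ v := rfl
  by_cases hu : IsFinite u.left
  swap
  · rw [nu_of_not_finite f' hu, mul_zero, nu_of_not_finite]
    rw [huv, Over.comp_left]
    intro h
    haveI : IsProper v.left := AVIsog3.isProper_left v
    exact hu (IsFinite.of_comp u.left v.left)
  haveI := hu
  haveI := AVIsog3.surjective_of_isFinite u rfl
  haveI := AVIsog3.flat_of_surjective u
  haveI := AVIsog3.isProper_left u
  by_cases hv : IsFinite v.left
  swap
  · rw [nu_of_not_finite f hv, zero_mul, nu_of_not_finite]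
    rw [huv]
    intro h
    refine hv (isFinite_of_finite_ker v ?_)
    have hfin : Set.Finite {x : 𝟙_ (Over (Spec (CommRingCat.of k))) ⟶ A | x ≫ (u ≫ v) = η[A]} := by
      haveI := h
      exact AVTate3.finite_comp_eq (𝟙 (Spec (CommRingCat.of k))) (u ≫ v) η[A]
    refine (hfin.image fun x => x ≫ u).subset fun y (hy : y ≫ v = η[A]) => ?_
    obtain ⟨x, hx⟩ := AVTate3.exists_comp_eq (𝟙 (Spec (CommRingCat.of k))) u y
    exact ⟨x, show x ≫ u ≫ v = η[A] by rw [← Category.assoc, hx, hy], hx⟩
  haveI := hv
  haveI := AVIsog3.surjective_of_isFinite v rfl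
  haveI := AVIsog3.flat_of_surjective v
  have hc : IsFinite (EndAV.End.toHom (f * f')).left := by
    rw [huv, Over.comp_left]; infer_instance
  let o := η[A].left (IsLocalRing.closedPoint k)
  rw [← nu_of_finite _ hc o, ← nu_of_finite f hv o, ← nu_of_finite f' hu o, huv, Over.comp_left,
    AbSchX.FinRank.finrank_comp u.left v.left _ (fun y => finrank_apply_eq u y o) o, Nat.cast_mul, mul_comm]

theorem nu_one {g : ℕ} (hg : topologicalKrullDim A.left = g) : nu (1 : EndAV.End A) = 1 := by
  simpa using nu_intCast hg (A := A) 1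

end Groth.Agent.AVDeg3
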