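import Mathlib.Algebra.MvPolynomial.Eval
import Mathlib.Algebra.MvPolynomial.Degrees
import Mathlib.Algebra.Polynomial.AlgebraMap
import Mathlib.Algebra.Polynomial.Roots
import Mathlib.RingTheory.Localization.Integral
import Mathlib.Data.Rat.Cast.CharZero
import Mathlib.Data.Nat.Prime.Infinite
import Mathlib.Tactic.Ring
import Mathlib.Tactic.FieldSimp

/-!
Polynomial substitutions used for the degree of `φ + n`, and arithmetic of rational polynomials.
-/

noncomputable section

open Polynomial

namespace Groth.Agent.AVDeg3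

/-- The polynomial `n (n - 1) / 2`. -/
def choose2 : ℚ[X] := C (1 / 2) * (X * (X - 1))

theorem choose2_eval (n : ℕ) : choose2.eval (n : ℚ) = (n.choose 2 : ℚ) := by
  rw [Nat.cast_choose_two]
  simp only [choose2, eval_mul, eval_C, eval_X, eval_sub, eval_one]
  ring

theorem natDegree_choose2_le : choose2.natDegree ≤ 2 := by
  unfold choose2
  compute_degree

theorem coeff_choose2 : choose2.coeff 2 = 1 / 2 := by
  unfold choose2
  rw [coeff_C_mul, coeff_X_mul]
  simp [coeff_one]

/-- The three slopes `1`, `n`, `n (n - 1) / 2`. -/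
def slope : Fin 3 → ℚ[X] := ![1, X, choose2]

/-- Substitute `(m, n m, n (n - 1) / 2 · m)`. -/
def subst : MvPolynomial (Fin 3) ℚ →ₐ[ℚ] ℚ[X][X] :=
  MvPolynomial.aeval fun i => C (slope i) * X

theorem slope_props (i : Fin 3) :
    (slope i).natDegree ≤ 2 ∧ (slope i).coeff 2 = if i = 2 then 1 / 2 else 0 := by
  fin_cases i
  · simp [slope, coeff_one]
  · simp [slope, natDegree_X, coeff_X]
  · exact ⟨natDegree_choose2_le, by simpa [slope] using coeff_choose2⟩

theorem eval_subst (P : MvPolynomial (Fin 3) ℚ) (m n : ℚ) :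
    ((subst P).map (evalRingHom n)).eval m = MvPolynomial.eval (fun i => (slope i).eval n * m) P := by
  induction P using MvPolynomial.induction_on with
  | C a => simp [subst]
  | add p q hp hq => simp [hp, hq]
  | mul_X p i hp => simp [subst] at hp ⊢; simp [hp]

/-- The substitution bounds the degree in `n`, and its top part only sees the third variable. -/
theorem subst_spec (P : MvPolynomial (Fin 3) ℚ) : ∀ j : ℕ, ((subst P).coeff j).natDegree ≤ 2 * j ∧
    ((subst P).coeff j).coeff (2 * j) =
      (MvPolynomial.aeval (fun i : Fin 3 => if i = 2 then C (1 / 2 : ℚ) * X else 0) P).coeff j := by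
  induction P using MvPolynomial.induction_on with
  | C a =>
    intro j
    simp only [subst, MvPolynomial.aeval_C, Polynomial.algebraMap_apply, coeff_C]
    rcases j with _ | j <;> simp
  | add p q hp hq =>
    intro j
    simp only [map_add, coeff_add]
    exact ⟨(natDegree_add_le _ _).trans (max_le (hp j).1 (hq j).1), by rw [(hp j).2, (hq j).2]⟩
  | mul_X p i hp =>
    intro j
    rw [map_mul, map_mul, MvPolynomial.aeval_X]
    rw [show subst (MvPolynomial.X i) = C (slope i) * X from MvPolynomial.aeval_X _ i, ← mul_assoc]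
    rcases j with _ | j
    · refine ⟨by simp, ?_⟩
      split_ifs <;> simp [← mul_assoc]
    · rw [coeff_mul_X, coeff_mul_C, show 2 * (j + 1) = 2 * j + 2 by ring]
      refine ⟨natDegree_mul_le.trans (add_le_add (hp j).1 (slope_props i).1), ?_⟩
      rw [coeff_mul_add_eq_of_natDegree_le (hp j).1 (slope_props i).1, (hp j).2, (slope_props i).2]
      split_ifs
      · rw [← mul_assoc, coeff_mul_X, coeff_mul_C]
      · simp

/-- A substitution of one variable into a polynomial of degree below `d` has no terms from degree `d` on. -/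
theorem coeff_aeval_X_eq_zero {σ : Type*} {d j : ℕ} (hj : d ≤ j) (Q : MvPolynomial σ ℚ)
    (hQ : ∀ α ∈ Q.support, (α.sum fun _ e => e) < d) :
    (MvPolynomial.aeval (fun _ : σ => (X : ℚ[X])) Q).coeff j = 0 := by
  classical
  rw [MvPolynomial.aeval_def, MvPolynomial.eval₂_eq, finsetSum_coeff]
  refine Finset.sum_eq_zero fun α hα => ?_
  rw [Finset.prod_pow_eq_pow_sum, ← C_eq_algebraMap, coeff_C_mul_X_pow, if_neg]
  have := hQ α hα
  rw [Finsupp.sum] at this
  omega

/-- Rational polynomials agreeing at natural numbers from some point on are equal. -/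
theorem eq_of_eval_natCast (p q : ℚ[X]) (N : ℕ) (h : ∀ n : ℕ, N ≤ n → p.eval (n : ℚ) = q.eval (n : ℚ)) : p = q := by
  refine eq_of_infinite_eval_eq p q (Set.Infinite.mono (s := (fun n : ℕ => (n : ℚ)) '' Set.Ici N) ?_ ?_)
  · rintro _ ⟨n, hn, rfl⟩
    exact h n hn
  · exact (Set.Ici_infinite N).image (Nat.cast_injective.injOn)

/-- If infinitely many primes divide nearby integer values, the value is zero. -/
theorem eval_eq_zero_of_dvd (R : ℚ[X]) (n₀ : ℤ) (N : ℕ)
    (h : ∀ l : ℕ, l.Prime → N < l → ∃ j a : ℤ, R.eval ((n₀ + l * j : ℤ) : ℚ) = ((l * a : ℤ) : ℚ)) :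
    R.eval (n₀ : ℚ) = 0 := by
  obtain ⟨b, hb, hR⟩ := IsLocalization.integerNormalization_spec (nonZeroDivisors ℤ) R
  set S : ℤ[X] := IsLocalization.integerNormalization (nonZeroDivisors ℤ) R
  have hS : ∀ z : ℤ, ((S.eval z : ℤ) : ℚ) = (b : ℚ) * R.eval (z : ℚ) := fun z => by
    have h1 := congrArg (fun p : ℚ[X] => p.eval ((z : ℤ) : ℚ)) hR
    simp only [eval_smul] at h1
    rw [← eq_intCast (algebraMap ℤ ℚ) (S.eval z), ← eq_intCast (algebraMap ℤ ℚ) z, ← eval_map_apply,
      eq_intCast (algebraMap ℤ ℚ) z, h1]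
    simp [zsmul_eq_mul]
  have hb0 : b ≠ 0 := nonZeroDivisors.ne_zero hb
  have h0 : S.eval n₀ = 0 := by
    obtain ⟨l, hl, hlp⟩ := Nat.exists_infinite_primes (max N ((S.eval n₀).natAbs) + 1)
    have hlN : N < l := lt_of_lt_of_le (Nat.lt_succ_of_le (le_max_left _ _)) hl
    obtain ⟨j, a, ha⟩ := h l hlp hlN
    have h1 : (l : ℤ) ∣ S.eval (n₀ + l * j) := by
      refine ⟨b * a, ?_⟩
      have h2 := hS (n₀ + l * j)
      rw [ha] at h2
      push_cast at h2
      exact_mod_cast (by rw [h2]; push_cast; ring : ((S.eval (n₀ + l * j) : ℤ) : ℚ) = ((l * (b * a) : ℤ) : ℚ))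
    have h3 : (l : ℤ) ∣ S.eval (n₀ + l * j) - S.eval n₀ :=
      dvd_trans ⟨j, by ring⟩ (sub_dvd_eval_sub (n₀ + l * j) n₀ S)
    have h4 : (l : ℤ) ∣ S.eval n₀ := by simpa using dvd_sub h1 h3
    refine Int.eq_zero_of_dvd_of_natAbs_lt_natAbs h4 ?_
    have := Nat.lt_succ_of_le (le_max_right N ((S.eval n₀).natAbs))
    simp only [Int.natAbs_natCast]
    omega
  have h5 := hS n₀
  rw [h0, Int.cast_zero, eq_comm, mul_eq_zero] at h5
  exact h5.resolve_left (Int.cast_ne_zero.2 hb0)

/-- Scaling the variable commutes with substitution. -/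
theorem aeval_scale {σ : Type*} [DecidableEq σ] {i₀ : σ} {u : ℚ} (P : MvPolynomial σ ℚ) :
    MvPolynomial.aeval (fun i : σ => if i = i₀ then C u * X else 0) P =
      (MvPolynomial.aeval (fun i : σ => if i = i₀ then (X : ℚ[X]) else 0) P).comp (C u * X) := by
  induction P using MvPolynomial.induction_on with
  | C a => simp
  | add p q hp hq => simp [hp, hq]
  | mul_X p i hp => simp [hp]; split_ifs <;> simp

/-- Evaluation of the diagonal substitution. -/
theorem eval_aeval_X {σ : Type*} (m : ℚ) (Q : MvPolynomial σ ℚ) :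
    Polynomial.eval m (MvPolynomial.aeval (fun _ : σ => (X : ℚ[X])) Q) = MvPolynomial.eval (fun _ => m) Q := by
  induction Q using MvPolynomial.induction_on with
  | C a => simp
  | add p q hp hq => simp [hp, hq]
  | mul_X p i hp => simp [hp]

end Groth.Agent.AVDeg3
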