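import Groth.Agent.Snapper.Multi
import Groth.Agent.CurveBC.Etale

/-!
Euler characteristics of pullbacks along finite flat morphisms: up to polynomials of lower degree they
are multiplied by the degree.
-/

noncomputable section

set_option linter.style.haveILetI false
set_option linter.unusedSectionVars false
set_option backward.isDefEq.respectTransparency false
set_option backward.isDefEq.respectTransparency.types false

universe u

open CategoryTheory CategoryTheory.Limits AlgebraicGeometry TopologicalSpace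

namespace Groth.Agent.AVDeg3

open Groth.Agent.Snapper Groth.Agent.H23
open scoped Groth.Agent.H23.PicMul

variable {X Y : Scheme.{u}}

theorem cl_tensorPows (M : X.Modules) : ∀ {r : ℕ} (L : Fin r → X.Modules) (n : Fin r → ℕ),
    PicF.cl (Curv2.tensorPows M r L n) = PicF.cl M * ∏ i, PicF.cl (L i) ^ n i
  | 0, L, n => by simp [Curv2.tensorPows]
  | r + 1, L, n => by
    rw [Fin.prod_univ_castSucc, ← mul_assoc, ← cl_tensorPows M (fun i => L i.castSucc) (fun i => n i.castSucc),
      ← PicMul.cl_tensorPow, ← PicMul.cl_tensor]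
    rfl

theorem isCoh_freeMod (X : Scheme.{u}) [IsLocallyNoetherian X] (d : ℕ) : Coh.IsCoh (FlatMod.freeMod X d) :=
  CurveDeg.isCoh_of_isFinLocFree (KFlatLib.isFinLocFree_freeMod d)

section Chi

variable (k : Type u) [Field k] [X.Over (Spec (CommRingCat.of k))] [IsProper (X ↘ Spec (CommRingCat.of k))]
  {r : ℕ} {L : Fin r → X.Modules}

theorem χs_freeMod (hL : ∀ i, PicF.IsInvertible (L i)) (n : Fin r → ℕ) :
    ∀ d : ℕ, χs k L (FlatMod.freeMod X d) n = d * χs k L (Coh.structureModule X) n
  | 0 => by
    haveI := CurveCohLib.isNoetherian_of_proper (k := k) (X := X)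
    have hz : IsZero (FlatMod.freeMod X 0) := KFlatLib.isZero_freeMod_zero
    rw [χs_eq_zero k hL (isCoh_freeMod X 0) ?_ n, Nat.cast_zero, zero_mul]
    ext x
    refine iff_of_false (fun hx => hx ?_) (Set.notMem_empty x)
    exact (ModuleCat.isZero_iff_subsingleton (M := (DerSch.stalkFunctor X x).obj (FlatMod.freeMod X 0))).1
      (Functor.map_isZero _ hz)
  | d + 1 => by
    haveI := CurveCohLib.isNoetherian_of_proper (k := k) (X := X)
    let f : FlatMod.freeMod X d ⟶ FlatMod.freeMod X (d + 1) :=
      Sigma.desc fun i => Sigma.ι (fun _ : Fin (d + 1) => Coh.structureModule X) i.castSucc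
    let g : FlatMod.freeMod X (d + 1) ⟶ Coh.structureModule X :=
      Sigma.desc fun i => if i = Fin.last d then 𝟙 _ else 0
    let p : FlatMod.freeMod X (d + 1) ⟶ FlatMod.freeMod X d :=
      Sigma.desc fun i => Fin.lastCases 0 (fun j => Sigma.ι (fun _ : Fin d => Coh.structureModule X) j) i
    let s : Coh.structureModule X ⟶ FlatMod.freeMod X (d + 1) :=
      Sigma.ι (fun _ : Fin (d + 1) => Coh.structureModule X) (Fin.last d)
    have w : f ≫ g = 0 := Sigma.hom_ext _ _ fun i => by simp [f, g]
    let sp : (ShortComplex.mk f g w).Splitting :=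
      { r := p
        s := s
        f_r := Sigma.hom_ext _ _ fun i => by simp [f, p]
        s_g := by simp [s, g]
        id := Sigma.hom_ext _ _ fun i => by
          induction i using Fin.lastCases with
          | last => simp [f, g, p, s]
          | cast i => simp [f, g, p, s] }
    have h := congrFun (χs_add k hL sp.shortExact (isCoh_freeMod X d) (isCoh_freeMod X (d + 1))
      QCoh.isCoh_structureModule') n
    simp only [Pi.add_apply] at h
    rw [h, χs_freeMod hL n d]
    push_cast
    ring

/-- A locally free module of rank `d` has `d` times the Euler characteristics, up to lower degree. -/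
theorem isMPolyLt_locFree [IsIntegral X] (hL : ∀ i, PicF.IsInvertible (L i)) {g : ℕ}
    (hg : topologicalKrullDim X = g) {d : ℕ} {F : X.Modules} (hF : FlatMod.IsFinLocFreeOfRank d F) :
    IsMPolyLt g (χs k L F - (d : ℚ) • χs k L (Coh.structureModule X)) := by
  haveI := CurveCohLib.isNoetherian_of_proper (k := k) (X := X)
  obtain ⟨U, hxU, ⟨e⟩⟩ := hF (genericPoint X)
  have hFc : Coh.IsCoh F := CurveDeg.isCoh_of_isFinLocFree fun y => let ⟨W, hy, he⟩ := hF y; ⟨W, d, hy, he⟩
  let A := FlatMod.freeMod X d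
  let B := (Scheme.Modules.pushforward U.ι).obj (F.restrict U.ι)
  let eA : A.restrict U.ι ≅ FlatMod.freeMod (↑U) d :=
    (Scheme.Modules.restrictFunctorIsoPullback _).app _ ≪≫ KFlatLib.pullFreeIso _ d
  let φ : A ⟶ B := resMap U A ≫ (Scheme.Modules.pushforward U.ι).map (eA ≪≫ e.symm).hom
  have hφ : IsoOn U φ := fun x hx => by
    haveI := isoOn_resMap U A x hx
    rw [Functor.map_comp]
    infer_instance
  obtain ⟨K, I, a, b, c, hK, hI, ha, hb, hc⟩ := exists_link (isCoh_freeMod X d) hFc
    (QCoh.isQCoh_pushforward U.ι (QCoh.isQCoh_restrict U.ι hFc.1)) φ (resMap U F) hφ (isoOn_resMap U F)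
  have IH : ∀ M : X.Modules, Coh.IsCoh M → CohB1.support M ⊆ (Set.univ : Set X) \ U → IsMPolyLt g (χs k L M) := by
    intro M hM hMC
    refine isMPolyLt_of_dim_lt k hL g ⟨(U : Set X)ᶜ, U.2.isClosed_compl⟩ ?_ M hM fun x hx => (hMC hx).2
    show topologicalKrullDim ↥((U : Set X)ᶜ) < _
    rw [← hg]
    exact H23.TopDim.dim_lt_of_ssubset (by rw [hg]; exact WithBot.coe_injective.ne (ENat.coe_ne_top g))
      U.2.isClosed_compl fun h => (h.symm.subset (Set.mem_univ (genericPoint X))) hxU
  have e1 := isMPolyLt_sub_of_isoOn k hL IH hK (isCoh_freeMod X d) (Set.subset_univ _) (Set.subset_univ _) a ha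
  have e2 := isMPolyLt_sub_of_isoOn k hL IH hK hI (Set.subset_univ _) (Set.subset_univ _) b hb
  have e3 := isMPolyLt_sub_of_isoOn k hL IH hFc hI (Set.subset_univ _) (Set.subset_univ _) c hc
  refine ((e3.sub e2).add e1).congr fun n => ?_
  simp only [Pi.add_apply, Pi.sub_apply, Pi.smul_apply, smul_eq_mul, ← χs_freeMod k hL n d]
  ring

end Chi

variable (k : Type u) [Field k] [X.Over (Spec (CommRingCat.of k))] [Y.Over (Spec (CommRingCat.of k))]
  [IsProper (X ↘ Spec (CommRingCat.of k))] [IsProper (Y ↘ Spec (CommRingCat.of k))]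

include k in
/-- The Euler characteristics of pullbacks along a finite flat cover. -/
theorem isMPolyLt_pullback [IsIntegral X] [IsIntegral Y] (f : X ⟶ Y) [IsFinite f] [Flat f]
    [LocallyOfFinitePresentation f] (hf : f ≫ (Y ↘ Spec (CommRingCat.of k)) = X ↘ Spec (CommRingCat.of k))
    {g : ℕ} (hg : topologicalKrullDim Y = g) {r : ℕ} {L : Fin r → Y.Modules} (hL : ∀ i, PicF.IsInvertible (L i)) :
    IsMPolyLt g (χs k (fun i => (Scheme.Modules.pullback f).obj (L i)) (Coh.structureModule X) -
      (f.finrank (genericPoint Y) : ℚ) • χs k L (Coh.structureModule Y)) := by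
  haveI := CurveCohLib.isNoetherian_of_proper (k := k) (X := Y)
  haveI := CurveCohLib.isNoetherian_of_proper (k := k) (X := X)
  have hE := CurveBC.isFinLocFreeOfRank_push f
  have hd : f.finrank (genericPoint Y) = CurveBC.coverDeg f := by
    obtain ⟨U, hU, hy, ⟨e⟩⟩ := H23.CoverPush.crit_of_isFinLocFreeOfRank_push f hE (genericPoint Y)
    letI := H23.CoverPush.alg f U
    haveI : Nontrivial Γ(Y, U) := (Y.presheaf.germ U _ hy).hom.domain_nontrivial
    haveI : Module.Free Γ(Y, U) Γ(X, f ⁻¹ᵁ U) := Module.Free.of_equiv e.symm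
    rw [H23.CoverPush.finrank_eq f hU hy, Module.rankAtStalk_eq_finrank_of_free, Pi.natCast_apply,
      Nat.cast_id, e.finrank_eq, Module.finrank_finsupp_self]
    simp
  rw [hd]
  refine (isMPolyLt_locFree k hL hg hE).congr fun n => ?_
  simp only [Pi.sub_apply, Pi.smul_apply]
  congr 1
  let P := Curv2.tensorPows (Coh.structureModule Y) r L n
  let P' := Curv2.tensorPows (Coh.structureModule X) r (fun i => (Scheme.Modules.pullback f).obj (L i)) n
  let O' := (Scheme.Modules.pushforward f).obj (Coh.structureModule X)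
  have hP : PicF.IsInvertible P := by
    obtain ⟨W, hWc, hW⟩ : PicF.IsInvertibleCl (PicF.cl P) := by
      show PicF.IsInvertibleCl (PicF.cl (Curv2.tensorPows _ r L n))
      rw [cl_tensorPows, ← PicMul.one_def, one_mul]
      exact Finset.prod_induction _ PicF.IsInvertibleCl (fun _ _ => PicMul.isInvertibleCl_mul)
        ⟨_, rfl, InvX.isInvertible_structureModule⟩ fun i _ => by
          rw [← PicMul.cl_tensorPow]
          exact ⟨_, rfl, PicMul.isInvertible_tensorPow (hL i) _⟩
    obtain ⟨e⟩ := PicMul.cl_eq_iff.1 hWc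
    exact PicMul.isInvertible_of_iso e hW
  obtain ⟨e1⟩ : Nonempty (P' ≅ (Scheme.Modules.pullback f).obj P) := by
    refine PicMul.cl_eq_iff.1 ?_
    show _ = PicMul.pullHom f (PicF.cl (Curv2.tensorPows (Coh.structureModule Y) r L n))
    rw [cl_tensorPows, cl_tensorPows, ← PicMul.one_def, ← PicMul.one_def, one_mul, one_mul, map_prod]
    simp only [map_pow]
    rfl
  haveI : EnoughInjectives X.Modules := inferInstance
  obtain ⟨φ⟩ := S0927.result f (Coh.structureModule X) P
    (fun y => let ⟨W, hy, he⟩ := InvEnd.isFinLocFreeOfRank_one hP y; ⟨W, 1, hy, he⟩) 0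
  let ψ := (Scheme.Modules.pushforward f).rightDerivedZeroIsoSelf
  let a : (DCoh.tensorBi.obj P).obj O' ≅ (Scheme.Modules.pushforward f).obj ((Scheme.Modules.pullback f).obj P) :=
    (DCoh.tensorBi.obj P).mapIso (ψ.app (Coh.structureModule X)).symm ≪≫ φ ≪≫ ψ.app _ ≪≫
      (Scheme.Modules.pushforward f).mapIso (KFlatLib.tensorUnitIso ((Scheme.Modules.pullback f).obj P))
  obtain ⟨e2⟩ : Nonempty (Curv2.tensorPows O' r L n ≅ CohB1.tensorMod P O') := by
    refine PicMul.cl_eq_iff.1 ?_
    show _ = PicF.cl (CohB1.tensorMod (Curv2.tensorPows (Coh.structureModule Y) r L n) O')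
    rw [PicMul.cl_tensor, cl_tensorPows, cl_tensorPows, ← PicMul.one_def, one_mul, mul_comm]
  show (Curv2.euler k X P' : ℚ) = (Curv2.euler k Y (Curv2.tensorPows O' r L n) : ℚ)
  have he : ∀ M : X.Modules, Coh.IsQCoh M →
      Curv2.euler k X M = Curv2.euler k Y ((Scheme.Modules.pushforward f).obj M) := fun M hM =>
    finsum_congr fun i => by
      obtain ⟨e⟩ := PnCoh.exists_linearEquiv_push k f hf hM i
      rw [e.finrank_eq]
  congr 1
  rw [CurveCohLib.euler_congr e1, he _ (ProjUPX.isQCoh_of_isInvertible (PicClLib.isInvertible_pullback f hP)),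
    CurveCohLib.euler_congr e2]
  exact (CurveCohLib.euler_congr a).symm

end Groth.Agent.AVDeg3
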