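import Groth.Agent.AVDeg3.Section
import Groth.Agent.AVDeg3.MinPolyPow
import Groth.Agent.AVIdx.HomFinite
import Mathlib.RingTheory.HopkinsLevitzki
import Mathlib.RingTheory.Artinian.Module

/-!
The rational endomorphism algebra of an abelian variety is semisimple.
-/

noncomputable section

set_option linter.style.haveILetI false
set_option linter.unusedSectionVars false
set_option backward.isDefEq.respectTransparency false
set_option backward.isDefEq.respectTransparency.types false
set_option synthInstance.maxHeartbeats 400000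

universe u

open CategoryTheory CategoryTheory.Limits MonoidalCategory CartesianMonoidalCategory MonObj GrpObj AlgebraicGeometry
open scoped TensorProduct

namespace Groth.Agent.AVDeg3

variable {k : Type u} [Field k] (A : Over (Spec (CommRingCat.of k)))
  [GrpObj A] [IsCommMonObj A] [IsProper A.hom] [GeometricallyIntegral A.hom]

theorem hom_eq_zero_of_zsmul {m : ℤ} (hm : m ≠ 0) {φ : EndAV.Hom A A} (h : m • φ = 0) : φ = 0 := by
  obtain ⟨_, _⟩ := AVIdx.finite_free_hom A A
  exact (smul_eq_zero.1 h).resolve_left hm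

theorem eq_zero_of_toEnd0 {φ : EndAV.End A} (h : EndAV.toEnd0 φ = 0) : φ = 0 := by
  obtain ⟨m, hm, hmφ⟩ := exists_smul_eq_zero_of_tmul_eq_zero ((EndAV.toEnd0_apply φ).symm.trans h)
  exact hom_eq_zero_of_zsmul A hm hmφ

theorem finite_end0 : Module.Finite ℚ (EndAV.End0 A) := by
  obtain ⟨_, _⟩ := AVIdx.finite_free_hom A A
  haveI : Module.Finite ℤ (EndAV.End A) := inferInstanceAs (Module.Finite ℤ (EndAV.Hom A A))
  infer_instance

variable {A}

/-- Every nonzero endomorphism has a left multiple which is idempotent up to a positive factor. -/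
theorem exists_almost_idempotent (φ : EndAV.End A) (hφ : φ ≠ 0) :
    ∃ (y : EndAV.End A) (c : ℕ), 0 < c ∧ y * φ ≠ 0 ∧ y * φ * (y * φ) = c • (y * φ) := by
  obtain ⟨B, _, _, _, i, π, _, _, _, _, hπi⟩ := AVIsog3.exists_image_factor (EndAV.End.toHom φ)
  haveI : IsCommMonObj B := isCommMonObj_of_isProper_of_geometricallyIntegral B
  obtain ⟨r, d, hd, hr, hir⟩ := AVTrace.exists_retraction i
  obtain ⟨σ, e, he, hσ, hσπ⟩ := exists_section π
  haveI := hr
  haveI := hσ
  let y : EndAV.End A := EndAV.End.of (r ≫ σ)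
  have hy : EndAV.End.toHom (y * φ) = (π ≫ σ) ^ d := by
    rw [EndAV.End.toHom_mul, EndAV.End.toHom_of, ← hπi, Category.assoc, ← Category.assoc i, hir, MonObj.pow_comp,
      Category.id_comp, MonObj.comp_pow]
  refine ⟨y, d * e, Nat.mul_pos hd he, fun h0 => ?_, EndAV.End.ext ?_⟩
  · rw [h0, EndAV.End.toHom_zero] at hy
    have h1 := congrArg (fun t => σ ≫ t ≫ π) hy
    simp only [MonObj.one_comp, MonObj.comp_one, MonObj.pow_comp, MonObj.comp_pow, Category.assoc,
      reassoc_of% hσπ, hσπ, Category.id_comp, Category.comp_id, ← pow_mul] at h1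
    haveI : Subsingleton B.left := subsingleton_of_pow_eq_one (Nat.mul_pos he (Nat.mul_pos he hd)) h1.symm
    have hi1 : i = 1 := by
      haveI := AVIsog3.isIntegral_left B
      refine AVIsog3.eq_one_of_range i ?_
      rintro _ ⟨b, rfl⟩
      refine ⟨IsLocalRing.closedPoint k, ?_⟩
      have h2 : η[B] ≫ i = η[A] := IsMonHom.one_hom i
      rw [← h2, Over.comp_left, Scheme.Hom.comp_apply]
      exact congrArg i.left (Subsingleton.elim _ _)
    exact hφ (EndAV.End.ext (by rw [← hπi, hi1, MonObj.comp_one, EndAV.End.toHom_zero]))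
  · rw [EndAV.End.toHom_mul, EndAV.End.toHom_nsmul, hy]
    simp only [MonObj.pow_comp, MonObj.comp_pow, Category.assoc, reassoc_of% hσπ, Category.id_comp, ← pow_mul]
    ring_nf

variable (A) in
theorem isSemisimpleRing_end0 : IsSemisimpleRing (EndAV.End0 A) := by
  haveI := finite_end0 A
  haveI : IsArtinianRing (EndAV.End0 A) := IsArtinianRing.of_finite ℚ (EndAV.End0 A)
  rw [IsArtinianRing.isSemisimpleRing_iff_jacobson, eq_bot_iff]
  intro x hx
  by_contra hx0
  rw [Ideal.mem_bot] at hx0
  obtain ⟨m, φ, hm, rfl⟩ := AVIsog3.exists_eq_smul x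
  have hφ : φ ≠ 0 := fun h => hx0 (by rw [h, TensorProduct.tmul_zero])
  obtain ⟨y, c, hc, hne, hidem⟩ := exists_almost_idempotent φ hφ
  have hmem : EndAV.toEnd0 (y * φ) ∈ Ring.jacobson (EndAV.End0 A) := by
    have h := (Ring.jacobson (EndAV.End0 A)).mul_mem_left ((m : ℚ) ⊗ₜ[ℤ] y) hx
    rwa [Algebra.TensorProduct.tmul_mul_tmul, mul_inv_cancel₀ (Nat.cast_ne_zero.2 hm.ne')] at h
  obtain ⟨N, hN⟩ := IsSemiprimaryRing.isNilpotent (R := EndAV.End0 A)
  have hpow : EndAV.toEnd0 (y * φ) ^ (N + 1) = 0 := by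
    have h2 := Ideal.pow_mem_pow hmem N
    rw [hN] at h2
    rw [pow_succ, (Ideal.mem_bot.1 h2), MulZeroClass.zero_mul]
  have hz : ∀ n : ℕ, (y * φ) ^ (n + 1) = (c ^ n) • (y * φ) := by
    intro n
    induction n with
    | zero => simp
    | succ n ih => rw [pow_succ, ih, smul_mul_assoc, hidem, smul_smul, ← pow_succ]
  apply hne
  rw [← map_pow, hz] at hpow
  have h3 := eq_zero_of_toEnd0 A hpow
  rw [← natCast_zsmul] at h3
  exact hom_eq_zero_of_zsmul A (Int.natCast_ne_zero.2 (pow_ne_zero _ hc.ne')) h3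

end Groth.Agent.AVDeg3
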