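import Groth.Agent.AVDeg3.MinPolyPow
import Groth.Agent.AVIsog3.Simple
import Groth.Agent.AVIdx.HomFinite
import Mathlib.FieldTheory.Minpoly.Field

/-!
Characteristic polynomials of endomorphisms of simple abelian varieties.
-/

noncomputable section

set_option linter.style.haveILetI false
set_option linter.unusedSectionVars false
set_option backward.isDefEq.respectTransparency false
set_option backward.isDefEq.respectTransparency.types false
set_option synthInstance.maxHeartbeats 400000
set_option maxHeartbeats 800000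

universe u

open CategoryTheory CategoryTheory.Limits MonoidalCategory CartesianMonoidalCategory MonObj GrpObj AlgebraicGeometry
open scoped TensorProduct

namespace Groth.Agent.AVDeg3

variable {k : Type u} [Field k] (A : Over (Spec (CommRingCat.of k)))
  [GrpObj A] [IsCommMonObj A] [IsProper A.hom] [GeometricallyIntegral A.hom]

instance instFiniteEnd0Rat : Module.Finite ℚ (EndAV.End0 A) := by
  haveI : Module.Finite ℤ (EndAV.End A) := (AVIdx.finite_free_hom A A).1
  exact inferInstanceAs (Module.Finite ℚ (ℚ ⊗[ℤ] EndAV.End A))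

/-- The rational endomorphism algebra of a positive dimensional abelian variety is not zero. -/
theorem nontrivial_end0 {g : ℕ} (hg : topologicalKrullDim A.left = g) (h0 : 0 < g) : Nontrivial (EndAV.End0 A) := by
  refine not_subsingleton_iff_nontrivial.1 fun hs => ?_
  obtain ⟨m, hm, hmx⟩ := exists_smul_eq_zero_of_tmul_eq_zero
    ((EndAV.toEnd0_apply (1 : EndAV.End A)).symm.trans (Subsingleton.elim _ _))
  haveI : Module.Free ℤ (EndAV.End A) := (AVIdx.finite_free_hom A A).2
  have h1 : (1 : EndAV.End A) = 0 := (smul_eq_zero.1 hmx).resolve_left hm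
  have h2 : 𝟙 A = 1 := congrArg EndAV.End.toHom h1
  haveI hsub : Subsingleton A.left := by
    refine ⟨fun x y => ?_⟩
    have h3 : (𝟙 A : A ⟶ A).left = (toUnit A ≫ η[A]).left := by rw [h2, MonObj.one_eq_one, MonObj.comp_one]
    have hx : ∀ z : A.left, z = η[A].left (IsLocalRing.closedPoint k) := fun z => by
      have h4 := congrArg (fun t : A.left ⟶ A.left => t z) h3
      refine Eq.trans (by exact h4) ?_
      rw [Over.comp_left, Scheme.Hom.comp_apply]
      exact congrArg η[A].left (@Subsingleton.elim (Spec (CommRingCat.of k)) inferInstance _ _)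
    rw [hx x, hx y]
  haveI := AVIsog3.isIntegral_left A
  haveI : Subsingleton (TopologicalSpace.IrreducibleCloseds A.left) := ⟨fun s t => by
    ext x
    obtain ⟨a, ha⟩ := s.2.nonempty
    obtain ⟨b, hb⟩ := t.2.nonempty
    rw [Subsingleton.elim x a] ; simp only [SetLike.mem_coe] at *
    exact iff_of_true ha (by rw [Subsingleton.elim a b]; exact hb)⟩
  have h : topologicalKrullDim A.left ≤ 0 := Order.krullDim_nonpos_of_subsingleton
  rw [hg] at h
  exact absurd (WithBot.coe_le_coe.1 h) (by exact_mod_cast h0.ne' ∘ Nat.le_zero.1)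

variable {A} (Ω : Type u) [Field Ω] [Algebra k Ω] [IsAlgClosed Ω] {l : ℕ} [Fact l.Prime]

/-- For a simple abelian variety the characteristic polynomial is a power of an irreducible rational polynomial. -/
theorem exists_irreducible_pow (hl : (l : k) ≠ 0)
    (hsimple : ∀ (N : Over (Spec (CommRingCat.of k))) [GrpObj N] [GeometricallyIntegral N.hom] (i : N ⟶ A) [IsMonHom i]
      [IsClosedImmersion i.left], Subsingleton N.left ∨ IsIso i)
    [Module.Free ℤ_[l] (AbDual.TateMod A l (Over.mk (AVIdx.fieldMap (k := k) Ω)))]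
    [Module.Finite ℤ_[l] (AbDual.TateMod A l (Over.mk (AVIdx.fieldMap (k := k) Ω)))] (φ : EndAV.End A) :
    ∃ (h : Polynomial ℚ) (n : ℕ), Irreducible h ∧
      ((EndAV.End.tateRep l (Over.mk (AVIdx.fieldMap (k := k) Ω)) φ).charpoly).map (algebraMap ℤ_[l] ℚ_[l]) =
        (h.map (algebraMap ℚ ℚ_[l])) ^ n := by
  classical
  obtain ⟨g, hg⟩ := AVIdx.exists_dim A
  obtain ⟨P, hPm, hPd, -, hPc⟩ := exists_charpoly Ω hg φ
  have hc : (EndAV.End.tateRep l (Over.mk (AVIdx.fieldMap (k := k) Ω)) φ).charpoly = P.map (Int.castRingHom ℤ_[l]) :=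
    hPc l hl
  have key : ∀ (h : Polynomial ℚ) (n : ℕ), P.map (Int.castRingHom ℚ) = h ^ n →
      ((EndAV.End.tateRep l (Over.mk (AVIdx.fieldMap (k := k) Ω)) φ).charpoly).map (algebraMap ℤ_[l] ℚ_[l]) =
        (h.map (algebraMap ℚ ℚ_[l])) ^ n := fun h n hn => by
    rw [hc, Polynomial.map_map, ← Polynomial.map_pow, ← hn, Polynomial.map_map]
    exact congrArg (fun r => P.map r) (RingHom.ext_int _ _)
  rcases Nat.eq_zero_or_pos g with h0 | h0
  · refine ⟨Polynomial.X, 0, Polynomial.irreducible_X, key _ _ ?_⟩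
    rw [pow_zero, hPm.natDegree_eq_zero.1 (by rw [hPd, h0]), Polynomial.map_one]
  haveI := nontrivial_end0 A hg h0
  haveI : NoZeroDivisors (EndAV.End0 A) := ⟨fun {a b} hab => or_iff_not_imp_left.2 fun ha =>
    (AVIsog3.isUnit_of_simple hsimple a ha).mul_right_eq_zero.1 hab⟩
  haveI : IsDomain (EndAV.End0 A) := NoZeroDivisors.to_isDomain _
  have hirr : Irreducible (minpoly ℚ (EndAV.toEnd0 φ)) :=
    minpoly.irreducible (Algebra.IsIntegral.isIntegral (R := ℚ) (EndAV.toEnd0 φ))
  let b := Module.Free.chooseBasis ℤ_[l] (AbDual.TateMod A l (Over.mk (AVIdx.fieldMap (k := k) Ω)))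
  let ρ : EndAV.End A →+* Matrix _ _ ℚ_[l] :=
    ((PadicInt.Coe.ringHom (p := l)).mapMatrix).comp
      (((LinearMap.toMatrixAlgEquiv b).toRingEquiv.toRingHom).comp
        (EndAV.End.tateRep l (Over.mk (AVIdx.fieldMap (k := k) Ω))))
  have hρ : (ρ φ).charpoly = P.map (Int.castRingHom ℚ_[l]) := by
    show ((LinearMap.toMatrix b b (EndAV.End.tateRep l (Over.mk (AVIdx.fieldMap (k := k) Ω)) φ)).map
      (PadicInt.Coe.ringHom (p := l))).charpoly = _
    rw [Matrix.charpoly_map, LinearMap.charpoly_toMatrix, hc, Polynomial.map_map]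
    exact congrArg (fun r => P.map r) (RingHom.ext_int _ _)
  exact ⟨_, _, hirr, key _ _ (charpoly_eq_minpoly_pow ρ φ hPm hρ hirr)⟩

end Groth.Agent.AVDeg3
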