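import Groth.Agent.AVIdx.GeomLift
import Groth.Agent.AVFac.Tate
import Groth.Agent.GrpSchLib.MonoSubgroup
import Groth.Agent.GrpSchLib.KernelGrp
import Groth.Agent.AVDegLib.MulN
import Groth.Prelude.Def_SGA7a
import Mathlib.FieldTheory.Normal.Basic
import Mathlib.Topology.JacobsonSpace
import Mathlib.FieldTheory.IsAlgClosed.Basic

/-!
Galois stable finite groups of geometric points come from finite subgroup schemes.
-/

noncomputable section

set_option linter.style.haveILetI false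
set_option linter.unusedSectionVars false
set_option backward.isDefEq.respectTransparency false
set_option backward.isDefEq.respectTransparency.types false
set_option maxHeartbeats 800000

universe u

open CategoryTheory CategoryTheory.Limits MonoidalCategory CartesianMonoidalCategory MonObj GrpObj AlgebraicGeometry

namespace Groth.Agent.AVDeg3

variable {k : Type u} [Field k] (Ω : Type u) [Field Ω] [Algebra k Ω] [IsAlgClosure k Ω]

/-- The underlying point of a geometric point. -/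
def imgPt {M : Over (Spec (CommRingCat.of k))} (y : SGA7.pt (K := k) Ω ⟶ M) : M.left :=
  y.left (IsLocalRing.closedPoint Ω)

theorem discrete_of_isFinite (M : Over (Spec (CommRingCat.of k))) [IsFinite M.hom] :
    Finite ↥M.left ∧ DiscreteTopology ↥M.left := by
  haveI : Finite ↥M.left := by
    have h := IsFinite.finite_preimage_singleton M.hom (IsLocalRing.closedPoint k)
    exact Set.finite_univ_iff.1 (h.subset fun w _ =>
      @Subsingleton.elim (Spec (CommRingCat.of k)) inferInstance (M.hom w) (IsLocalRing.closedPoint k))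
  haveI : JacobsonSpace ↥M.left := LocallyOfFiniteType.jacobsonSpace M.hom
  exact ⟨inferInstance, inferInstance⟩

/-- Every point of a finite scheme is the image of a geometric point. -/
theorem exists_pt_over (M : Over (Spec (CommRingCat.of k))) [IsFinite M.hom] (x : M.left) :
    ∃ y : SGA7.pt (K := k) Ω ⟶ M, imgPt Ω y = x := by
  haveI := IsAlgClosure.isAlgClosed k (K := Ω)
  obtain ⟨_, _⟩ := discrete_of_isFinite M
  let U : M.left.Opens := ⟨{x}, isOpen_discrete _⟩
  haveI : IsClosedImmersion U.ι :=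
    IsClosedImmersion.of_isPreimmersion _ (by rw [Scheme.Opens.range_ι]; exact isClosed_discrete _)
  let P : Over (Spec (CommRingCat.of k)) := Over.mk (U.ι ≫ M.hom)
  haveI : IsFinite P.hom := inferInstanceAs (IsFinite (U.ι ≫ M.hom))
  let t : P ⟶ 𝟙_ _ := toUnit P
  haveI : IsFinite t.left := inferInstanceAs (IsFinite P.hom)
  haveI : Surjective t.left := ⟨fun z => ⟨(⟨x, rfl⟩ : U), @Subsingleton.elim (Spec (CommRingCat.of k)) inferInstance _ z⟩⟩
  obtain ⟨y, -⟩ := AVIdx.exists_geom_lift Ω t (toUnit _)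
  refine ⟨y ≫ Over.homMk U.ι rfl, ?_⟩
  show U.ι (y.left (IsLocalRing.closedPoint Ω)) = x
  exact Set.mem_singleton_iff.1 ((y.left (IsLocalRing.closedPoint Ω)) : U).2

/-- Geometric points with the same image differ by an automorphism. -/
theorem exists_specAut_of_imgPt_eq {M : Over (Spec (CommRingCat.of k))} (y₁ y₂ : SGA7.pt (K := k) Ω ⟶ M)
    (h : imgPt Ω y₁ = imgPt Ω y₂) : ∃ τ : Ω ≃ₐ[k] Ω, SGA7.specAut τ ≫ y₁ = y₂ := by
  haveI := IsAlgClosure.isAlgClosed k (K := Ω)
  haveI := IsAlgClosure.isAlgebraic (R := k) (K := Ω)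
  haveI : Normal k Ω := IsAlgClosure.normal k Ω
  let e := Scheme.SpecToEquivOfField Ω M.left
  obtain ⟨⟨x, f⟩, hf⟩ : ∃ v, e y₁.left = v := ⟨_, rfl⟩
  obtain ⟨⟨x', f'⟩, hf'⟩ : ∃ v, e y₂.left = v := ⟨_, rfl⟩
  have hx : imgPt Ω y₁ = x := congrArg Sigma.fst hf
  have hx' : imgPt Ω y₂ = x' := congrArg Sigma.fst hf'
  obtain rfl : x = x' := hx.symm.trans (h.trans hx')
  have hy : ∀ (y : SGA7.pt (K := k) Ω ⟶ M) (g : M.left.residueField x ⟶ CommRingCat.of Ω), e y.left = ⟨x, g⟩ →
      y.left = Spec.map g ≫ M.left.fromSpecResidueField x := fun y g hg => by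
    rw [show y.left = e.symm ⟨x, g⟩ by rw [← hg, Equiv.symm_apply_apply]]
    rfl
  obtain ⟨ψ, hψ⟩ := Spec.map_surjective (M.left.fromSpecResidueField x ≫ M.hom)
  have hcomp : ∀ (y : SGA7.pt (K := k) Ω ⟶ M) (g : M.left.residueField x ⟶ CommRingCat.of Ω), e y.left = ⟨x, g⟩ →
      ψ ≫ g = CommRingCat.ofHom (algebraMap k Ω) := fun y g hg => by
    apply Spec.map_injective
    rw [Spec.map_comp, hψ, ← Category.assoc, ← hy y g hg]
    exact Over.w y
  let κ := M.left.residueField x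
  letI : Algebra k κ := ψ.hom.toAlgebra
  letI : Algebra κ Ω := f.hom.toAlgebra
  haveI : IsScalarTower k κ Ω := IsScalarTower.of_algebraMap_eq fun c => (congr($(hcomp y₁ f hf).hom c)).symm
  let φ : κ →ₐ[k] Ω := ⟨f'.hom, fun c => congr($(hcomp y₂ f' hf').hom c)⟩
  let σ : Ω →ₐ[k] Ω := φ.liftNormal Ω
  have hσ : ∀ c : κ, σ (f.hom c) = f'.hom c := fun c => φ.liftNormal_commutes Ω c
  let τ : Ω ≃ₐ[k] Ω := AlgEquiv.ofBijective σ (Algebra.IsAlgebraic.algHom_bijective σ)
  refine ⟨τ, Over.OverMorphism.ext ?_⟩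
  rw [Over.comp_left, hy y₁ f hf, hy y₂ f' hf', ← Category.assoc]
  congr 1
  show Spec.map _ ≫ Spec.map f = _
  rw [← Spec.map_comp]
  exact congrArg Spec.map (CommRingCat.hom_ext (RingHom.ext hσ))

/-- A Galois stable finite group of geometric torsion points, of order prime to the characteristic, is the group
of geometric points of a finite subgroup scheme. -/
theorem exists_subgroup_of_pts (A : Over (Spec (CommRingCat.of k))) [GrpObj A] [IsCommMonObj A] [IsProper A.hom]
    [GeometricallyIntegral A.hom] (m : ℕ) (hm : (m : k) ≠ 0) (K : Subgroup (SGA7.pt (K := k) Ω ⟶ A))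
    (hK : ∀ a ∈ K, a ^ m = 1) (hst : ∀ (τ : Ω ≃ₐ[k] Ω), ∀ a ∈ K, SGA7.specAut τ ≫ a ∈ K) :
    ∃ (D : Over (Spec (CommRingCat.of k))) (_ : GrpObj D) (i : D ⟶ A), IsMonHom i ∧ IsClosedImmersion i.left ∧
      IsFinite D.hom ∧ i ≫ (𝟙 A ^ m : A ⟶ A) = 1 ∧ ∀ a : SGA7.pt (K := k) Ω ⟶ A, a ∈ K ↔ ∃ d, d ≫ i = a := by
  haveI := IsAlgClosure.isAlgClosed k (K := Ω)
  have hm1 : 1 ≤ m := Nat.pos_of_ne_zero fun h => hm (by rw [h, Nat.cast_zero])
  haveI := AVDegLib.isMonHom_pow (A := A) m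
  haveI := AVMulN.isFinite_pow (A := A) m hm1
  obtain ⟨N, _, j, _, hj, -, hk⟩ := GrpSchLib.exists_kernel (𝟙 A ^ m : A ⟶ A)
  haveI := hj
  haveI : Mono j := (Over.forget _).mono_of_mono_map (inferInstanceAs (Mono j.left))
  have hp : IsPullback j.left N.hom (𝟙 A ^ m : A ⟶ A).left η[A].left := by
    have h' : IsPullback j.left (toUnit N).left (𝟙 A ^ m : A ⟶ A).left (η[A]).left := hk.map (Over.forget _)
    exact (show (toUnit N).left = N.hom from rfl) ▸ h'
  haveI : IsFinite N.hom := MorphismProperty.of_isPullback hp inferInstance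
  haveI : IsFinite (N ⊗ N).hom := by
    haveI : IsFinite (pullback.fst N.hom N.hom) := MorphismProperty.pullback_fst _ _ inferInstance
    exact inferInstanceAs (IsFinite (pullback.fst N.hom N.hom ≫ N.hom))
  obtain ⟨_, _⟩ := discrete_of_isFinite N
  have hlift : ∀ a : SGA7.pt (K := k) Ω ⟶ A, a ^ m = 1 → ∃ y, y ≫ j = a := fun a ha =>
    ⟨hk.lift a (toUnit _) (by rw [MonObj.comp_pow, Category.comp_id, ha, MonObj.one_eq_one, MonObj.comp_one]),
      hk.lift_fst _ _ _⟩
  let U : N.left.Opens := ⟨{z | ∃ y : SGA7.pt (K := k) Ω ⟶ N, y ≫ j ∈ K ∧ imgPt Ω y = z}, isOpen_discrete _⟩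
  have hU : ∀ y : SGA7.pt (K := k) Ω ⟶ N, imgPt Ω y ∈ U → y ≫ j ∈ K := by
    rintro y ⟨y', hy', himg⟩
    obtain ⟨τ, rfl⟩ := exists_specAut_of_imgPt_eq Ω y' y himg
    rw [Category.assoc]
    exact hst τ _ hy'
  let D : Over (Spec (CommRingCat.of k)) := Over.mk (U.ι ≫ N.hom)
  let u : D ⟶ N := Over.homMk U.ι rfl
  haveI : IsClosedImmersion U.ι :=
    IsClosedImmersion.of_isPreimmersion _ (by rw [Scheme.Opens.range_ι]; exact isClosed_discrete _)
  haveI : IsClosedImmersion u.left := inferInstanceAs (IsClosedImmersion U.ι)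
  haveI : IsFinite D.hom := inferInstanceAs (IsFinite (U.ι ≫ N.hom))
  haveI : Mono u := (Over.forget _).mono_of_mono_map (inferInstanceAs (Mono u.left))
  have hfac : ∀ {T : Over (Spec (CommRingCat.of k))} [IsFinite T.hom] (g : T ⟶ N),
      (∀ t : SGA7.pt (K := k) Ω ⟶ T, t ≫ g ≫ j ∈ K) → ∃ g₀ : T ⟶ D, g₀ ≫ u = g := by
    intro T _ g hg
    have hr : Set.range g.left ⊆ Set.range U.ι := by
      rw [Scheme.Opens.range_ι]
      rintro _ ⟨z, rfl⟩
      obtain ⟨t, rfl⟩ := exists_pt_over Ω T z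
      exact ⟨t ≫ g, by rw [Category.assoc]; exact hg t, rfl⟩
    let l := IsOpenImmersion.lift U.ι g.left hr
    have hl : l ≫ U.ι = g.left := IsOpenImmersion.lift_fac _ _ _
    refine ⟨Over.homMk l ?_, Over.OverMorphism.ext hl⟩
    show l ≫ U.ι ≫ N.hom = T.hom
    rw [reassoc_of% hl, Over.w]
  have hmem : ∀ t : SGA7.pt (K := k) Ω ⟶ D, t ≫ u ≫ j ∈ K := fun t => by
    rw [← Category.assoc]
    refine hU _ ?_
    exact (t.left (IsLocalRing.closedPoint Ω) : U).2
  haveI : IsFinite (D ⊗ D).hom := by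
    haveI : IsFinite (pullback.fst D.hom D.hom) := MorphismProperty.pullback_fst _ _ inferInstance
    exact inferInstanceAs (IsFinite (pullback.fst D.hom D.hom ≫ D.hom))
  haveI : IsFinite (𝟙_ (Over (Spec (CommRingCat.of k)))).hom := inferInstanceAs (IsFinite (𝟙 _))
  obtain ⟨e₀, he₀⟩ := hfac η[N] fun t => by
    rw [IsMonHom.one_hom j, MonObj.one_eq_one, MonObj.comp_one]
    exact K.one_mem
  obtain ⟨μ₀, hμ₀⟩ := hfac ((fst D D ≫ u) * (snd D D ≫ u)) fun t => by
    rw [MonObj.mul_comp, MonObj.comp_mul]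
    simp only [Category.assoc]
    rw [← Category.assoc t, ← Category.assoc t]
    exact K.mul_mem (hmem _) (hmem _)
  obtain ⟨ι₀, hι₀⟩ := hfac u⁻¹ fun t => by
    rw [GrpObj.inv_comp, GrpObj.comp_inv]
    exact K.inv_mem (hmem t)
  obtain ⟨str, hu⟩ := GrpSchLib.exists_grpObj_of_mono u e₀ he₀ μ₀ hμ₀ ι₀ hι₀
  letI := str
  haveI := hu
  refine ⟨D, str, u ≫ j, inferInstance, inferInstanceAs (IsClosedImmersion (u.left ≫ j.left)), inferInstance,
    by rw [Category.assoc, hk.w, MonObj.one_eq_one, MonObj.comp_one, MonObj.comp_one],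
    fun a => ⟨fun ha => ?_, ?_⟩⟩
  · obtain ⟨y, rfl⟩ := hlift a (hK a ha)
    have hr : Set.range y.left ⊆ Set.range U.ι := by
      rw [Scheme.Opens.range_ι]
      rintro _ ⟨z, rfl⟩
      refine ⟨y, ha, ?_⟩
      exact congrArg y.left (@Subsingleton.elim (Spec (CommRingCat.of Ω)) inferInstance _ z)
    let l := IsOpenImmersion.lift U.ι y.left hr
    have hl : l ≫ U.ι = y.left := IsOpenImmersion.lift_fac _ _ _
    refine ⟨Over.homMk l (by show l ≫ U.ι ≫ N.hom = _; rw [reassoc_of% hl, Over.w]), ?_⟩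
    rw [← Category.assoc]
    exact congrArg (· ≫ j) (Over.OverMorphism.ext hl)
  · rintro ⟨d, rfl⟩
    exact hmem d

end Groth.Agent.AVDeg3
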