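import Mathlib.RingTheory.Artinian.Module
import Mathlib.RingTheory.HopkinsLevitzki
import Mathlib.RingTheory.SimpleModule.Basic
import Mathlib.RingTheory.SimpleModule.WedderburnArtin
import Mathlib.LinearAlgebra.Trace
import Mathlib.Analysis.Normed.Module.FiniteDimension
import Mathlib.NumberTheory.Padics.ProperSpace

/-!
Linear algebra for Tate's argument: algebras with nondegenerate trace form, double centralisers, compactness.
-/

noncomputable section

set_option linter.style.haveILetI false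
set_option linter.unusedSectionVars false

namespace Groth.Agent.AVDeg3.TateLinAlg

variable {K : Type*} [Field K] {V : Type*} [AddCommGroup V] [Module K V] [FiniteDimensional K V]
  (E : Subalgebra K (Module.End K V))

/-- A nondegenerate trace form forces semisimplicity. -/
theorem isSemisimpleRing (hnd : ∀ x ∈ E, (∀ y ∈ E, LinearMap.trace K V (x * y) = 0) → x = 0) :
    IsSemisimpleRing E := by
  haveI : IsArtinianRing E := IsArtinianRing.of_finite K E
  rw [IsArtinianRing.isSemisimpleRing_iff_jacobson, eq_bot_iff]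
  intro x hx
  rw [Ideal.mem_bot]
  obtain ⟨N, hN⟩ := IsSemiprimaryRing.isNilpotent (R := E)
  refine Subtype.ext (hnd x x.2 fun y hy => ?_)
  have h1 : (⟨y, hy⟩ : E) * x ∈ Ring.jacobson E := (Ring.jacobson E).mul_mem_left _ hx
  have h2 : ((⟨y, hy⟩ : E) * x) ^ (N + 1) = 0 := by
    have h3 := Ideal.pow_mem_pow h1 N
    rw [hN] at h3
    rw [pow_succ, Ideal.mem_bot.1 h3, zero_mul]
  have h4 : IsNilpotent (y * (x : Module.End K V)) := ⟨N + 1, congrArg Subtype.val h2⟩
  rw [LinearMap.trace_mul_comm]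
  exact (LinearMap.isNilpotent_trace_of_isNilpotent h4).eq_zero

/-- If some element of `E` has range `W`, so does an idempotent of `E`. -/
theorem exists_idempotent [IsSemisimpleRing E] (W : Submodule K V) (h : ∃ u ∈ E, LinearMap.range u = W) :
    ∃ e ∈ E, e * e = e ∧ LinearMap.range e = W := by
  obtain ⟨u, hu, huW⟩ := h
  let I : Ideal Eᵐᵒᵖ :=
    { carrier := {x | LinearMap.range ((x.unop : E) : Module.End K V) ≤ W}
      add_mem' := fun {a b} ha hb => by
        rintro _ ⟨v, rfl⟩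
        exact W.add_mem (ha ⟨v, rfl⟩) (hb ⟨v, rfl⟩)
      zero_mem' := by
        rintro _ ⟨v, rfl⟩
        exact W.zero_mem
      smul_mem' := fun c {x} hx => by
        rintro _ ⟨v, rfl⟩
        exact hx ⟨(c.unop : Module.End K V) v, rfl⟩ }
  obtain ⟨e, he, heI⟩ := IsSemisimpleRing.ideal_eq_span_idempotent I
  refine ⟨(e.unop : E), e.unop.2, congrArg (fun z : Eᵐᵒᵖ => ((z.unop : E) : Module.End K V)) he, le_antisymm ?_ ?_⟩
  · exact (show e ∈ I from heI ▸ Ideal.mem_span_singleton_self e)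
  · rw [← huW]
    have hmem : MulOpposite.op (⟨u, hu⟩ : E) ∈ I := huW.le
    rw [heI, Ideal.mem_span_singleton'] at hmem
    obtain ⟨z, hz⟩ := hmem
    have hu' : u = ((e.unop : E) : Module.End K V) * ((z.unop : E) : Module.End K V) :=
      (congrArg (fun t : Eᵐᵒᵖ => ((t.unop : E) : Module.End K V)) hz).symm
    rintro _ ⟨v, rfl⟩
    rw [hu']
    exact ⟨_, rfl⟩

/-- The double centraliser theorem. -/
theorem mem_of_commutes [IsSemisimpleRing E] (φ : Module.End K V)
    (hφ : ∀ c : Module.End K V, (∀ x ∈ E, c * x = x * c) → c * φ = φ * c) : φ ∈ E := by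
  classical
  let b := Module.finBasis K V
  let n := Module.finrank K V
  let v₀ : Fin n → V := fun i => b i
  let S : Submodule E (Fin n → V) := LinearMap.range (LinearMap.toSpanSingleton E (Fin n → V) v₀)
  obtain ⟨S', hS'⟩ := exists_isCompl S
  let π : (Fin n → V) →ₗ[E] (Fin n → V) := S.subtype.comp (S.projectionOnto S' hS')
  let c : Fin n → Fin n → Module.End K V := fun i j =>
    ((LinearMap.proj i).comp (π.comp (LinearMap.single E (fun _ : Fin n => V) j))).restrictScalars K
  have hc : ∀ i j, ∀ x ∈ E, c i j * x = x * c i j := fun i j x hx => by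
    refine LinearMap.ext fun v => ?_
    exact ((LinearMap.proj i).comp (π.comp (LinearMap.single E (fun _ : Fin n => V) j))).map_smul
      (⟨x, hx⟩ : E) v
  have hπ : ∀ (w : Fin n → V) (i : Fin n), π w i = ∑ j, c i j (w j) := fun w i => by
    conv_lhs => rw [← Finset.univ_sum_single w]
    rw [map_sum, Finset.sum_apply]
    rfl
  have hv₀ : π v₀ = v₀ :=
    congrArg Subtype.val (Submodule.projectionOnto_apply_left hS' (⟨v₀, ⟨1, one_smul _ _⟩⟩ : S))
  have h1 : π (fun i => φ (v₀ i)) = fun i => φ (v₀ i) := funext fun i => by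
    rw [hπ]
    have : ∀ j, c i j (φ (v₀ j)) = φ (c i j (v₀ j)) := fun j => LinearMap.congr_fun (hφ _ (hc i j)) (v₀ j)
    simp only [this, ← map_sum, ← hπ, hv₀]
  obtain ⟨x, hx⟩ : (fun i => φ (v₀ i)) ∈ S := h1 ▸ (S.projectionOnto S' hS' fun i => φ (v₀ i)).2
  have : φ = (x : Module.End K V) := b.ext fun i => (congrFun hx i).symm
  rw [this]
  exact x.2

variable (l : ℕ) [Fact l.Prime]

/-- The compactness step: a sequence in a lattice of endomorphisms whose images approximate `W`. -/
theorem exists_limit {r d : ℕ} (F : (Fin d → ℤ_[l]) →ₗ[ℤ_[l]] Module.End ℤ_[l] (Fin r → ℤ_[l]))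
    (W : Submodule ℤ_[l] (Fin r → ℤ_[l])) (u : ℕ → (Fin d → ℤ_[l])) (c : ℤ_[l]) (ν : ℕ → ℕ) (hν : ∀ i, i ≤ ν i)
    (h1 : ∀ i x, ∃ w ∈ W, ∃ t, F (u i) x = w + (l : ℤ_[l]) ^ ν i • t)
    (h2 : ∀ i, ∀ w ∈ W, ∃ x, F (u i) x = c • w) :
    ∃ a, (∀ x, F a x ∈ W) ∧ ∀ w ∈ W, ∃ x, F a x = c • w := by
  obtain ⟨a, σ, hσ, hlim⟩ := CompactSpace.tendsto_subseq u
  have hcont : Continuous fun p : (Fin d → ℤ_[l]) × (Fin r → ℤ_[l]) => F p.1 p.2 := by
    have e : (fun p : (Fin d → ℤ_[l]) × (Fin r → ℤ_[l]) => F p.1 p.2) =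
        fun p => ∑ i, ∑ j, (p.1 i * p.2 j) • F (Pi.single i 1) (Pi.single j 1) := funext fun p => by
      conv_lhs => rw [pi_eq_sum_univ' p.1, pi_eq_sum_univ' p.2]
      simp only [map_sum, LinearMap.sum_apply, map_smul, LinearMap.smul_apply, Finset.smul_sum, smul_smul]
      rw [Finset.sum_comm]
      refine Finset.sum_congr rfl fun i _ => Finset.sum_congr rfl fun j _ => ?_
      rw [mul_comm]
    rw [e]
    fun_prop
  have hW : IsClosed (W : Set (Fin r → ℤ_[l])) := by
    obtain ⟨m, f, hf⟩ := Module.Finite.exists_fin' ℤ_[l] W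
    let g : (Fin m → ℤ_[l]) →ₗ[ℤ_[l]] (Fin r → ℤ_[l]) := W.subtype.comp f
    have hg : Set.range g = (W : Set (Fin r → ℤ_[l])) := by
      rw [LinearMap.coe_comp, Set.range_comp, hf.range_eq, Set.image_univ]
      exact Subtype.range_coe
    rw [← hg]
    exact (isCompact_range g.continuous_on_pi).isClosed
  have hl0 : Filter.Tendsto (fun i => (l : ℤ_[l]) ^ ν (σ i)) Filter.atTop (nhds 0) := by
    refine (tendsto_pow_atTop_nhds_zero_of_norm_lt_one ?_).comp
      (Filter.tendsto_atTop_mono (fun i => (hσ.id_le i).trans (hν _)) Filter.tendsto_id)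
    rw [PadicInt.norm_p]
    exact inv_lt_one_of_one_lt₀ (by exact_mod_cast (Fact.out : l.Prime).one_lt)
  refine ⟨a, fun x => ?_, fun w hw => ?_⟩
  · choose w hw t ht using fun i => h1 i x
    obtain ⟨t', θ, hθ, htlim⟩ := CompactSpace.tendsto_subseq (fun i => t (σ i))
    have h3 : Filter.Tendsto (fun i => F (u (σ (θ i))) x - (l : ℤ_[l]) ^ ν (σ (θ i)) • t (σ (θ i))) Filter.atTop
        (nhds (F a x - (0 : ℤ_[l]) • t')) :=
      ((hcont.tendsto (a, x)).comp (((hlim.comp hθ.tendsto_atTop)).prodMk_nhds tendsto_const_nhds)).sub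
        ((hl0.comp hθ.tendsto_atTop).smul htlim)
    rw [zero_smul, sub_zero] at h3
    refine hW.mem_of_tendsto h3 (Filter.Eventually.of_forall fun i => ?_)
    rw [ht, add_sub_cancel_right]
    exact hw _
  · choose x hx using fun i => h2 i w hw
    obtain ⟨x', θ, hθ, hxlim⟩ := CompactSpace.tendsto_subseq (fun i => x (σ i))
    refine ⟨x', tendsto_nhds_unique
      ((hcont.tendsto (a, x')).comp ((hlim.comp hθ.tendsto_atTop).prodMk_nhds hxlim)) ?_⟩
    simp only [Function.comp_def, hx]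
    exact tendsto_const_nhds

end Groth.Agent.AVDeg3.TateLinAlg
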