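import Groth.Agent.AVDeg3.SubPts
import Groth.Agent.AVDeg3.TateLinAlg
import Groth.Agent.AVDeg3.CharPolyBc
import Groth.Agent.AVDeg3.Semisimple
import Groth.Agent.AVQuot.Basic
import Groth.Agent.AVTate3.Points
import Groth.Agent.AVIsog3.Desc
import Groth.Agent.AVFac.Points
import Groth.Prelude.Def_EndTate
import Mathlib.Combinatorics.Pigeonhole
import Mathlib.Data.Fintype.Pigeonhole

/-!
Tate's argument: with finitely many isogenous abelian varieties of `l`-power degree, every Galois stable subspace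
of the rational Tate module is the image of an element of the algebra spanned by the endomorphisms.
-/

noncomputable section

set_option linter.style.haveILetI false
set_option linter.unusedSectionVars false
set_option backward.isDefEq.respectTransparency false
set_option backward.isDefEq.respectTransparency.types false
set_option synthInstance.maxHeartbeats 400000
set_option maxHeartbeats 1600000

universe u

open CategoryTheory CategoryTheory.Limits MonoidalCategory CartesianMonoidalCategory MonObj GrpObj AlgebraicGeometry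
open scoped TensorProduct

namespace Groth.Agent.AVDeg3.TateArg

/-- An isomorphism of abelian varieties as schemes gives one as groups. -/
theorem exists_hom_iso {k : Type u} [Field k] {A B : Over (Spec (CommRingCat.of k))} [GrpObj A] [IsProper A.hom]
    [GeometricallyIntegral A.hom] [GrpObj B] [IsProper B.hom] [GeometricallyIntegral B.hom] (e : A ≅ B) :
    ∃ (f : A ⟶ B) (g : B ⟶ A), IsMonHom f ∧ IsMonHom g ∧ f ≫ g = 𝟙 A ∧ g ≫ f = 𝟙 B := by
  haveI : IsCommMonObj B := isCommMonObj_of_isProper_of_geometricallyIntegral B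
  let c := η[A] ≫ e.hom
  let t₁ : B ⟶ B := 𝟙 B * (toUnit B ≫ c⁻¹)
  let t₂ : B ⟶ B := 𝟙 B * (toUnit B ≫ c)
  have h12 : t₁ ≫ t₂ = 𝟙 B := by
    simp only [t₂, MonObj.comp_mul, Category.comp_id, comp_toUnit_assoc]
    simp only [t₁, GrpObj.comp_inv]
    rw [_root_.mul_assoc, inv_mul_cancel, _root_.mul_one]
  have h21 : t₂ ≫ t₁ = 𝟙 B := by
    simp only [t₁, MonObj.comp_mul, Category.comp_id, comp_toUnit_assoc, GrpObj.comp_inv]
    simp only [t₂]
    rw [_root_.mul_assoc, mul_inv_cancel, _root_.mul_one]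
  let f := e.hom ≫ t₁
  let g := t₂ ≫ e.inv
  have hfg : f ≫ g = 𝟙 A := by
    simp only [f, g, Category.assoc, reassoc_of% h12, Iso.hom_inv_id]
  have hgf : g ≫ f = 𝟙 B := by
    simp only [f, g, Category.assoc, Iso.inv_hom_id_assoc, h21]
  have hf : η[A] ≫ f = 1 := by
    show η[A] ≫ e.hom ≫ t₁ = 1
    simp only [t₁, ← Category.assoc, MonObj.comp_mul, Category.comp_id]
    rw [show η[A] ≫ e.hom = c from rfl, comp_toUnit, toUnit_unique (toUnit (𝟙_ _)) (𝟙 _), Category.id_comp,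
      mul_inv_cancel]
  haveI hfm : IsMonHom f := GrpSchLib.RigidHom.isMonHom_of_one f hf
  refine ⟨f, g, hfm, GrpSchLib.RigidHom.isMonHom_of_one g ?_, hfg, hgf⟩
  rw [← IsMonHom.one_hom f, Category.assoc, hfg, Category.comp_id, MonObj.one_eq_one]

theorem exists_smul_one_tmul (l : ℕ) [Fact l.Prime] {M : Type*} [AddCommGroup M] [Module ℤ_[l] M]
    (v : ℚ_[l] ⊗[ℤ_[l]] M) : ∃ (m : ℕ) (x : M), ((l : ℚ_[l]) ^ m) • v = (1 : ℚ_[l]) ⊗ₜ[ℤ_[l]] x := by
  have hl : (l : ℚ_[l]) = algebraMap ℤ_[l] ℚ_[l] (l : ℤ_[l]) := (map_natCast _ _).symm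
  induction v using TensorProduct.induction_on with
  | zero => exact ⟨0, 0, by rw [smul_zero, TensorProduct.tmul_zero]⟩
  | tmul q x =>
    obtain ⟨m, a, ha⟩ : ∃ (m : ℕ) (a : ℤ_[l]), (l : ℚ_[l]) ^ m * q = (a : ℚ_[l]) := by
      obtain ⟨m, hm⟩ := pow_unbounded_of_one_lt ‖q‖ (show (1 : ℝ) < l by exact_mod_cast (Fact.out : l.Prime).one_lt)
      have h1 : ‖(l : ℚ_[l]) ^ m * q‖ ≤ 1 := by
        rw [norm_mul, norm_pow, Padic.norm_p, inv_pow, inv_mul_le_one₀ (pow_pos (by exact_mod_cast (Fact.out : l.Prime).pos) m)]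
        exact hm.le
      exact ⟨m, ⟨_, h1⟩, rfl⟩
    refine ⟨m, a • x, ?_⟩
    rw [TensorProduct.smul_tmul', smul_eq_mul, ha, ← TensorProduct.smul_tmul, Algebra.smul_def, _root_.mul_one]
    rfl
  | add v w hv hw =>
    obtain ⟨m, x, hx⟩ := hv
    obtain ⟨m', x', hx'⟩ := hw
    refine ⟨m + m', ((l : ℤ_[l]) ^ m') • x + ((l : ℤ_[l]) ^ m) • x', ?_⟩
    have e : ∀ (j : ℕ) (z : M), (1 : ℚ_[l]) ⊗ₜ[ℤ_[l]] (((l : ℤ_[l]) ^ j) • z) =
        (l : ℚ_[l]) ^ j • ((1 : ℚ_[l]) ⊗ₜ[ℤ_[l]] z) := fun j z => by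
      rw [TensorProduct.tmul_smul, hl, ← map_pow, algebraMap_smul]
    rw [TensorProduct.tmul_add, e, e, ← hx, ← hx', smul_add, smul_smul, smul_smul, ← pow_add, ← pow_add,
      add_comm m' m]

variable {k : Type u} [Field k] (Ω : Type u) [Field Ω] [Algebra k Ω] [IsAlgClosure k Ω] (l : ℕ) [Fact l.Prime]

/-- Functoriality of the Tate module. -/
theorem tateMap_comp {A B C : Over (Spec (CommRingCat.of k))} [GrpObj A] [IsCommMonObj A] [GrpObj B] [IsCommMonObj B]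
    [GrpObj C] [IsCommMonObj C] (f : A ⟶ B) [IsMonHom f] (g : B ⟶ C) [IsMonHom g]
    (x : AbDual.TateMod A l (SGA7.pt Ω)) :
    AbDual.tateMapₗ (l := l) (T := SGA7.pt Ω) (f ≫ g) x =
      AbDual.tateMapₗ (l := l) (T := SGA7.pt Ω) g (AbDual.tateMapₗ (l := l) (T := SGA7.pt Ω) f x) :=
  AbDual.TateMod.ext fun n =>
    congrArg Additive.ofMul (Category.assoc ((x : ℕ → Additive (SGA7.pt Ω ⟶ A)) n).toMul f g).symm

theorem tateMap_congr {A B : Over (Spec (CommRingCat.of k))} [GrpObj A] [IsCommMonObj A] [GrpObj B] [IsCommMonObj B]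
    {f g : A ⟶ B} [IsMonHom f] [IsMonHom g] (h : f = g) :
    AbDual.tateMapₗ (l := l) (T := SGA7.pt Ω) f = AbDual.tateMapₗ (l := l) (T := SGA7.pt Ω) g := by
  subst h; rfl

theorem tateMap_eq_smul {A : Over (Spec (CommRingCat.of k))} [GrpObj A] [IsCommMonObj A] (f : A ⟶ A) [IsMonHom f]
    (m : ℕ) (h : f = (𝟙 A) ^ m) (x : AbDual.TateMod A l (SGA7.pt Ω)) :
    AbDual.tateMapₗ (l := l) (T := SGA7.pt Ω) f x = (m : ℤ_[l]) • x := by
  have e : EndAV.End.of f = ((m : ℕ) : EndAV.End A) :=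
    EndAV.End.ext (by rw [EndAV.End.toHom_of, EndAV.End.toHom_natCast, h])
  have h2 := congrArg (EndAV.End.tateRep l (SGA7.pt Ω)) e
  rw [map_natCast] at h2
  rw [Nat.cast_smul_eq_nsmul]
  exact LinearMap.congr_fun h2 x

variable (hl : (l : k) ≠ 0) (X : Over (Spec (CommRingCat.of k)))
    [GrpObj X] [IsCommMonObj X] [IsProper X.hom] [GeometricallyIntegral X.hom]
    (ρ : (Ω ≃ₐ[k] Ω) → Module.End ℤ_[l] (AbDual.TateMod X l (SGA7.pt Ω)))
    (hρ : ∀ (τ : Ω ≃ₐ[k] Ω) (z : AbDual.TateMod X l (SGA7.pt Ω)) (m : ℕ),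
      (AbDual.TateMod.component X l (SGA7.pt Ω) m (ρ τ z)).toMul =
        SGA7.galAct τ (AbDual.TateMod.component X l (SGA7.pt Ω) m z).toMul)
    (W₀ : Submodule ℤ_[l] (AbDual.TateMod X l (SGA7.pt Ω))) (hW₀ : ∀ τ, ∀ w ∈ W₀, ρ τ w ∈ W₀)

include hl hρ hW₀ in
/-- The isogeny cut out by the image of a stable lattice in the `l^n`-torsion. -/
theorem exists_isogeny (n : ℕ) [Module.Free ℤ_[l] (AbDual.TateMod X l (SGA7.pt Ω))] :
    ∃ (Y : Over (Spec (CommRingCat.of k))) (_ : GrpObj Y) (_ : IsCommMonObj Y) (_ : IsProper Y.hom)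
      (_ : GeometricallyIntegral Y.hom) (u : X ⟶ Y) (_ : IsMonHom u) (v : Y ⟶ X) (_ : IsMonHom v),
      u ≫ v = (𝟙 X) ^ (l ^ n) ∧ v ≫ u = (𝟙 Y) ^ (l ^ n) ∧
      (∀ y, ∃ w ∈ W₀, ∃ t, AbDual.tateMapₗ (l := l) (T := SGA7.pt Ω) v y = w + (l : ℤ_[l]) ^ n • t) ∧
      ∀ w ∈ W₀, ∃ y, AbDual.tateMapₗ (l := l) (T := SGA7.pt Ω) v y = w := by
  let comp : AbDual.TateMod X l (SGA7.pt Ω) → (SGA7.pt (K := k) Ω ⟶ X) := fun x =>
    (AbDual.TateMod.component X l (SGA7.pt Ω) n x).toMul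
  have hcmul : ∀ x y, comp (x + y) = comp x * comp y := fun x y => by simp only [comp, map_add, toMul_add]
  let K : Subgroup (SGA7.pt (K := k) Ω ⟶ X) :=
    { carrier := {a | ∃ w ∈ W₀, comp w = a}
      one_mem' := ⟨0, W₀.zero_mem, by simp [comp]⟩
      mul_mem' := by
        rintro _ _ ⟨v, hv, rfl⟩ ⟨w, hw, rfl⟩
        exact ⟨v + w, W₀.add_mem hv hw, hcmul v w⟩
      inv_mem' := by
        rintro _ ⟨v, hv, rfl⟩
        exact ⟨-v, W₀.neg_mem hv, by simp [comp]⟩ }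
  have hn0 : ((l ^ n : ℕ) : k) ≠ 0 := by push_cast; exact pow_ne_zero _ hl
  have hKtor : ∀ a ∈ K, a ^ (l ^ n) = 1 := by
    rintro _ ⟨w, -, rfl⟩
    have h := w.2.1 n
    exact congrArg Additive.toMul h
  have hKst : ∀ (τ : Ω ≃ₐ[k] Ω), ∀ a ∈ K, SGA7.specAut τ ≫ a ∈ K := by
    rintro τ _ ⟨w, hw, rfl⟩
    exact ⟨ρ τ w, hW₀ τ w hw, hρ τ w n⟩
  obtain ⟨D, _, i, _, _, _, hi, hD⟩ := exists_subgroup_of_pts Ω X (l ^ n) hn0 K hKtor hKst
  obtain ⟨Y, _, q, _, _, hqm, hqs, hqf, hqfin, hq⟩ := AVQuot.exists_quotient X D i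
  haveI : IsCommMonObj Y := isCommMonObj_of_isProper_of_geometricallyIntegral Y
  haveI := hqm
  haveI := hqs
  haveI := hqf
  haveI := hqfin
  haveI := AVDegLib.isMonHom_pow (A := X) (l ^ n)
  obtain ⟨v, hv⟩ := AVIsog3.exists_desc q (𝟙 X ^ (l ^ n) : X ⟶ X) fun a b hab => by
    obtain ⟨d, hd⟩ := (hq (a * b⁻¹)).1 (by rw [MonObj.mul_comp, GrpObj.inv_comp, hab, mul_inv_cancel])
    have h1 : (a * b⁻¹) ≫ (𝟙 X ^ (l ^ n) : X ⟶ X) = 1 := by rw [← hd, Category.assoc, hi, MonObj.comp_one]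
    rw [MonObj.mul_comp, GrpObj.inv_comp, mul_inv_eq_one] at h1
    exact h1
  haveI : IsMonHom (q ≫ v) := hv.symm ▸ inferInstance
  haveI : IsMonHom v := AVFac.isMonHom_of_fac q v
  have hvq : v ≫ q = (𝟙 Y) ^ (l ^ n) := by
    haveI := AVIsog3.isIntegral_left Y
    have e : q ≫ v ≫ q = q ≫ (𝟙 Y) ^ (l ^ n) := by
      rw [← Category.assoc, hv, MonObj.pow_comp, Category.id_comp, MonObj.comp_pow, Category.comp_id]
    exact Over.OverMorphism.ext (ext_of_isDominant_of_isSeparated Y.hom ((Over.w _).trans (Over.w _).symm) q.left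
      (by simpa using congrArg CommaMorphism.left e))
  have hTqv : ∀ x, AbDual.tateMapₗ (l := l) (T := SGA7.pt Ω) v (AbDual.tateMapₗ (l := l) (T := SGA7.pt Ω) q x) =
      (l : ℤ_[l]) ^ n • x := fun x => by
    rw [← tateMap_comp, tateMap_eq_smul Ω l (q ≫ v) (l ^ n) hv, Nat.cast_pow]
  refine ⟨Y, _, inferInstance, inferInstance, inferInstance, q, hqm, v, inferInstance, hv, hvq, fun y => ?_,
    fun w hw => ?_⟩
  · set x := AbDual.tateMapₗ (l := l) (T := SGA7.pt Ω) v y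
    have hx : comp x ≫ q = 1 := by
      show ((AbDual.TateMod.component Y l (SGA7.pt Ω) n y).toMul ≫ v) ≫ q = 1
      rw [Category.assoc, hvq, MonObj.comp_pow, Category.comp_id]
      exact congrArg Additive.toMul (y.2.1 n)
    obtain ⟨d, hd⟩ := (hq (comp x)).1 hx
    obtain ⟨w, hw, hwx⟩ : comp x ∈ K := (hD _).2 ⟨d, hd⟩
    obtain ⟨t, ht⟩ := AVTate3.exists_smul_eq_of_component (x - w) n (by
      show AbDual.TateMod.component X l (SGA7.pt Ω) n (x - w) = 0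
      rw [map_sub, sub_eq_zero]
      exact congrArg Additive.ofMul hwx.symm)
    exact ⟨w, hw, t, by rw [ht, add_sub_cancel]⟩
  · obtain ⟨d, hd⟩ := (hD (comp w)).1 ⟨w, hw, rfl⟩
    obtain ⟨y, hy⟩ := AVTate3.exists_smul_eq_of_component (AbDual.tateMapₗ (l := l) (T := SGA7.pt Ω) q w) n
      (congrArg Additive.ofMul ((hq (comp w)).2 ⟨d, hd⟩))
    refine ⟨y, smul_right_injective _ (pow_ne_zero n (Nat.cast_ne_zero.2 (Fact.out : l.Prime).ne_zero) : (l : ℤ_[l]) ^ n ≠ 0) ?_⟩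
    show (l : ℤ_[l]) ^ n • _ = (l : ℤ_[l]) ^ n • w
    rw [← map_smul, hy, hTqv]

include hl hρ in
/-- Galois stable subspaces are images of elements of the span of the endomorphisms. -/
theorem exists_range_eq
    (hFin : (∃ (J : Type u) (_ : Finite J) (F : J → Over (Spec (CommRingCat.of k))),
        ∀ (Y : Over (Spec (CommRingCat.of k))) [GrpObj Y] [IsCommMonObj Y] [IsProper Y.hom] [GeometricallyIntegral Y.hom]
          (u : X ⟶ Y) [IsMonHom u] (v : Y ⟶ X) [IsMonHom v] (m : ℕ),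
          u ≫ v = (𝟙 X) ^ (l ^ m) → v ≫ u = (𝟙 Y) ^ (l ^ m) → ∃ i, Nonempty (Y ≅ F i)))
    [Module.Free ℤ_[l] (AbDual.TateMod X l (SGA7.pt Ω))] [Module.Finite ℤ_[l] (AbDual.TateMod X l (SGA7.pt Ω))]
    (W : Submodule ℚ_[l] (ℚ_[l] ⊗[ℤ_[l]] AbDual.TateMod X l (SGA7.pt Ω)))
    (hW : ∀ τ : Ω ≃ₐ[k] Ω, W.map ((ρ τ).baseChange ℚ_[l]) ≤ W) :
    ∃ u ∈ Submodule.span ℚ_[l] {ψ : Module.End ℚ_[l] (ℚ_[l] ⊗[ℤ_[l]] AbDual.TateMod X l (SGA7.pt Ω)) |
          ∃ (f : X ⟶ X) (_ : IsMonHom f), ψ = (AbDual.tateMapₗ (l := l) (T := SGA7.pt Ω) f).baseChange ℚ_[l]},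
      LinearMap.range u = W := by
  classical
  let T := AbDual.TateMod X l (SGA7.pt Ω)
  let W₀ : Submodule ℤ_[l] T := (W.restrictScalars ℤ_[l]).comap (TensorProduct.mk ℤ_[l] ℚ_[l] T 1)
  have hW₀ : ∀ τ, ∀ w ∈ W₀, ρ τ w ∈ W₀ := fun τ w hw => by
    have h := hW τ ⟨_, hw, rfl⟩
    rw [TensorProduct.mk_apply, LinearMap.baseChange_tmul] at h
    exact h
  obtain ⟨J, hJ, Fam, hFam⟩ := hFin
  choose Y hYg hYc hYp hYi u hu v hv huv hvu hsub hsup using
    fun n => exists_isogeny Ω l hl X ρ hρ W₀ hW₀ n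
  have hidx : ∀ n, ∃ j, Nonempty (Y n ≅ Fam j) := fun n => hFam (Y n) (u n) (v n) n (huv n) (hvu n)
  choose j e using hidx
  obtain ⟨j₀, hj₀⟩ := Finite.exists_infinite_fiber j
  have hinf : (j ⁻¹' {j₀}).Infinite := Set.infinite_coe_iff.1 hj₀
  obtain ⟨n₀, hn₀⟩ := hinf.nonempty
  choose ν hνmem hνlt using fun i : ℕ => hinf.exists_gt i
  have hiso : ∀ i, Nonempty (Y n₀ ≅ Y (ν i)) := fun i => by
    obtain ⟨a⟩ := e n₀
    obtain ⟨b⟩ := e (ν i)
    exact ⟨a ≪≫ eqToIso (congrArg Fam (hn₀.trans (hνmem i).symm)) ≪≫ b.symm⟩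
  choose f g hf hg hfg hgf using fun i => exists_hom_iso (hiso i).some
  -- the endomorphisms
  let φ : ℕ → EndAV.End X := fun i =>
    haveI := hf i
    haveI := hu n₀
    haveI := hv (ν i)
    EndAV.End.of (u n₀ ≫ f i ≫ v (ν i))
  let Tφ : ℕ → Module.End ℤ_[l] T := fun i => EndAV.End.tateRep l (SGA7.pt Ω) (φ i)
  have hTφ : ∀ i x, Tφ i x =
      (haveI := hv (ν i); AbDual.tateMapₗ (l := l) (T := SGA7.pt Ω) (v (ν i))) (haveI := hf i;
        AbDual.tateMapₗ (l := l) (T := SGA7.pt Ω) (f i)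
          (haveI := hu n₀; AbDual.tateMapₗ (l := l) (T := SGA7.pt Ω) (u n₀) x)) := fun i x => by
    haveI := hf i
    haveI := hu n₀
    haveI := hv (ν i)
    rw [← tateMap_comp, ← tateMap_comp]
    exact LinearMap.congr_fun (tateMap_congr Ω l (show EndAV.End.toHom (φ i) = _ from
      (EndAV.End.toHom_of _).trans (Category.assoc _ _ _).symm)) x
  have h1 : ∀ i x, ∃ w ∈ W₀, ∃ t, Tφ i x = w + (l : ℤ_[l]) ^ ν i • t := fun i x => by
    rw [hTφ]
    exact hsub (ν i) _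
  have h2 : ∀ i, ∀ w ∈ W₀, ∃ x, Tφ i x = (l : ℤ_[l]) ^ n₀ • w := fun i w hw => by
    obtain ⟨y, hy⟩ := hsup (ν i) w hw
    haveI := hf i
    haveI := hg i
    haveI := hu n₀
    haveI := hv n₀
    haveI := hv (ν i)
    refine ⟨AbDual.tateMapₗ (l := l) (T := SGA7.pt Ω) (v n₀) (AbDual.tateMapₗ (l := l) (T := SGA7.pt Ω) (g i) y), ?_⟩
    have e1 : ∀ z, AbDual.tateMapₗ (l := l) (T := SGA7.pt Ω) (u n₀) (AbDual.tateMapₗ (l := l) (T := SGA7.pt Ω) (v n₀) z) =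
        (l : ℤ_[l]) ^ n₀ • z := fun z => by
      rw [← tateMap_comp, tateMap_eq_smul Ω l _ _ (hvu n₀), Nat.cast_pow]
    have e2 : AbDual.tateMapₗ (l := l) (T := SGA7.pt Ω) (f i) (AbDual.tateMapₗ (l := l) (T := SGA7.pt Ω) (g i) y) = y := by
      rw [← tateMap_comp, tateMap_eq_smul Ω l _ 1 ((hgf i).trans (pow_one _).symm), Nat.cast_one, one_smul]
    rw [hTφ, e1, map_smul, e2, map_smul, hy]
  -- compactness
  haveI : Module.Finite ℤ (EndAV.End X) := (AVIdx.finite_free_hom X X).1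
  haveI : Module.Free ℤ (EndAV.End X) := (AVIdx.finite_free_hom X X).2
  let bE := Module.finBasis ℤ (EndAV.End X)
  let bT := Module.finBasis ℤ_[l] T
  let G : Fin (Module.finrank ℤ (EndAV.End X)) → Module.End ℤ_[l] (Fin (Module.finrank ℤ_[l] T) → ℤ_[l]) :=
    fun a => bT.equivFun.conj (EndAV.End.tateRep l (SGA7.pt Ω) (bE a))
  let F := Fintype.linearCombination ℤ_[l] G
  let co : ℕ → Fin (Module.finrank ℤ (EndAV.End X)) → ℤ_[l] := fun i a => ((bE.repr (φ i) a : ℤ) : ℤ_[l])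
  have hFco : ∀ i, F (co i) = bT.equivFun.conj (Tφ i) := fun i => by
    have h := congrArg (EndAV.End.tateRep l (SGA7.pt Ω)) (bE.sum_repr (φ i))
    rw [map_sum] at h
    show Fintype.linearCombination ℤ_[l] G (co i) = _
    rw [Fintype.linearCombination_apply, show Tφ i = _ from h.symm, map_sum]
    refine Finset.sum_congr rfl fun a _ => ?_
    rw [map_zsmul, map_zsmul, ← Int.cast_smul_eq_zsmul ℤ_[l]]
  let W₁ : Submodule ℤ_[l] (Fin (Module.finrank ℤ_[l] T) → ℤ_[l]) := W₀.map bT.equivFun.toLinearMap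
  obtain ⟨a, ha1, ha2⟩ := TateLinAlg.exists_limit l F W₁ co ((l : ℤ_[l]) ^ n₀) ν (fun i => (hνlt i).le)
    (fun i x => by
      obtain ⟨w, hw, t, ht⟩ := h1 i (bT.equivFun.symm x)
      exact ⟨bT.equivFun w, ⟨w, hw, rfl⟩, bT.equivFun t, by
        rw [hFco, LinearEquiv.conj_apply_apply, ht, map_add, map_smul]⟩)
    (fun i x hx => by
      obtain ⟨w, hw, rfl⟩ := hx
      obtain ⟨z, hz⟩ := h2 i w hw
      exact ⟨bT.equivFun z, by
        rw [hFco, LinearEquiv.conj_apply_apply, LinearEquiv.symm_apply_apply, hz]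
        exact map_smul bT.equivFun _ w⟩)
  let ψ : Module.End ℤ_[l] T := ∑ c, a c • EndAV.End.tateRep l (SGA7.pt Ω) (bE c)
  have hFψ : F a = bT.equivFun.conj ψ := by
    show Fintype.linearCombination ℤ_[l] G a = _
    rw [Fintype.linearCombination_apply, map_sum]
    exact Finset.sum_congr rfl fun c _ => (map_smul bT.equivFun.conj (a c) _).symm
  have hψ1 : ∀ x, ψ x ∈ W₀ := fun x => by
    obtain ⟨w, hw, hwe⟩ := ha1 (bT.equivFun x)
    rw [hFψ, LinearEquiv.conj_apply_apply, LinearEquiv.symm_apply_apply] at hwe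
    exact (bT.equivFun.injective hwe) ▸ hw
  have hψ2 : ∀ w ∈ W₀, ∃ x, ψ x = (l : ℤ_[l]) ^ n₀ • w := fun w hw => by
    obtain ⟨x, hx⟩ := ha2 _ ⟨w, hw, rfl⟩
    refine ⟨bT.equivFun.symm x, bT.equivFun.injective ?_⟩
    rw [hFψ, LinearEquiv.conj_apply_apply] at hx
    rw [hx]
    exact (map_smul bT.equivFun _ w).symm
  refine ⟨ψ.baseChange ℚ_[l], ?_, le_antisymm ?_ ?_⟩
  · let bc := Module.End.baseChangeHom ℤ_[l] ℚ_[l] T
    show bc ψ ∈ _
    rw [map_sum]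
    refine Submodule.sum_mem _ fun c _ => ?_
    rw [map_smul, ← algebraMap_smul ℚ_[l] (a c)]
    exact Submodule.smul_mem _ _ (Submodule.subset_span ⟨EndAV.End.toHom (bE c), inferInstance, rfl⟩)
  · rintro _ ⟨z, rfl⟩
    induction z using TensorProduct.induction_on with
    | zero => rw [map_zero]; exact W.zero_mem
    | tmul c x =>
      rw [LinearMap.baseChange_tmul, ← _root_.mul_one c, ← smul_eq_mul, ← TensorProduct.smul_tmul']
      exact W.smul_mem c (hψ1 x)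
    | add z z' hz hz' => rw [map_add]; exact W.add_mem hz hz'
  · intro w hw
    obtain ⟨m, x, hx⟩ := exists_smul_one_tmul l w
    have hx0 : x ∈ W₀ := by
      show (1 : ℚ_[l]) ⊗ₜ[ℤ_[l]] x ∈ W
      rw [← hx]
      exact W.smul_mem _ hw
    obtain ⟨z, hz⟩ := hψ2 x hx0
    have hl' : (l : ℚ_[l]) ≠ 0 := Nat.cast_ne_zero.2 (Fact.out : l.Prime).ne_zero
    refine ⟨((l : ℚ_[l]) ^ (n₀ + m))⁻¹ • ((1 : ℚ_[l]) ⊗ₜ[ℤ_[l]] z), ?_⟩
    rw [map_smul, LinearMap.baseChange_tmul, hz, TensorProduct.tmul_smul,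
      ← algebraMap_smul ℚ_[l] ((l : ℤ_[l]) ^ n₀), map_pow, map_natCast, ← hx, smul_smul, smul_smul, pow_add,
      show ((l : ℚ_[l]) ^ n₀ * (l : ℚ_[l]) ^ m)⁻¹ * (l : ℚ_[l]) ^ n₀ * (l : ℚ_[l]) ^ m = 1 by field_simp,
      one_smul]

end Groth.Agent.AVDeg3.TateArg
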