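import Groth.Agent.AVDeg3.TateArg
import Groth.Agent.AVTate3.AbVar
import Groth.Agent.AVIdx.TateFaith
import Groth.Agent.H23.MaxAbelian
import Mathlib.LinearAlgebra.Charpoly.ToMatrix

/-!
Tate's theorem from finiteness: semisimplicity of the Galois representation and the double centraliser.
-/

noncomputable section

set_option linter.style.haveILetI false
set_option linter.unusedSectionVars false
set_option backward.isDefEq.respectTransparency false
set_option backward.isDefEq.respectTransparency.types false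
set_option synthInstance.maxHeartbeats 400000
set_option maxHeartbeats 1600000

universe u

open CategoryTheory CategoryTheory.Limits MonoidalCategory CartesianMonoidalCategory MonObj GrpObj AlgebraicGeometry
open scoped TensorProduct

namespace Groth.Agent.AVDeg3.TateArg

variable {k : Type u} [Field k] (Ω : Type u) [Field Ω] [Algebra k Ω] [IsAlgClosure k Ω] (l : ℕ) [Fact l.Prime]

/-- If the graph of `φ` is the image of an endomorphism whose blocks commute with `c`, then `c` commutes with `φ`. -/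
theorem commute_of_graph {K V P : Type*} [Field K] [AddCommGroup V] [Module K V] [AddCommGroup P] [Module K P]
    (A₁ A₂ : V →ₗ[K] P) (B₁ B₂ : P →ₗ[K] V) (k11 : ∀ v, B₁ (A₁ v) = v) (k12 : ∀ v, B₁ (A₂ v) = 0)
    (k21 : ∀ v, B₂ (A₁ v) = 0) (k22 : ∀ v, B₂ (A₂ v) = v) (hs : ∀ w, A₁ (B₁ w) + A₂ (B₂ w) = w)
    (φ : Module.End K V) (u : Module.End K P) (hu : LinearMap.range u = LinearMap.range (A₁ + A₂.comp φ))
    (c : Module.End K V) (hc : ∀ v, c (B₁ (u (A₁ v))) = B₁ (u (A₁ (c v))) ∧ c (B₂ (u (A₁ v))) = B₂ (u (A₁ (c v))) ∧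
      c (B₁ (u (A₂ v))) = B₁ (u (A₂ (c v))) ∧ c (B₂ (u (A₂ v))) = B₂ (u (A₂ (c v)))) : c * φ = φ * c := by
  let C₂ : Module.End K P := A₁.comp (c.comp B₁) + A₂.comp (c.comp B₂)
  have hC : ∀ w, C₂ (u w) = u (C₂ w) := by
    intro w
    obtain ⟨h1, h2, -, -⟩ := hc (B₁ w)
    obtain ⟨-, -, h3, h4⟩ := hc (B₂ w)
    conv_lhs => rw [← hs w]
    conv_rhs => rw [← hs (u (C₂ w))]
    simp only [C₂, LinearMap.add_apply, LinearMap.comp_apply, map_add, h1, h2, h3, h4]
    abel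
  refine LinearMap.ext fun v => ?_
  obtain ⟨w, hw⟩ : A₁ v + A₂ (φ v) ∈ LinearMap.range u := hu.symm ▸ ⟨v, rfl⟩
  obtain ⟨v', hv'⟩ : C₂ (A₁ v + A₂ (φ v)) ∈ LinearMap.range (A₁ + A₂.comp φ) := by
    rw [← hw, hC, ← hu]
    exact ⟨_, rfl⟩
  have h1 := congrArg B₁ hv'
  have h2 := congrArg B₂ hv'
  simp only [C₂, LinearMap.add_apply, LinearMap.comp_apply, map_add, k11, k12, k21, k22, add_zero, zero_add,
    map_zero] at h1 h2
  rw [Module.End.mul_apply, Module.End.mul_apply, ← h2, h1]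

/-- A block condition extends from a set to its span. -/
theorem blocks_span {K V P : Type*} [Field K] [AddCommGroup V] [Module K V] [AddCommGroup P] [Module K P]
    (A₁ A₂ : V →ₗ[K] P) (B₁ B₂ : P →ₗ[K] V) (c : Module.End K V) (S : Set (Module.End K P))
    (h : ∀ ψ ∈ S, ∀ v, c (B₁ (ψ (A₁ v))) = B₁ (ψ (A₁ (c v))) ∧ c (B₂ (ψ (A₁ v))) = B₂ (ψ (A₁ (c v))) ∧
      c (B₁ (ψ (A₂ v))) = B₁ (ψ (A₂ (c v))) ∧ c (B₂ (ψ (A₂ v))) = B₂ (ψ (A₂ (c v))))
    {u : Module.End K P} (hu : u ∈ Submodule.span K S) :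
    ∀ v, c (B₁ (u (A₁ v))) = B₁ (u (A₁ (c v))) ∧ c (B₂ (u (A₁ v))) = B₂ (u (A₁ (c v))) ∧
      c (B₁ (u (A₂ v))) = B₁ (u (A₂ (c v))) ∧ c (B₂ (u (A₂ v))) = B₂ (u (A₂ (c v))) := by
  induction hu using Submodule.span_induction with
  | mem ψ hψ => exact h ψ hψ
  | zero => intro v; simp
  | add a b _ _ ha hb =>
    intro v
    obtain ⟨a1, a2, a3, a4⟩ := ha v
    obtain ⟨b1, b2, b3, b4⟩ := hb v
    simp [a1, a2, a3, a4, b1, b2, b3, b4]
  | smul r a _ ha =>
    intro v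
    obtain ⟨a1, a2, a3, a4⟩ := ha v
    simp [a1, a2, a3, a4]

section Act

variable (A : Over (Spec (CommRingCat.of k))) [GrpObj A] [IsCommMonObj A]

/-- The Galois action on the Tate module. -/
def galTate (τ : Ω ≃ₐ[k] Ω) : Module.End ℤ_[l] (AbDual.TateMod A l (SGA7.pt Ω)) where
  toFun x := ⟨fun n => Additive.ofMul (SGA7.specAut τ ≫ ((x : ℕ → Additive (SGA7.pt Ω ⟶ A)) n).toMul),
    ⟨fun n => by
      have h := congrArg Additive.toMul (x.2.1 n)
      show Additive.ofMul ((SGA7.specAut τ ≫ _) ^ (l ^ n)) = Additive.ofMul 1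
      rw [← MonObj.comp_pow, show ((x : ℕ → Additive (SGA7.pt Ω ⟶ A)) n).toMul ^ (l ^ n) = 1 from h, MonObj.comp_one],
    fun n => by
      have h := congrArg Additive.toMul (x.2.2 n)
      show Additive.ofMul ((SGA7.specAut τ ≫ _) ^ l) = Additive.ofMul _
      rw [← MonObj.comp_pow]
      exact congrArg (fun z => Additive.ofMul (SGA7.specAut τ ≫ z)) h⟩⟩
  map_add' x y := AbDual.TateMod.ext fun n => congrArg Additive.ofMul (MonObj.comp_mul _ _ _)
  map_smul' a x := AbDual.TateMod.ext fun n => by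
    show Additive.ofMul (SGA7.specAut τ ≫ ((a.appr n) • (x : ℕ → Additive (SGA7.pt Ω ⟶ A)) n).toMul) =
      (a.appr n) • Additive.ofMul (SGA7.specAut τ ≫ ((x : ℕ → Additive (SGA7.pt Ω ⟶ A)) n).toMul)
    exact congrArg Additive.ofMul (MonObj.comp_pow _ _ _)

theorem galTate_component (τ : Ω ≃ₐ[k] Ω) (z : AbDual.TateMod A l (SGA7.pt Ω)) (m : ℕ) :
    (AbDual.TateMod.component A l (SGA7.pt Ω) m (galTate Ω l A τ z)).toMul =
      SGA7.galAct τ (AbDual.TateMod.component A l (SGA7.pt Ω) m z).toMul := rfl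

variable {A}

theorem galTate_tateMap {B : Over (Spec (CommRingCat.of k))} [GrpObj B] [IsCommMonObj B] (f : A ⟶ B) [IsMonHom f]
    (τ : Ω ≃ₐ[k] Ω) : AbDual.tateMapₗ (l := l) (T := SGA7.pt Ω) f ∘ₗ galTate Ω l A τ =
      galTate Ω l B τ ∘ₗ AbDual.tateMapₗ (l := l) (T := SGA7.pt Ω) f :=
  LinearMap.ext fun x => AbDual.TateMod.ext fun n =>
    congrArg Additive.ofMul (Category.assoc (SGA7.specAut τ) ((x : ℕ → Additive (SGA7.pt Ω ⟶ A)) n).toMul f)

theorem eq_galTate (ρ : (Ω ≃ₐ[k] Ω) → Module.End ℤ_[l] (AbDual.TateMod A l (SGA7.pt Ω)))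
    (hρ : ∀ (τ : Ω ≃ₐ[k] Ω) (z : AbDual.TateMod A l (SGA7.pt Ω)) (m : ℕ),
      (AbDual.TateMod.component A l (SGA7.pt Ω) m (ρ τ z)).toMul =
        SGA7.galAct τ (AbDual.TateMod.component A l (SGA7.pt Ω) m z).toMul) (τ : Ω ≃ₐ[k] Ω) :
    ρ τ = galTate Ω l A τ :=
  LinearMap.ext fun z => AbDual.TateMod.ext fun n => congrArg Additive.ofMul (hρ τ z n)

end Act

variable (hl : (l : k) ≠ 0) (X : Over (Spec (CommRingCat.of k)))
    [GrpObj X] [IsCommMonObj X] [IsProper X.hom] [GeometricallyIntegral X.hom]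
    [Module.Free ℤ_[l] (AbDual.TateMod X l (SGA7.pt Ω))] [Module.Finite ℤ_[l] (AbDual.TateMod X l (SGA7.pt Ω))]

/-- The rational Tate representation of the endomorphism ring. -/
def tauRep : EndAV.End X →+* Module.End ℚ_[l] (ℚ_[l] ⊗[ℤ_[l]] AbDual.TateMod X l (SGA7.pt Ω)) :=
  (Module.End.baseChangeHom ℤ_[l] ℚ_[l] (AbDual.TateMod X l (SGA7.pt Ω))).toRingHom.comp
    (EndAV.End.tateRep l (SGA7.pt Ω))

/-- The algebra spanned by the endomorphisms. -/
def spanAlg : Subalgebra ℚ_[l] (Module.End ℚ_[l] (ℚ_[l] ⊗[ℤ_[l]] AbDual.TateMod X l (SGA7.pt Ω))) :=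
  (Submodule.span ℚ_[l] (Set.range (tauRep Ω l X))).toSubalgebra
    (Submodule.subset_span ⟨1, map_one _⟩) fun x y hx hy => by
      induction hx using Submodule.span_induction with
      | mem x hx =>
        obtain ⟨a, rfl⟩ := hx
        induction hy using Submodule.span_induction with
        | mem y hy =>
          obtain ⟨b, rfl⟩ := hy
          exact Submodule.subset_span ⟨a * b, map_mul _ _ _⟩
        | zero => rw [MulZeroClass.mul_zero]; exact Submodule.zero_mem _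
        | add y z _ _ hy hz => rw [mul_add]; exact Submodule.add_mem _ hy hz
        | smul c y _ hy => rw [mul_smul_comm]; exact Submodule.smul_mem _ c hy
      | zero => rw [MulZeroClass.zero_mul]; exact Submodule.zero_mem _
      | add x z _ _ hx hz => rw [add_mul]; exact Submodule.add_mem _ hx hz
      | smul c x _ hx => rw [smul_mul_assoc]; exact Submodule.smul_mem _ c hx

theorem span_set_eq :
    Submodule.span ℚ_[l] {ψ : Module.End ℚ_[l] (ℚ_[l] ⊗[ℤ_[l]] AbDual.TateMod X l (SGA7.pt Ω)) |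
          ∃ (f : X ⟶ X) (_ : IsMonHom f), ψ = (AbDual.tateMapₗ (l := l) (T := SGA7.pt Ω) f).baseChange ℚ_[l]} =
      (spanAlg Ω l X).toSubmodule := by
  refine congrArg (Submodule.span ℚ_[l]) (Set.ext fun ψ => ⟨?_, ?_⟩)
  · rintro ⟨f, hf, rfl⟩
    exact ⟨EndAV.End.of f, rfl⟩
  · rintro ⟨f, rfl⟩
    exact ⟨EndAV.End.toHom f, inferInstance, rfl⟩

theorem trace_int (f : EndAV.End X) : ∃ z : ℤ,
    LinearMap.trace ℤ_[l] (AbDual.TateMod X l (SGA7.pt Ω)) (EndAV.End.tateRep l (SGA7.pt Ω) f) = (z : ℤ_[l]) ∨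
      (l : k) = 0 := by
  by_cases hl : (l : k) = 0
  · exact ⟨0, Or.inr hl⟩
  haveI := IsAlgClosure.isAlgClosed k (K := Ω)
  obtain ⟨g, hg⟩ := AVIdx.exists_dim X
  obtain ⟨P, -, -, -, hP⟩ := exists_charpoly Ω hg f
  refine ⟨-P.nextCoeff, Or.inl ?_⟩
  let b := Module.Free.chooseBasis ℤ_[l] (AbDual.TateMod X l (SGA7.pt Ω))
  classical
  rw [LinearMap.trace_eq_matrix_trace ℤ_[l] b]
  rcases isEmpty_or_nonempty (Module.Free.ChooseBasisIndex ℤ_[l] (AbDual.TateMod X l (SGA7.pt Ω))) with he | he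
  · have h0 : P = 1 := by
      have h1 := hP l hl
      rw [← LinearMap.charpoly_toMatrix _ b, Matrix.charpoly, Matrix.det_isEmpty] at h1
      exact (Polynomial.map_injective (Int.castRingHom ℤ_[l]) (Int.castRingHom ℤ_[l]).injective_int
        (by rw [Polynomial.map_one]; exact h1)).symm
    rw [h0]
    simp [Matrix.trace, Polynomial.nextCoeff]
  · rw [Matrix.trace_eq_neg_charpoly_nextCoeff, LinearMap.charpoly_toMatrix, hP l hl,
      Polynomial.nextCoeff_map (Int.castRingHom ℤ_[l]).injective_int, eq_intCast, Int.cast_neg]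

include hl in
/-- The trace form on the span is nondegenerate. -/
theorem trace_nondeg : ∀ x ∈ spanAlg Ω l X,
    (∀ y ∈ spanAlg Ω l X, LinearMap.trace ℚ_[l] _ (x * y) = 0) → x = 0 := by
  classical
  haveI := IsAlgClosure.isAlgClosed k (K := Ω)
  haveI : Module.Finite ℤ (EndAV.End X) := (AVIdx.finite_free_hom X X).1
  haveI : Module.Free ℤ (EndAV.End X) := (AVIdx.finite_free_hom X X).2
  let τ := tauRep Ω l X
  have hτtr : ∀ f : EndAV.End X, LinearMap.trace ℚ_[l] _ (τ f) =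
      algebraMap ℤ_[l] ℚ_[l] (LinearMap.trace ℤ_[l] _ (EndAV.End.tateRep l (SGA7.pt Ω) f)) := fun f =>
    LinearMap.trace_baseChange _ _
  choose N hN using fun f => (trace_int Ω l X f)
  have hN' : ∀ f, LinearMap.trace ℚ_[l] _ (τ f) = (N f : ℚ_[l]) := fun f => by
    rw [hτtr, (hN f).resolve_right hl, map_intCast]
  let b := Module.finBasis ℤ (EndAV.End X)
  let Gm : Matrix (Fin (Module.finrank ℤ (EndAV.End X))) (Fin (Module.finrank ℤ (EndAV.End X))) ℤ :=
    fun i j => N (b i * b j)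
  have hdet : Gm.det ≠ 0 := by
    intro hd
    obtain ⟨v, hv, hv0⟩ := Matrix.exists_vecMul_eq_zero_iff.2 hd
    let φ : EndAV.End X := ∑ i, v i • b i
    have hφ : φ ≠ 0 := fun h0 => hv (funext fun i => by
      have := (Fintype.linearIndependent_iff.1 b.linearIndependent v h0 i)
      exact this)
    have h0 : ∀ y, LinearMap.trace ℚ_[l] _ (τ (φ * y)) = 0 := by
      intro y
      rw [← b.sum_repr y, Finset.mul_sum, map_sum, map_sum]
      refine Finset.sum_eq_zero fun j _ => ?_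
      rw [mul_smul_comm, map_zsmul, map_zsmul]
      suffices h : LinearMap.trace ℚ_[l] _ (τ (φ * b j)) = 0 by rw [h, smul_zero]
      simp only [φ, Finset.sum_mul, smul_mul_assoc, map_sum, map_zsmul, hN']
      simp only [zsmul_eq_mul]
      rw [show (∑ i, ((v i : ℤ) : ℚ_[l]) * (N (b i * b j) : ℚ_[l])) = (((Matrix.vecMul v Gm) j : ℤ) : ℚ_[l]) by
        simp [Matrix.vecMul, dotProduct, Gm], hv0]
      simp
    obtain ⟨y, c, hc, hne, hidem⟩ := exists_almost_idempotent φ hφ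
    apply hne
    let e : Module.End ℚ_[l] (ℚ_[l] ⊗[ℤ_[l]] AbDual.TateMod X l (SGA7.pt Ω)) := ((c : ℚ_[l]))⁻¹ • τ (y * φ)
    have hc' : (c : ℚ_[l]) ≠ 0 := Nat.cast_ne_zero.2 hc.ne'
    have he : IsIdempotentElem e := by
      show e * e = e
      rw [smul_mul_smul_comm, ← map_mul, hidem, map_nsmul, ← Nat.cast_smul_eq_nsmul ℚ_[l], smul_smul,
        _root_.mul_assoc, inv_mul_cancel₀ hc', _root_.mul_one]
    have hte : LinearMap.trace ℚ_[l] _ e = 0 := by
      rw [map_smul, map_mul, LinearMap.trace_mul_comm, ← map_mul, h0, smul_zero]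
    have hp : LinearMap.IsProj (LinearMap.range e) e :=
      ⟨fun x => ⟨x, rfl⟩, fun x ⟨z, hz⟩ => by rw [← hz]; exact LinearMap.congr_fun he z⟩
    rw [hp.trace, Nat.cast_eq_zero, Submodule.finrank_eq_zero, LinearMap.range_eq_bot, smul_eq_zero] at hte
    have h2 : τ (y * φ) = 0 := hte.resolve_left (inv_ne_zero hc')
    refine AVIdx.tateRep_injective Ω l hl X ?_
    rw [map_zero]
    refine LinearMap.ext fun x => ?_
    have h3 : (1 : ℚ_[l]) ⊗ₜ[ℤ_[l]] (EndAV.End.tateRep l (SGA7.pt Ω) (y * φ) x) = 0 :=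
      (LinearMap.congr_fun h2 (1 ⊗ₜ[ℤ_[l]] x) : _)
    let bT := Module.finBasis ℤ_[l] (AbDual.TateMod X l (SGA7.pt Ω))
    refine bT.ext_elem fun i => ?_
    have h4 := congrArg (fun z => (bT.baseChange ℚ_[l]).repr z i) h3
    simp only [Module.Basis.baseChange_repr_tmul, map_zero, Finsupp.zero_apply] at h4
    rw [Algebra.smul_def, _root_.mul_one] at h4
    rw [LinearMap.zero_apply, map_zero, Finsupp.zero_apply]
    exact (map_eq_zero_iff _ (FaithfulSMul.algebraMap_injective ℤ_[l] ℚ_[l])).1 h4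
  intro x hx hxy
  have hrange : x ∈ Submodule.span ℚ_[l] (Set.range fun i => τ (b i)) := by
    refine Submodule.span_le.2 ?_ hx
    rintro _ ⟨f, rfl⟩
    rw [← b.sum_repr f, map_sum]
    refine Submodule.sum_mem _ fun i _ => ?_
    rw [map_zsmul, ← Int.cast_smul_eq_zsmul ℚ_[l]]
    exact Submodule.smul_mem _ _ (Submodule.subset_span ⟨i, rfl⟩)
  obtain ⟨c, rfl⟩ := (Submodule.mem_span_range_iff_exists_fun ℚ_[l]).1 hrange
  have hc : Matrix.vecMul c (Gm.map (Int.castRingHom ℚ_[l])) = 0 := funext fun j => by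
    have h := hxy (τ (b j)) (Submodule.subset_span ⟨b j, rfl⟩)
    simp only [Finset.sum_mul, smul_mul_assoc, map_sum, map_smul, ← map_mul, hN'] at h
    rw [Pi.zero_apply, ← h]
    simp [Matrix.vecMul, dotProduct, Gm]
  have hu : ((Gm.map (Int.castRingHom ℚ_[l]))).det ≠ 0 := by
    rw [show (Gm.map (Int.castRingHom ℚ_[l])).det = Int.castRingHom ℚ_[l] Gm.det from
      (RingHom.map_det (Int.castRingHom ℚ_[l]) Gm).symm, eq_intCast]
    exact_mod_cast hdet
  have hc0 : c = 0 := by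
    by_contra hcne
    exact hu (Matrix.exists_vecMul_eq_zero_iff.1 ⟨c, hcne, hc⟩)
  simp [hc0]

include hl in
/-- **Tate's theorem** under the finiteness hypothesis. -/
theorem semisimple_and_bicommutant
    (hFin : ∀ (Z : Over (Spec (CommRingCat.of k))) [GrpObj Z] [IsCommMonObj Z] [IsProper Z.hom] [GeometricallyIntegral Z.hom],
      ∃ (J : Type u) (_ : Finite J) (F : J → Over (Spec (CommRingCat.of k))),
        ∀ (Y : Over (Spec (CommRingCat.of k))) [GrpObj Y] [IsCommMonObj Y] [IsProper Y.hom] [GeometricallyIntegral Y.hom]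
          (u : Z ⟶ Y) [IsMonHom u] (v : Y ⟶ Z) [IsMonHom v] (m : ℕ),
          u ≫ v = (𝟙 Z) ^ (l ^ m) → v ≫ u = (𝟙 Y) ^ (l ^ m) → ∃ i, Nonempty (Y ≅ F i))
    (ρ : (Ω ≃ₐ[k] Ω) → Module.End ℤ_[l] (AbDual.TateMod X l (SGA7.pt Ω)))
    (hρ : ∀ (τ : Ω ≃ₐ[k] Ω) (z : AbDual.TateMod X l (SGA7.pt Ω)) (m : ℕ),
      (AbDual.TateMod.component X l (SGA7.pt Ω) m (ρ τ z)).toMul =
        SGA7.galAct τ (AbDual.TateMod.component X l (SGA7.pt Ω) m z).toMul) :
    (∀ W : Submodule ℚ_[l] (ℚ_[l] ⊗[ℤ_[l]] AbDual.TateMod X l (SGA7.pt Ω)),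
        (∀ τ : Ω ≃ₐ[k] Ω, W.map ((ρ τ).baseChange ℚ_[l]) ≤ W) →
        ∃ W' : Submodule ℚ_[l] (ℚ_[l] ⊗[ℤ_[l]] AbDual.TateMod X l (SGA7.pt Ω)),
          IsCompl W W' ∧ ∀ τ : Ω ≃ₐ[k] Ω, W'.map ((ρ τ).baseChange ℚ_[l]) ≤ W') ∧
      ∀ φ : Module.End ℚ_[l] (ℚ_[l] ⊗[ℤ_[l]] AbDual.TateMod X l (SGA7.pt Ω)),
        (∀ τ : Ω ≃ₐ[k] Ω, φ ∘ₗ (ρ τ).baseChange ℚ_[l] = (ρ τ).baseChange ℚ_[l] ∘ₗ φ) →
        φ ∈ spanAlg Ω l X := by
  haveI := IsAlgClosure.isAlgClosed k (K := Ω)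
  haveI := TateLinAlg.isSemisimpleRing (spanAlg Ω l X) (trace_nondeg Ω l hl X)
  have hcomm : ∀ e ∈ spanAlg Ω l X, ∀ τ, e * (ρ τ).baseChange ℚ_[l] = (ρ τ).baseChange ℚ_[l] * e := by
    intro e he τ
    induction he using Submodule.span_induction with
    | mem e he =>
      obtain ⟨f, rfl⟩ := he
      rw [eq_galTate Ω l ρ hρ τ]
      show (AbDual.tateMapₗ (l := l) (T := SGA7.pt Ω) (EndAV.End.toHom f)).baseChange ℚ_[l] * _ = _
      rw [Module.End.mul_eq_comp, ← LinearMap.baseChange_comp, galTate_tateMap, LinearMap.baseChange_comp,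
        ← Module.End.mul_eq_comp]
      rfl
    | zero => rw [MulZeroClass.zero_mul, MulZeroClass.mul_zero]
    | add a b _ _ ha hb => rw [add_mul, mul_add, ha, hb]
    | smul c a _ ha => rw [smul_mul_assoc, mul_smul_comm, ha]
  refine ⟨fun W hW => ?_, fun φ hφ => ?_⟩
  · obtain ⟨u, hu, huW⟩ := exists_range_eq Ω l hl X ρ hρ (hFin X) W hW
    rw [span_set_eq] at hu
    obtain ⟨e, he, hee, heW⟩ := TateLinAlg.exists_idempotent (spanAlg Ω l X) W ⟨u, hu, huW⟩
    refine ⟨LinearMap.ker e, ?_, fun τ => ?_⟩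
    · have hp : LinearMap.IsProj W e :=
        ⟨fun x => heW ▸ ⟨x, rfl⟩, fun x hx => by
          obtain ⟨z, rfl⟩ := heW.symm ▸ hx
          exact LinearMap.congr_fun hee z⟩
      exact hp.isCompl
    · rintro _ ⟨x, hx, rfl⟩
      rw [LinearMap.mem_ker]
      have h := LinearMap.congr_fun (hcomm e he τ) x
      rw [Module.End.mul_apply, Module.End.mul_apply, LinearMap.mem_ker.1 hx, map_zero] at h
      exact h
  · refine TateLinAlg.mem_of_commutes (spanAlg Ω l X) φ fun c hc => ?_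
    let P := X ⊗ X
    haveI : IsProper P.hom := AVIdx.isProper_tensor X X
    haveI : GeometricallyIntegral P.hom := H23.MaxAbelian.geometricallyIntegral_tensor X X
    haveI : Module.Free ℤ_[l] (AbDual.TateMod P l (SGA7.pt Ω)) := AVTate3.free_tateMod _ l
    haveI : Module.Finite ℤ_[l] (AbDual.TateMod P l (SGA7.pt Ω)) := AVTate3.finite_tateMod _ l
    let i₁ : X ⟶ P := lift (𝟙 X) 1
    let i₂ : X ⟶ P := lift 1 (𝟙 X)
    haveI : IsMonHom i₁ := inferInstanceAs (IsMonHom (lift (𝟙 X) (1 : X ⟶ X)))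
    haveI : IsMonHom i₂ := inferInstanceAs (IsMonHom (lift (1 : X ⟶ X) (𝟙 X)))
    let A₁ := (AbDual.tateMapₗ (l := l) (T := SGA7.pt Ω) i₁).baseChange ℚ_[l]
    let A₂ := (AbDual.tateMapₗ (l := l) (T := SGA7.pt Ω) i₂).baseChange ℚ_[l]
    let B₁ := (AbDual.tateMapₗ (l := l) (T := SGA7.pt Ω) (fst X X)).baseChange ℚ_[l]
    let B₂ := (AbDual.tateMapₗ (l := l) (T := SGA7.pt Ω) (snd X X)).baseChange ℚ_[l]
    have hid : ∀ x, AbDual.tateMapₗ (l := l) (T := SGA7.pt Ω) (fst X X) (AbDual.tateMapₗ (l := l) (T := SGA7.pt Ω) i₁ x) = x ∧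
        AbDual.tateMapₗ (l := l) (T := SGA7.pt Ω) (snd X X) (AbDual.tateMapₗ (l := l) (T := SGA7.pt Ω) i₁ x) = 0 ∧
        AbDual.tateMapₗ (l := l) (T := SGA7.pt Ω) (fst X X) (AbDual.tateMapₗ (l := l) (T := SGA7.pt Ω) i₂ x) = 0 ∧
        AbDual.tateMapₗ (l := l) (T := SGA7.pt Ω) (snd X X) (AbDual.tateMapₗ (l := l) (T := SGA7.pt Ω) i₂ x) = x := by
      intro x
      refine ⟨?_, ?_, ?_, ?_⟩ <;> refine AbDual.TateMod.ext fun n => ?_
      all_goals show Additive.ofMul ((_ ≫ _) ≫ _) = _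
      · rw [Category.assoc, lift_fst, Category.comp_id]; rfl
      · rw [Category.assoc, lift_snd, MonObj.comp_one]; rfl
      · rw [Category.assoc, lift_fst, MonObj.comp_one]; rfl
      · rw [Category.assoc, lift_snd, Category.comp_id]; rfl
    have hsum : ∀ x, AbDual.tateMapₗ (l := l) (T := SGA7.pt Ω) i₁ (AbDual.tateMapₗ (l := l) (T := SGA7.pt Ω) (fst X X) x) +
        AbDual.tateMapₗ (l := l) (T := SGA7.pt Ω) i₂ (AbDual.tateMapₗ (l := l) (T := SGA7.pt Ω) (snd X X) x) = x := by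
      intro x
      refine AbDual.TateMod.ext fun n => ?_
      set y := ((x : ℕ → Additive (SGA7.pt Ω ⟶ P)) n).toMul
      show Additive.ofMul ((y ≫ fst X X) ≫ i₁) + Additive.ofMul ((y ≫ snd X X) ≫ i₂) = Additive.ofMul y
      refine congrArg Additive.ofMul ?_
      apply CartesianMonoidalCategory.hom_ext <;>
        simp [i₁, i₂, MonObj.mul_comp, MonObj.comp_one]
    have k11 : ∀ v, B₁ (A₁ v) = v := fun v => by
      show (B₁.comp A₁) v = v
      rw [← LinearMap.baseChange_comp, show (AbDual.tateMapₗ (l := l) (T := SGA7.pt Ω) (fst X X)).comp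
        (AbDual.tateMapₗ (l := l) (T := SGA7.pt Ω) i₁) = LinearMap.id from LinearMap.ext fun x => (hid x).1,
        LinearMap.baseChange_id, LinearMap.id_apply]
    have k21 : ∀ v, B₂ (A₁ v) = 0 := fun v => by
      show (B₂.comp A₁) v = 0
      rw [← LinearMap.baseChange_comp, show (AbDual.tateMapₗ (l := l) (T := SGA7.pt Ω) (snd X X)).comp
        (AbDual.tateMapₗ (l := l) (T := SGA7.pt Ω) i₁) = 0 from LinearMap.ext fun x => (hid x).2.1,
        LinearMap.baseChange_zero, LinearMap.zero_apply]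
    have k12 : ∀ v, B₁ (A₂ v) = 0 := fun v => by
      show (B₁.comp A₂) v = 0
      rw [← LinearMap.baseChange_comp, show (AbDual.tateMapₗ (l := l) (T := SGA7.pt Ω) (fst X X)).comp
        (AbDual.tateMapₗ (l := l) (T := SGA7.pt Ω) i₂) = 0 from LinearMap.ext fun x => (hid x).2.2.1,
        LinearMap.baseChange_zero, LinearMap.zero_apply]
    have k22 : ∀ v, B₂ (A₂ v) = v := fun v => by
      show (B₂.comp A₂) v = v
      rw [← LinearMap.baseChange_comp, show (AbDual.tateMapₗ (l := l) (T := SGA7.pt Ω) (snd X X)).comp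
        (AbDual.tateMapₗ (l := l) (T := SGA7.pt Ω) i₂) = LinearMap.id from LinearMap.ext fun x => (hid x).2.2.2,
        LinearMap.baseChange_id, LinearMap.id_apply]
    have hs : ∀ v, A₁ (B₁ v) + A₂ (B₂ v) = v := fun v => by
      show (A₁.comp B₁ + A₂.comp B₂) v = v
      rw [← LinearMap.baseChange_comp, ← LinearMap.baseChange_comp, ← LinearMap.baseChange_add,
        show (AbDual.tateMapₗ (l := l) (T := SGA7.pt Ω) i₁).comp (AbDual.tateMapₗ (l := l) (T := SGA7.pt Ω) (fst X X)) +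
          (AbDual.tateMapₗ (l := l) (T := SGA7.pt Ω) i₂).comp (AbDual.tateMapₗ (l := l) (T := SGA7.pt Ω) (snd X X)) =
          LinearMap.id from LinearMap.ext hsum, LinearMap.baseChange_id, LinearMap.id_apply]
    -- the graph
    let Γ : Submodule ℚ_[l] (ℚ_[l] ⊗[ℤ_[l]] AbDual.TateMod P l (SGA7.pt Ω)) := LinearMap.range (A₁ + A₂.comp φ)
    have hΓ : ∀ τ : Ω ≃ₐ[k] Ω, Γ.map ((galTate Ω l P τ).baseChange ℚ_[l]) ≤ Γ := by
      rintro τ _ ⟨_, ⟨v, rfl⟩, rfl⟩
      refine ⟨(galTate Ω l X τ).baseChange ℚ_[l] v, ?_⟩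
      have e₁ : ∀ z, A₁ ((galTate Ω l X τ).baseChange ℚ_[l] z) = (galTate Ω l P τ).baseChange ℚ_[l] (A₁ z) := fun z => by
        show (A₁.comp _) z = ((LinearMap.baseChange ℚ_[l] (galTate Ω l P τ)).comp A₁) z
        rw [← LinearMap.baseChange_comp, galTate_tateMap, LinearMap.baseChange_comp]
      have e₂ : ∀ z, A₂ ((galTate Ω l X τ).baseChange ℚ_[l] z) = (galTate Ω l P τ).baseChange ℚ_[l] (A₂ z) := fun z => by
        show (A₂.comp _) z = ((LinearMap.baseChange ℚ_[l] (galTate Ω l P τ)).comp A₂) z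
        rw [← LinearMap.baseChange_comp, galTate_tateMap, LinearMap.baseChange_comp]
      have e₃ : φ ((galTate Ω l X τ).baseChange ℚ_[l] v) = (galTate Ω l X τ).baseChange ℚ_[l] (φ v) := by
        rw [← eq_galTate Ω l ρ hρ τ]
        exact LinearMap.congr_fun (hφ τ) v
      simp only [LinearMap.add_apply, LinearMap.comp_apply, e₁, e₂, e₃, map_add]
    obtain ⟨u, hu, huΓ⟩ := exists_range_eq Ω l hl P (galTate Ω l P) (fun τ z m => rfl) (hFin P) Γ hΓ
    refine commute_of_graph A₁ A₂ B₁ B₂ k11 k12 k21 k22 hs φ u huΓ c (blocks_span A₁ A₂ B₁ B₂ c _ ?_ hu)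
    rintro ψ ⟨f, hf, rfl⟩ v
    have hmem : ∀ (i : X ⟶ P) [IsMonHom i] (p : P ⟶ X) [IsMonHom p],
        ((AbDual.tateMapₗ (l := l) (T := SGA7.pt Ω) p).baseChange ℚ_[l]).comp
          (((AbDual.tateMapₗ (l := l) (T := SGA7.pt Ω) f).baseChange ℚ_[l]).comp
            ((AbDual.tateMapₗ (l := l) (T := SGA7.pt Ω) i).baseChange ℚ_[l])) ∈ spanAlg Ω l X := by
      intro i _ p _
      refine Submodule.subset_span ⟨EndAV.End.of (i ≫ f ≫ p), ?_⟩
      rw [← LinearMap.baseChange_comp, ← LinearMap.baseChange_comp]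
      refine congrArg (LinearMap.baseChange ℚ_[l]) (LinearMap.ext fun x => ?_)
      show AbDual.tateMapₗ (l := l) (T := SGA7.pt Ω) (i ≫ f ≫ p) x = _
      rw [tateMap_comp, tateMap_comp]
      rfl
    exact ⟨LinearMap.congr_fun (hc _ (hmem i₁ (fst X X))) v, LinearMap.congr_fun (hc _ (hmem i₁ (snd X X))) v,
      LinearMap.congr_fun (hc _ (hmem i₂ (fst X X))) v, LinearMap.congr_fun (hc _ (hmem i₂ (snd X X))) v⟩

end Groth.Agent.AVDeg3.TateArg
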