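import Groth.Agent.AVDeg3.ConvFrob
import Groth.Agent.AVIsog3.Basic
import Groth.Agent.AVIsog3.Desc
import Groth.Agent.GrpSchLib.AffineHopf
import Groth.Agent.GrpSchLib.KernelGrp
import Groth.Agent.GrpSchLib.RigidHom
import Mathlib.FieldTheory.Finite.Basic

/-!
Multiplication by `q` factors through the `q`-th power Frobenius over a field with `q` elements.
-/

noncomputable section

set_option linter.style.haveILetI false
set_option linter.unusedSectionVars false
set_option backward.isDefEq.respectTransparency false
set_option backward.isDefEq.respectTransparency.types false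
set_option synthInstance.maxHeartbeats 400000
set_option maxHeartbeats 800000

universe u

open CategoryTheory CategoryTheory.Limits MonoidalCategory CartesianMonoidalCategory MonObj GrpObj AlgebraicGeometry
open TensorProduct WithConv

namespace Groth.Agent.AVDeg3

open Groth.Agent.GrpSchLib AffineHopf

variable {k : Type u} [Field k]

theorem one_left_eq {B : Over (Spec (CommRingCat.of k))} [GrpObj B] (T : Over (Spec (CommRingCat.of k))) :
    (1 : T ⟶ B).left = T.hom ≫ η[B].left := rfl

/-- The powers of the identity of an affine group. -/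
theorem spMap_pow_id {H : Type u} [CommRing H] [HopfAlgebra k H] : ∀ n : ℕ,
    spMap (((toConv (AlgHom.id k H)) ^ n : WithConv (H →ₐ[k] H)).ofConv) = (𝟙 (sp k H)) ^ n
  | 0 => by
    rw [pow_zero, pow_zero]
    exact map_one (Spec.mapMulEquiv (R := k) (S := H) (T := H))
  | n + 1 => by
    rw [pow_succ, pow_succ, ← spMap_pow_id n, ← spMap_id, spMap_mul]

variable [Finite k]

/-- A finite commutative group on which `q`-th powers of functions are constant is killed by `q`. -/
theorem pow_card_eq_one {H : Type u} [CommRing H] [HopfAlgebra k H] [Module.Finite k H] [IsCommMonObj (sp k H)]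
    (hscal : ∀ b : H, ∃ c : k, b ^ Nat.card k = algebraMap k H c) :
    (𝟙 (sp k H) : sp k H ⟶ sp k H) ^ Nat.card k = 1 := by
  classical
  haveI : Coalgebra.IsCocomm k H := by
    refine ⟨?_⟩
    have h := spMap_mul (R := k) (A := H ⊗[k] H) (B := H) Algebra.TensorProduct.includeLeft Algebra.TensorProduct.includeRight
    rw [mul_comm, spMap_mul] at h
    have h' := spMap_injective h
    ext x
    have h2 := congrArg (fun f : H →ₐ[k] H ⊗[k] H => f x) h'
    show TensorProduct.comm k H H (Coalgebra.comul x) = Coalgebra.comul x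
    simp only [AlgHom.convMul_apply, WithConv.ofConv_toConv] at h2
    refine Eq.trans ?_ (h2.trans ?_)
    · induction Coalgebra.comul (R := k) x using TensorProduct.induction_on with
      | zero => simp
      | tmul a b => simp
      | add a b ha hb => rw [map_add, map_add, ha, hb]
    · induction Coalgebra.comul (R := k) x using TensorProduct.induction_on with
      | zero => simp
      | tmul a b => simp
      | add a b ha hb => rw [map_add, ha, hb]
  let p := ringChar k
  haveI hp : Fact p.Prime := ⟨CharP.char_is_prime k p⟩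
  haveI : Fintype k := Fintype.ofFinite k
  obtain ⟨n, -, hq⟩ := FiniteField.card k p
  haveI : PerfectRing k p := PerfectRing.ofSurjective k p fun x => by
    obtain ⟨y, hy⟩ := (Finite.injective_iff_surjective).1 (frobenius k p).injective x
    exact ⟨y, hy⟩
  let N : ℕ → (H →ₐ[k] H) := fun j => (((toConv (AlgHom.id k H)) ^ (p ^ j) : WithConv (H →ₐ[k] H))).ofConv
  have hN : ∀ j, spMap (N j) = (𝟙 (sp k H)) ^ (p ^ j) := fun j => spMap_pow_id _
  have h0 : N 0 = AlgHom.id k H := by simp [N]
  have hs : ∀ j, N (j + 1) = (N j).comp (N 1) := fun j => spMap_injective (by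
    rw [← spMap_comp, hN, hN, hN, MonObj.comp_pow, Category.comp_id, ← pow_mul, pow_one, ← pow_succ])
  have h1 : (N 1).toLinearMap = ((toConv (LinearMap.id : H →ₗ[k] H) : WithConv (H →ₗ[k] H)) ^ p).ofConv := by
    have e := AlgHom.toLinearMap_convPow (toConv (AlgHom.id k H)) (p ^ 1)
    have e' := congrArg WithConv.ofConv e
    simp only [WithConv.ofConv_toConv, pow_one] at e'
    show (N 1).toLinearMap = _
    rw [show N 1 = (((toConv (AlgHom.id k H)) ^ p : WithConv (H →ₐ[k] H))).ofConv by simp [N]]
    exact e'
  have hcard : Nat.card k = p ^ (n : ℕ) := by rw [Nat.card_eq_fintype_card, hq]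
  rw [hcard, ← hN]
  refine Eq.trans (congrArg spMap ?_) (map_one (Spec.mapMulEquiv (R := k) (S := H) (T := H)))
  refine AlgHom.ext fun x => ?_
  obtain ⟨b, hb⟩ := ConvFrob.exists_eq_pow_pow (k := k) p N h0 hs h1 n x
  obtain ⟨c, hc⟩ := hscal b
  rw [hcard] at hc
  have hxc : N n x = algebraMap k H c := hb.trans hc
  have hcu : ∀ m : ℕ, (Bialgebra.counitAlgHom k H).comp (((toConv (AlgHom.id k H)) ^ m : WithConv (H →ₐ[k] H))).ofConv =
      Bialgebra.counitAlgHom k H := by
    intro m
    induction m with
    | zero =>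
      ext y
      rw [AlgHom.comp_apply, pow_zero, AlgHom.convOne_apply, Bialgebra.counitAlgHom_apply, Bialgebra.counitAlgHom_apply,
        Bialgebra.counit_algebraMap]
    | succ m ih =>
      rw [pow_succ, AlgHom.comp_convMul_distrib, ih, WithConv.ofConv_toConv, AlgHom.comp_id]
      have e1 : toConv (Bialgebra.counitAlgHom k H) = (1 : WithConv (H →ₐ[k] k)) := by
        apply WithConv.ofConv_injective
        ext y
        rw [WithConv.ofConv_toConv]
        simp
      rw [e1, _root_.mul_one, ← e1, WithConv.ofConv_toConv]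
  have hc' : c = Coalgebra.counit (R := k) x := by
    have h2 := congrArg (fun f : H →ₐ[k] k => f x) (hcu (p ^ (n : ℕ)))
    rw [AlgHom.comp_apply] at h2
    change Bialgebra.counitAlgHom k H (N n x) = _ at h2
    rw [hxc, AlgHom.commutes] at h2
    exact h2
  rw [hxc, hc']
  rfl

/-- An endomorphism acting as the identity on points and the `q`-th power on functions has kernel killed by `q`. -/
theorem exists_verschiebung (X : Over (Spec (CommRingCat.of k))) [GrpObj X] [IsCommMonObj X] [IsProper X.hom]
    [GeometricallyIntegral X.hom] (F : X ⟶ X) [IsMonHom F] (hb : F.left.base = 𝟙 _)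
    (hle : ∀ U : X.left.Opens, U ≤ F.left ⁻¹ᵁ U)
    (happ : ∀ (U : X.left.Opens) (s : Γ(X.left, U)), (F.left.appLE U U (hle U)).hom s = s ^ Nat.card k) :
    ∃ (v : X ⟶ X) (_ : IsMonHom v), F ≫ v = (𝟙 X) ^ Nat.card k ∧ v ≫ F = (𝟙 X) ^ Nat.card k := by
  classical
  haveI : Surjective F.left := ⟨fun x => ⟨x, by rw [hb]; rfl⟩⟩
  haveI := AVIsog3.isFinite_of_surjective F rfl
  haveI := AVIsog3.flat_of_surjective F
  obtain ⟨K, _, i, _, _, -, hk⟩ := GrpSchLib.exists_kernel F
  have hiF : i ≫ F = toUnit K ≫ η[X] := hk.w
  -- the kernel is finite over the field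
  haveI hKfin : IsFinite K.hom := by
    have hpb := hk.map (Over.forget _)
    haveI : IsFinite (toUnit K).left := MorphismProperty.of_isPullback hpb (inferInstance : IsFinite F.left)
    exact (inferInstance : IsFinite (toUnit K).left)
  haveI : IsAffine K.left := isAffine_of_isAffineHom K.hom
  obtain ⟨H, _, _, ⟨e⟩⟩ := exists_hopf K
  let κ : sp k H ⟶ X := e.hom.hom.hom ≫ i
  haveI : IsMonHom e.hom.hom.hom := e.hom.hom.isMonHom_hom
  haveI : IsIso e.hom.hom.hom := inferInstanceAs (IsIso ((Grp.forget _).map e.hom))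
  haveI : IsIso e.hom.hom.hom.left := inferInstanceAs (IsIso ((Over.forget _).map e.hom.hom.hom))
  haveI : IsMonHom κ := inferInstance
  haveI : IsClosedImmersion κ.left := inferInstanceAs (IsClosedImmersion (e.hom.hom.hom.left ≫ i.left))
  haveI : Mono κ.left := inferInstance
  haveI : Mono κ := Over.mono_of_mono_left κ
  haveI : IsCommMonObj (sp k H) := ⟨(cancel_mono κ).1 (by
    rw [Category.assoc, IsMonHom.mul_hom κ, ← Category.assoc, ← BraidedCategory.braiding_naturality, Category.assoc,
      IsCommMonObj.mul_comm])⟩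
  haveI : Module.Finite k H := by
    have h1 : IsFinite (sp k H).hom := by rw [← Over.w e.hom.hom.hom]; infer_instance
    have h2 : (CommRingCat.ofHom (algebraMap k H)).hom.Finite :=
      (IsFinite.SpecMap_iff (CommRingCat.ofHom (algebraMap k H))).1 h1
    exact RingHom.finite_algebraMap.1 h2
  -- functions on the kernel
  have hscal : ∀ b : H, ∃ c : k, b ^ Nat.card k = algebraMap k H c := by
    obtain ⟨_, ⟨U, hU, rfl⟩, he, -⟩ := X.left.isBasis_affineOpens.exists_subset_of_mem_open
      (Set.mem_univ (η[X].left (IsLocalRing.closedPoint k))) isOpen_univ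
    have hκF : κ.left ≫ F.left = (sp k H).hom ≫ η[X].left := by
      rw [← Over.comp_left, Category.assoc, hiF, ← Category.assoc, toUnit_unique (e.hom.hom.hom ≫ toUnit K) (toUnit _)]
      rfl
    have hpt : ∀ z, κ.left z = η[X].left (IsLocalRing.closedPoint k) := fun z => by
      have h1 := congrArg (fun f => f z) hκF
      simp only [Scheme.Hom.comp_apply] at h1
      rw [show F.left (κ.left z) = κ.left z by rw [hb]; rfl] at h1
      rw [h1]
      exact congrArg η[X].left (@Subsingleton.elim (Spec (CommRingCat.of k)) inferInstance _ _)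
    have hr : Set.range κ.left ⊆ Set.range hU.fromSpec := by
      rw [hU.range_fromSpec]; rintro _ ⟨z, rfl⟩; rw [hpt]; exact he
    have hr' : Set.range η[X].left ⊆ Set.range hU.fromSpec := by
      rw [hU.range_fromSpec]; rintro _ ⟨z, rfl⟩
      rw [@Subsingleton.elim (Spec (CommRingCat.of k)) inferInstance z (IsLocalRing.closedPoint k)]
      exact he
    let φ := Spec.preimage (IsOpenImmersion.lift hU.fromSpec κ.left hr)
    have hφ : Spec.map φ ≫ hU.fromSpec = κ.left := by rw [Spec.map_preimage, IsOpenImmersion.lift_fac]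
    let ψ := Spec.preimage (IsOpenImmersion.lift hU.fromSpec η[X].left hr')
    have hψ : Spec.map ψ ≫ hU.fromSpec = η[X].left := by rw [Spec.map_preimage, IsOpenImmersion.lift_fac]
    have hsurj : Function.Surjective φ := by
      haveI : IsClosedImmersion (Spec.map φ ≫ hU.fromSpec) := by rw [hφ]; infer_instance
      haveI : IsClosedImmersion (Spec.map φ) := IsClosedImmersion.of_comp (Spec.map φ) hU.fromSpec
      have h1 := ((HasAffineProperty.iff_of_isAffine (P := @IsClosedImmersion)).1 (inferInstance : IsClosedImmersion (Spec.map φ))).2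
      intro y
      obtain ⟨x, hx⟩ := h1 ((Scheme.ΓSpecIso _).inv y)
      refine ⟨(Scheme.ΓSpecIso _).hom x, ?_⟩
      show ((Scheme.ΓSpecIso _).hom ≫ φ) x = y
      rw [← Scheme.ΓSpecIso_naturality]
      show (Scheme.ΓSpecIso _).hom ((Spec.map φ).appTop x) = y
      rw [hx]
      simp [← CommRingCat.comp_apply]
    have heq : F.left.appLE U U (hle U) ≫ φ = ψ ≫ CommRingCat.ofHom (algebraMap k H) := by
      apply Spec.map_injective
      rw [← cancel_mono hU.fromSpec, Spec.map_comp, Spec.map_comp, Category.assoc, Category.assoc,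
        hU.SpecMap_appLE_fromSpec F.left hU, ← Category.assoc, hφ, hψ, hκF]
      rfl
    intro b
    obtain ⟨a, rfl⟩ := hsurj b
    refine ⟨ψ a, ?_⟩
    have h1 := congrArg (fun t => t a) heq
    simp only [CommRingCat.comp_apply] at h1
    rw [← map_pow, ← happ U a]
    exact h1
  -- the kernel is killed by `q`
  have hkill : (i : K ⟶ X) ^ Nat.card k = 1 := by
    haveI : Epi e.hom.hom.hom := inferInstance
    rw [← cancel_epi e.hom.hom.hom, MonObj.comp_pow, MonObj.comp_one]
    show κ ^ Nat.card k = 1
    rw [← Category.id_comp κ, ← MonObj.pow_comp, pow_card_eq_one hscal, MonObj.one_comp]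
  haveI : IsProper F.left := AVIsog3.isProper_left F
  obtain ⟨v, hv⟩ := AVIsog3.exists_desc F ((𝟙 X) ^ Nat.card k : X ⟶ X) fun {T} a b h => by
    simp only [MonObj.comp_pow, Category.comp_id]
    have hab : (a * b⁻¹) ≫ F = toUnit T ≫ η[X] := by
      rw [MonObj.mul_comp, GrpObj.inv_comp, h, mul_inv_cancel]
      rfl
    have h2 : (a * b⁻¹) ^ Nat.card k = 1 := by
      rw [← hk.lift_fst (a * b⁻¹) (toUnit T) hab, ← MonObj.comp_pow, hkill, MonObj.comp_one]
    rwa [mul_pow, inv_pow, mul_inv_eq_one] at h2
  haveI : IsMonHom v := GrpSchLib.RigidHom.isMonHom_of_one v (by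
    rw [← IsMonHom.one_hom F, Category.assoc, hv, MonObj.comp_pow, Category.comp_id, MonObj.one_eq_one,
      one_pow])
  refine ⟨v, inferInstance, hv, ?_⟩
  haveI := AVIsog3.isIntegral_left X
  have e2 : F ≫ v ≫ F = F ≫ (𝟙 X) ^ Nat.card k := by
    rw [← Category.assoc, hv, MonObj.pow_comp, Category.id_comp, MonObj.comp_pow, Category.comp_id]
  exact Over.OverMorphism.ext (ext_of_isDominant_of_isSeparated X.hom ((Over.w _).trans (Over.w _).symm) F.left
    (by simpa using congrArg CommaMorphism.left e2))

end Groth.Agent.AVDeg3
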