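import Groth.Agent.AVDeg3.PullEuler
import Groth.Agent.AVDeg3.Poly
import Groth.Agent.AVIsog3.Basic
import Groth.Agent.Lib.AVCube
import Groth.Agent.S8121
import Groth.Agent.HilbPoly.Pos
import Groth.Agent.VanGrowth.Big
import Groth.Agent.AVDegLib.MulN
import Groth.Prelude.Def_EndRing

/-!
The degree of `φ + n` is given by a polynomial in `n` of degree `2g` with leading coefficient one.
-/

noncomputable section

set_option linter.style.haveILetI false
set_option linter.unusedSectionVars false
set_option backward.isDefEq.respectTransparency false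
set_option backward.isDefEq.respectTransparency.types false

universe u

open CategoryTheory CategoryTheory.Limits MonoidalCategory CartesianMonoidalCategory MonObj GrpObj AlgebraicGeometry
open TopologicalSpace

namespace Groth.Agent.AVDeg3

open Groth.Agent.H23 Groth.Agent.AVCube Groth.Agent.Snapper
open scoped Groth.Agent.H23.PicMul

/-- The three-term recursion with constant second difference. -/
theorem quad_seq {G : Type*} [CommGroup G] (F : ℕ → G) (c : G)
    (h : ∀ n, F (n + 2) * F n = F (n + 1) ^ 2 * c) :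
    ∀ n, F n = F 0 * (F 1 / F 0) ^ n * c ^ n.choose 2 := by
  have key : ∀ n, F n = F 0 * (F 1 / F 0) ^ n * c ^ n.choose 2 ∧
      F (n + 1) = F 0 * (F 1 / F 0) ^ (n + 1) * c ^ (n + 1).choose 2 := by
    intro n
    induction n with
    | zero => simp
    | succ n ih =>
      refine ⟨ih.2, ?_⟩
      have e : F (n + 2) = F (n + 1) ^ 2 * c / F n := eq_div_iff_mul_eq'.2 (h n)
      have hc : 2 * (n + 1).choose 2 + 1 = (n + 2).choose 2 + n.choose 2 := by
        rw [Nat.choose_succ_succ (n + 1) 1, Nat.choose_succ_succ n 1, Nat.choose_one_right, Nat.choose_one_right]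
        simp only [Nat.succ_eq_add_one, Nat.reduceAdd]
        omega
      show F (n + 2) = _
      rw [e, ih.2, ih.1, div_eq_iff_eq_mul, mul_pow, mul_pow, ← pow_mul, ← pow_mul]
      calc F 0 ^ 2 * (F 1 / F 0) ^ ((n + 1) * 2) * c ^ ((n + 1).choose 2 * 2) * c
          = F 0 ^ 2 * (F 1 / F 0) ^ ((n + 1) * 2) * c ^ (2 * (n + 1).choose 2 + 1) := by
            rw [_root_.mul_assoc, ← pow_succ, _root_.mul_comm ((n + 1).choose 2) 2]
        _ = _ := by
            rw [hc, pow_add, show (n + 1) * 2 = (n + 2) + n by ring, pow_add, sq]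
            simp only [show n + 1 + 1 = n + 2 from rfl]
            ac_rfl
  exact fun n => (key n).1

variable {k : Type u} [Field k] {A : Over (Spec (CommRingCat.of k))} [GrpObj A] [IsCommMonObj A] [IsProper A.hom]
  [GeometricallyIntegral A.hom]

/-- Quotients of invertible classes are invertible. -/
theorem isInvertibleCl_div {X : Scheme.{u}} {u v : (PicF.Cl X)ˣ} (hu : PicF.IsInvertibleCl (u : PicF.Cl X))
    (hv : PicF.IsInvertibleCl (v : PicF.Cl X)) : PicF.IsInvertibleCl ((u / v : (PicF.Cl X)ˣ) : PicF.Cl X) := by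
  obtain ⟨M, hM, hMi⟩ := hv
  obtain ⟨D, hD, e⟩ := PicInv.exists_inverse hMi
  have h : PicF.cl D = ((v⁻¹ : (PicF.Cl X)ˣ) : PicF.Cl X) := by
    refine left_inv_eq_right_inv (a := PicF.cl M) ?_ ?_
    · rw [mul_comm]
      exact (PicGrp.cl_eq_cl_iff _ _).2 e
    · rw [hM]
      exact Units.mul_inv v
  rw [div_eq_mul_inv, Units.val_mul]
  exact PicMul.isInvertibleCl_mul hu ⟨D, h, hD⟩

theorem finrank_apply_eq (f : A ⟶ A) [IsMonHom f] [IsFinite f.left] [Surjective f.left] (a b : A.left) :
    f.left.finrank a = f.left.finrank b := by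
  haveI := AVIsog3.flat_of_surjective f
  haveI := AVIsog3.lfp_left f
  haveI := AVIsog3.isIntegral_left A
  exact (f.left.isLocallyConstant_finrank).apply_eq_of_preconnectedSpace a b

/-- The degree of `φ + n` on natural numbers. -/
theorem exists_degree_poly_nat {g : ℕ} (hg : topologicalKrullDim A.left = g) :
    ∃ c : ℚ, ∀ φ : EndAV.End A, ∃ R : Polynomial ℚ, R.natDegree ≤ 2 * g ∧ R.coeff (2 * g) = c ∧
      ∀ n : ℕ, IsFinite (EndAV.End.toHom (φ + (n : EndAV.End A))).left →
        ∀ a : A.left, ((EndAV.End.toHom (φ + (n : EndAV.End A))).left.finrank a : ℚ) = R.eval (n : ℚ) := by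
  classical
  haveI hint := AVIsog3.isIntegral_left A
  letI : A.left.Over (Spec (CommRingCat.of k)) := ⟨A.hom⟩
  haveI : IsProper (A.left ↘ Spec (CommRingCat.of k)) := ‹IsProper A.hom›
  haveI := CurveCohLib.isNoetherian_of_proper (k := k) (X := A.left)
  obtain ⟨L, hL, -⟩ := S8121.result k A
  have hLi : PicF.IsInvertible L := hL.1
  have hO : Coh.IsCoh (Coh.structureModule A.left) := QCoh.isCoh_structureModule'
  have hsupp : topologicalKrullDim ↥(CohB1.support (Coh.structureModule A.left)) = (g : WithBot ℕ∞) := by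
    rw [VanGrowth.support_structureModule, VanGrowth.dim_univ, hg]
  obtain ⟨P₀, hP₀, -, hα⟩ := HilbPoly.exists_poly (HilbPoly.additive_euler k) hLi hO hsupp.le
  have ha : 0 < P₀.coeff g := by
    have h1 := (HilbPoly.mult_nonneg_and_pos k hL g _ hO hsupp.le).2 hsupp
    have h2 : (0 : ℚ) < StabCat.alpha g P₀ := by rw [hα]; exact_mod_cast h1
    exact pos_of_mul_pos_right h2 (Nat.cast_nonneg _)
  let one : A ⟶ A := EndAV.End.toHom (1 : EndAV.End A)
  let cU : (PicF.Cl A.left)ˣ := pc hLi (one * one) / (pc hLi one * pc hLi one)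
  have hinv : ∀ f : A ⟶ A, PicF.IsInvertibleCl (pc hLi f : PicF.Cl A.left) := fun f =>
    PicClLib.isInvertibleCl_pullCl f.left ⟨L, rfl, hLi⟩
  obtain ⟨Mc, hMc, hMci⟩ : PicF.IsInvertibleCl (cU : PicF.Cl A.left) :=
    isInvertibleCl_div (hinv _) (by rw [Units.val_mul]; exact PicMul.isInvertibleCl_mul (hinv _) (hinv _))
  obtain ⟨Pc, -, hPc⟩ := exists_mpoly k (L := fun _ : Fin 1 => Mc) (fun _ => hMci) hO hsupp.le
  refine ⟨(1 / 2) ^ g * (MvPolynomial.aeval (fun _ : Fin 1 => (Polynomial.X : Polynomial ℚ)) Pc).coeff g /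
    P₀.coeff g, fun φ => ?_⟩
  let F : ℕ → (PicF.Cl A.left)ˣ := fun n => pc hLi (EndAV.End.toHom (φ + (n : EndAV.End A)))
  have hrec : ∀ n, F (n + 2) * F n = F (n + 1) ^ 2 * cU := by
    intro n
    have h := cube_rel hLi (EndAV.End.toHom (φ + (n : EndAV.End A))) one one
    have e1 : EndAV.End.toHom (φ + (n : EndAV.End A)) * one = EndAV.End.toHom (φ + ((n + 1 : ℕ) : EndAV.End A)) := by
      rw [Nat.cast_add, Nat.cast_one, ← add_assoc]
      rfl
    have e2 : EndAV.End.toHom (φ + (n : EndAV.End A)) * one * one =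
        EndAV.End.toHom (φ + ((n + 2 : ℕ) : EndAV.End A)) := by
      rw [e1, show n + 2 = n + 1 + 1 from rfl, Nat.cast_add (n + 1) 1, Nat.cast_one, ← add_assoc]
      rfl
    rw [e2, e1] at h
    show F (n + 2) * F n = F (n + 1) ^ 2 * (pc hLi (one * one) / (pc hLi one * pc hLi one))
    rw [mul_div_assoc', eq_div_iff_mul_eq', sq]
    simp only [_root_.mul_assoc] at h ⊢
    exact h
  have hF := quad_seq F cU hrec
  obtain ⟨MQ, hMQ, hMQi⟩ : PicF.IsInvertibleCl (F 0 : PicF.Cl A.left) := hinv _
  obtain ⟨MD, hMD, hMDi⟩ : PicF.IsInvertibleCl ((F 1 / F 0 : (PicF.Cl A.left)ˣ) : PicF.Cl A.left) :=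
    isInvertibleCl_div (hinv _) (hinv _)
  let Lv : Fin 3 → A.left.Modules := ![MQ, MD, Mc]
  have hLv : ∀ i, PicF.IsInvertible (Lv i) := fun i => by fin_cases i <;> assumption
  obtain ⟨P, -, hP⟩ := exists_mpoly k hLv hO hsupp.le
  refine ⟨(subst P).coeff g * Polynomial.C (1 / P₀.coeff g), ?_, ?_, ?_⟩
  · refine Polynomial.natDegree_mul_le.trans ?_
    rw [Polynomial.natDegree_C, add_zero]
    exact (subst_spec P g).1
  · rw [Polynomial.coeff_mul_C, (subst_spec P g).2]
    have e : MvPolynomial.aeval (fun i : Fin 3 => if i = 2 then Polynomial.C (1 / 2 : ℚ) * Polynomial.X else 0) P =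
        (MvPolynomial.aeval (fun _ : Fin 1 => (Polynomial.X : Polynomial ℚ)) Pc).comp
          (Polynomial.C (1 / 2) * Polynomial.X) := by
      let S3 : Polynomial ℚ := MvPolynomial.aeval (fun i : Fin 3 => if i = 2 then (Polynomial.X : Polynomial ℚ) else 0) P
      have h3 : S3 = MvPolynomial.aeval (fun _ : Fin 1 => (Polynomial.X : Polynomial ℚ)) Pc := by
        refine eq_of_eval_natCast _ _ 0 fun m _ => ?_
        simp only [S3, MvPolynomial.polynomial_eval_eval₂, MvPolynomial.aeval_def]
        have hv3 : (fun i : Fin 3 => Polynomial.eval (m : ℚ) (if i = 2 then Polynomial.X else 0)) =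
            fun i => ((![0, 0, m] : Fin 3 → ℕ) i : ℚ) := funext fun i => by fin_cases i <;> simp
        have hc3 : (Polynomial.evalRingHom (m : ℚ)).comp (algebraMap ℚ (Polynomial ℚ)) = RingHom.id ℚ :=
          RingHom.ext fun x => by simp
        rw [hv3, hc3, Polynomial.eval_X]
        refine (hP _).symm.trans (Eq.trans ?_ (hPc fun _ => m))
        refine congrArg Int.cast (CurveCohLib.euler_congr (k := k) ?_)
        exact (PicMul.cl_eq_iff.1 (by
          rw [cl_tensorPows, cl_tensorPows, Fin.prod_univ_three, Fin.prod_univ_one]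
          simp [Lv])).some
      rw [← h3]
      exact aeval_scale P
    rw [e, Polynomial.comp_C_mul_X_coeff]
    ring
  · intro n hfin a
    let f : EndAV.End A := φ + (n : EndAV.End A)
    haveI : IsFinite (EndAV.End.toHom f).left := hfin
    haveI := AVIsog3.surjective_of_isFinite (EndAV.End.toHom f) rfl
    haveI := AVIsog3.flat_of_surjective (EndAV.End.toHom f)
    haveI := AVIsog3.lfp_left (EndAV.End.toHom f)
    obtain ⟨Q, hQ, hQn⟩ := isMPolyLt_pullback k (EndAV.End.toHom f).left (Over.w _) hg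
      (L := fun _ : Fin 1 => L) (fun _ => hLi)
    rw [finrank_apply_eq (EndAV.End.toHom f) a (genericPoint A.left)]
    set d : ℚ := ((EndAV.End.toHom f).left.finrank (genericPoint A.left) : ℚ)
    let p : Polynomial ℚ := (subst P).map (Polynomial.evalRingHom (n : ℚ))
    have hp : p - Polynomial.C d * P₀ = MvPolynomial.aeval (fun _ : Fin 1 => (Polynomial.X : Polynomial ℚ)) Q := by
      refine eq_of_eval_natCast _ _ 0 fun m _ => ?_
      rw [Polynomial.eval_sub, Polynomial.eval_mul, Polynomial.eval_C, eval_subst, ← hP₀ m]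
      rw [eval_aeval_X, ← hQn fun _ => m]
      have hsl : (fun i => (slope i).eval (n : ℚ) * (m : ℚ)) =
          fun i => ((![m, n * m, n.choose 2 * m] : Fin 3 → ℕ) i : ℚ) := funext fun i => by
        fin_cases i <;> simp [slope, choose2_eval]
      rw [hsl, ← hP]
      simp only [Pi.sub_apply, Pi.smul_apply, smul_eq_mul]
      congr 1
      · refine congrArg Int.cast (CurveCohLib.euler_congr (k := k) ?_)
        exact (PicMul.cl_eq_iff.1 (by
          rw [cl_tensorPows, cl_tensorPows, Fin.prod_univ_three, Fin.prod_univ_one]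
          simp only [Lv, Matrix.cons_val_zero, Matrix.cons_val_one, Matrix.cons_val_two, Matrix.tail_cons,
            Matrix.head_cons, hMQ, hMD, hMc]
          congr 1
          rw [← val_pc hLi, ← Units.val_pow_eq_pow_val, ← Units.val_pow_eq_pow_val, ← Units.val_pow_eq_pow_val,
            ← Units.val_pow_eq_pow_val, ← Units.val_mul, ← Units.val_mul]
          refine congrArg Units.val ?_
          show _ = F n ^ m
          rw [hF n, mul_pow, mul_pow, ← pow_mul, ← pow_mul])).some
    have hg' := congrArg (fun q => Polynomial.coeff q g) hp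
    simp only [Polynomial.coeff_sub, Polynomial.coeff_C_mul, coeff_aeval_X_eq_zero le_rfl Q hQ, p,
      Polynomial.coeff_map, Polynomial.coe_evalRingHom] at hg'
    rw [Polynomial.eval_mul, Polynomial.eval_C, sub_eq_zero.1 hg']
    field_simp

end Groth.Agent.AVDeg3
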