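import Groth.Agent.WeilLib.ExpSeries
import Mathlib.Analysis.Complex.Polynomial.Basic
import Mathlib.FieldTheory.Galois.Infinite
import Mathlib.FieldTheory.IsAlgClosed.AlgebraicClosure
import Mathlib.RingTheory.IntegralClosure.IntegrallyClosed
import Mathlib.RingTheory.Polynomial.RationalRoot
import Mathlib.Algebra.Polynomial.BigOperators

/-!
Algebra of the products over sub-multisets of roots: logarithmic derivatives, integrality, functional equation.
-/

noncomputable section

set_option linter.style.haveILetI false
set_option backward.isDefEq.respectTransparency false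
set_option backward.isDefEq.respectTransparency.types false

open Polynomial
open Groth.Agent.WeilLib

namespace Groth.Agent.AVDeg3

/-- `∏ (1 - I X)` over the `j`-element sub-multisets. -/
def Pj {K : Type*} [CommRing K] (S : Multiset K) (j : ℕ) : Polynomial K :=
  ((S.powersetCard j).map fun I => (1 : Polynomial K) - C I.prod * X).prod

theorem sum_powerset_alt {K : Type*} [CommRing K] (S : Multiset K) (m : ℕ) :
    (S.powerset.map fun I => (-1 : K) ^ Multiset.card I * I.prod ^ m).sum =
      (S.map fun a => 1 - a ^ m).prod := by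
  induction S using Multiset.induction_on with
  | empty => simp
  | cons a S ih =>
    rw [Multiset.powerset_cons, Multiset.map_add, Multiset.sum_add, Multiset.map_map, Multiset.map_cons,
      Multiset.prod_cons, sub_mul, one_mul, ← ih, sub_eq_add_neg, ← Multiset.sum_map_mul_left, ← Multiset.sum_map_neg]
    congr 1
    refine congrArg Multiset.sum (Multiset.map_congr rfl fun I _ => ?_)
    simp only [Function.comp_apply, Multiset.card_cons, Multiset.prod_cons]
    ring

theorem sum_range_powersetCard {K M : Type*} [AddCommMonoid M] (S : Multiset K) (f : Multiset K → M) :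
    ∑ j ∈ Finset.range (Multiset.card S + 1), ((S.powersetCard j).map f).sum = (S.powerset.map f).sum := by
  rw [← Multiset.bind_powerset_len S, Multiset.map_bind, Multiset.sum_bind, Finset.sum_eq_multiset_sum]
  rfl

theorem prod_range_powersetCard {K M : Type*} [CommMonoid M] (S : Multiset K) (f : Multiset K → M) :
    ∏ j ∈ Finset.range (Multiset.card S + 1), ((S.powersetCard j).map f).prod = (S.powerset.map f).prod := by
  rw [← Multiset.bind_powerset_len S, Multiset.map_bind, Multiset.prod_bind, Finset.prod_eq_multiset_prod]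
  rfl

theorem hasLogDeriv_prod_linear {K : Type*} [CommRing K] (t : Multiset K) :
    HasLogDeriv (((t.map fun c => (1 : Polynomial K) - C c * X).prod : Polynomial K) : PowerSeries K)
      (PowerSeries.mk fun m => -(t.map fun c => c ^ (m + 1)).sum) := by
  induction t using Multiset.induction_on with
  | empty =>
    simp only [Multiset.map_zero, Multiset.prod_zero, Multiset.sum_zero, neg_zero, Polynomial.coe_one]
    exact HasLogDeriv.one
  | cons a t ih =>
    rw [Multiset.map_cons, Multiset.prod_cons, Polynomial.coe_mul]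
    have h1 : HasLogDeriv (((1 : Polynomial K) - C a * X : Polynomial K) : PowerSeries K)
        (PowerSeries.mk fun m => -a ^ (m + 1)) := by
      rw [HasLogDeriv, Polynomial.coe_sub, Polynomial.coe_one, Polynomial.coe_mul, Polynomial.coe_C, Polynomial.coe_X,
        map_sub, Derivation.map_one_eq_zero, zero_sub, Derivation.leibniz,
        PowerSeries.derivative_X, PowerSeries.derivative_C, smul_zero, add_zero, smul_eq_mul, mul_one]
      ext m
      rw [sub_mul, one_mul, map_sub, map_neg, PowerSeries.coeff_C, mul_assoc, PowerSeries.coeff_C_mul]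
      rcases m with - | m
      · rw [PowerSeries.coeff_zero_X_mul, PowerSeries.coeff_mk]
        simp
      · rw [PowerSeries.coeff_succ_X_mul, PowerSeries.coeff_mk, PowerSeries.coeff_mk, if_neg (Nat.succ_ne_zero m)]
        ring
    convert h1.mul ih using 1
    ext m
    simp [add_comm]

theorem constantCoeff_Pj {K : Type*} [CommRing K] (S : Multiset K) (j : ℕ) :
    PowerSeries.constantCoeff ((Pj S j : Polynomial K) : PowerSeries K) = 1 := by
  rw [Polynomial.constantCoeff_coe, Polynomial.coeff_zero_eq_eval_zero, Pj, Polynomial.eval_multiset_prod,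
    Multiset.map_map]
  refine Multiset.prod_eq_one fun x hx => ?_
  obtain ⟨I, -, rfl⟩ := Multiset.mem_map.1 hx
  simp

/-- The zeta identity from the point counts. -/
theorem mul_prod_even_eq_prod_odd (S : Multiset ℂ) (n : ℕ) (hn : Multiset.card S = n) (F : PowerSeries ℂ)
    (D : ℕ → ℂ) (hF : HasLogDeriv F (PowerSeries.mk D)) (h0 : PowerSeries.constantCoeff F = 1)
    (hD : ∀ m, D m = (S.map fun a => 1 - a ^ (m + 1)).prod) :
    F * ∏ j ∈ (Finset.range (n + 1)).filter (fun j => Even j), ((Pj S j : Polynomial ℂ) : PowerSeries ℂ) =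
      ∏ j ∈ (Finset.range (n + 1)).filter (fun j => Odd j), ((Pj S j : Polynomial ℂ) : PowerSeries ℂ) := by
  have h : ∀ s : Finset ℕ, HasLogDeriv (∏ j ∈ s, ((Pj S j : Polynomial ℂ) : PowerSeries ℂ))
      (∑ j ∈ s, PowerSeries.mk fun m => -((S.powersetCard j).map fun I => I.prod ^ (m + 1)).sum) := fun s =>
    HasLogDeriv.prod s fun j _ => by
      have := hasLogDeriv_prod_linear ((S.powersetCard j).map Multiset.prod)
      simp only [Multiset.map_map] at this
      exact this
  refine (hF.mul (h _)).unique ?_ ?_
  · convert h _ using 1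
    ext m
    simp only [map_add, map_sum, PowerSeries.coeff_mk, hD, Finset.sum_neg_distrib]
    rw [← sum_powerset_alt, ← sum_range_powersetCard, hn,
      ← Finset.sum_filter_add_sum_filter_not (Finset.range (n + 1)) (fun j => Even j)]
    have e1 : ∀ j ∈ (Finset.range (n + 1)).filter (fun j => Even j),
        ((S.powersetCard j).map fun I => (-1 : ℂ) ^ Multiset.card I * I.prod ^ (m + 1)).sum =
          ((S.powersetCard j).map fun I => I.prod ^ (m + 1)).sum := fun j hj =>
      congrArg Multiset.sum (Multiset.map_congr rfl fun I hI => by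
        rw [(Multiset.mem_powersetCard.1 hI).2, (Finset.mem_filter.1 hj).2.neg_one_pow, one_mul])
    have e2 : ∀ j ∈ (Finset.range (n + 1)).filter (fun j => ¬ Even j),
        ((S.powersetCard j).map fun I => (-1 : ℂ) ^ Multiset.card I * I.prod ^ (m + 1)).sum =
          -((S.powersetCard j).map fun I => I.prod ^ (m + 1)).sum := fun j hj => by
      rw [← Multiset.sum_map_neg]
      exact congrArg Multiset.sum (Multiset.map_congr rfl fun I hI => by
        rw [(Multiset.mem_powersetCard.1 hI).2,
          (Nat.not_even_iff_odd.1 (Finset.mem_filter.1 hj).2).neg_one_pow, neg_one_mul])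
    rw [Finset.sum_congr rfl e1, Finset.sum_congr rfl e2, Finset.sum_neg_distrib]
    simp only [Nat.not_even_iff_odd]
    ring
  · rw [map_mul, h0, map_prod, map_prod, Finset.prod_eq_one fun x _ => constantCoeff_Pj S x,
      Finset.prod_eq_one fun x _ => constantCoeff_Pj S x, one_mul]

/-- The products over sub-multisets of the roots of a monic integral polynomial have integer coefficients. -/
theorem exists_int_Pj (P : Polynomial ℤ) (hP : P.Monic) (j : ℕ) :
    ∃ Q : Polynomial ℤ, Q.map (Int.castRingHom ℂ) = Pj (P.map (Int.castRingHom ℂ)).roots j := by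
  classical
  let K := AlgebraicClosure ℚ
  haveI : IsAlgClosure ℚ K := AlgebraicClosure.instIsAlgClosure ℚ
  haveI : Algebra.IsAlgebraic ℚ K := IsAlgClosure.isAlgebraic (R := ℚ)
  haveI : Algebra.IsSeparable ℚ K := Algebra.IsAlgebraic.isSeparable_of_perfectField
  haveI : Normal ℚ K := IsAlgClosure.normal ℚ K
  haveI : IsGalois ℚ K := ⟨⟩
  let e : K →+* ℂ := (IsAlgClosed.lift (R := ℚ) (S := K) (M := ℂ)).toRingHom
  let R := (P.map (Int.castRingHom K)).roots
  have hroots : (P.map (Int.castRingHom ℂ)).roots = R.map e := by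
    rw [← (IsAlgClosed.splits (P.map (Int.castRingHom K))).roots_map_of_injective e.injective, Polynomial.map_map]
    exact congrArg (fun z => (P.map z).roots) (RingHom.ext_int _ _)
  have hmap : ∀ {L : Type} [CommRing L] (f : K →+* L) (T : Multiset K), (Pj T j).map f = Pj (T.map f) j := by
    intro L _ f T
    simp only [Pj, Polynomial.map_multiset_prod, Multiset.map_map, Multiset.powersetCard_map]
    refine congrArg Multiset.prod (Multiset.map_congr rfl fun I _ => ?_)
    simp only [Function.comp_apply, Polynomial.map_sub, Polynomial.map_one, Polynomial.map_mul, Polynomial.map_C,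
      Polynomial.map_X, map_multiset_prod f]
  have hint : ∀ i, IsIntegral ℤ ((Pj R j).coeff i) := by
    intro i
    have hmem : Pj R j ∈ Polynomial.lifts (integralClosure ℤ K).val.toRingHom := by
      refine multiset_prod_mem _ fun x hx => ?_
      obtain ⟨I, hI, rfl⟩ := Multiset.mem_map.1 hx
      have hI' : IsIntegral ℤ I.prod := IsIntegral.multiset_prod fun a ha => ⟨P, hP, by
        have h1 := Polynomial.isRoot_of_mem_roots (Multiset.mem_of_le (Multiset.mem_powersetCard.1 hI).1 ha)
        rw [Polynomial.IsRoot, Polynomial.eval_map] at h1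
        exact (congrArg (fun z => Polynomial.eval₂ z a P) (RingHom.ext_int _ _)).trans h1⟩
      exact Subring.sub_mem (R := Polynomial K) (s := (Polynomial.mapRingHom (integralClosure ℤ K).val.toRingHom).range)
        (Subring.one_mem _) (Subring.mul_mem _ ⟨C ⟨I.prod, hI'⟩, by simp⟩ ⟨X, by simp⟩)
    obtain ⟨Q, hQ⟩ := (Polynomial.mem_lifts _).1 hmem
    rw [← hQ, Polynomial.coeff_map]
    exact (Q.coeff i).2
  have hfix : ∀ (σ : K ≃ₐ[ℚ] K) i, σ ((Pj R j).coeff i) = (Pj R j).coeff i := by
    intro σ i
    have h1 : (Pj R j).map σ.toAlgHom.toRingHom = Pj R j := by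
      rw [hmap]
      congr 1
      rw [← (IsAlgClosed.splits (P.map (Int.castRingHom K))).roots_map_of_injective σ.toAlgHom.toRingHom.injective,
        Polynomial.map_map]
      exact congrArg (fun z => (P.map z).roots) (RingHom.ext_int _ _)
    exact (Polynomial.coeff_map _ i).symm.trans (congrArg (fun p => p.coeff i) h1)
  have hco : ∀ i, ∃ z : ℤ, (z : K) = (Pj R j).coeff i := by
    intro i
    obtain ⟨c, hc⟩ := (InfiniteGalois.mem_range_algebraMap_iff_fixed ((Pj R j).coeff i)).2 fun σ => hfix σ i
    obtain ⟨z, hz⟩ := IsIntegrallyClosed.isIntegral_iff.1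
      ((isIntegral_algHom_iff ((algebraMap ℚ K).toIntAlgHom) (algebraMap ℚ K).injective).1
        (show IsIntegral ℤ ((algebraMap ℚ K) c) by rw [hc]; exact hint i))
    refine ⟨z, ?_⟩
    rw [← hc, ← hz]
    simp
  obtain ⟨Q, hQ⟩ := (Polynomial.mem_lifts (Pj R j)).1
    ((Polynomial.lifts_iff_coeff_lifts (f := Int.castRingHom K) (Pj R j)).2 fun i => hco i)
  refine ⟨Q, ?_⟩
  rw [hroots, ← hmap, ← hQ, Polynomial.map_map]
  exact congrArg (fun z => Q.map z) (RingHom.ext_int _ _)

/-- The alternating product `∏ (1 - t I)^(±1)`. -/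
def altProd (S : Multiset ℂ) (t : ℂ) : ℂ :=
  (S.powerset.map fun I => (1 - I.prod * t) ^ ((-1 : ℤ) ^ (Multiset.card I + 1))).prod

theorem altProd_cons (a : ℂ) (S : Multiset ℂ) (t : ℂ) : altProd (a ::ₘ S) t = altProd S t / altProd S (a * t) := by
  rw [div_eq_mul_inv, ← zpow_neg_one]
  simp only [altProd, Multiset.powerset_cons, Multiset.map_add, Multiset.prod_add, Multiset.map_map]
  rw [← Multiset.prod_map_zpow]
  congr 1
  refine congrArg Multiset.prod (Multiset.map_congr rfl fun I _ => ?_)
  simp only [Function.comp_apply, Multiset.card_cons, Multiset.prod_cons]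
  rw [← zpow_mul, show ((-1 : ℤ) ^ (Multiset.card I + 1)) * (-1) = (-1 : ℤ) ^ (Multiset.card I + 1 + 1) by ring,
    show a * I.prod * t = I.prod * (a * t) by ring]

theorem altProd_functional : ∀ (S : Multiset ℂ), (∀ a ∈ S, a ≠ 0) → S ≠ 0 →
    ∃ u : ℂ, u ≠ 0 ∧ (2 ≤ Multiset.card S → u = 1) ∧
      ∀ t : ℂ, t ≠ 0 → altProd S (S.prod * t)⁻¹ = u * altProd S t ^ ((-1 : ℤ) ^ Multiset.card S) := by
  intro S
  induction S using Multiset.induction_on with
  | empty => exact fun _ h => absurd rfl h
  | cons a S ih =>
    intro hne _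
    have ha := hne a (Multiset.mem_cons_self a S)
    rcases eq_or_ne S 0 with rfl | hS
    · refine ⟨a, ha, fun h => absurd h (by simp), fun t ht => ?_⟩
      have e : ∀ s : ℂ, altProd (0 : Multiset ℂ) s = (1 - s)⁻¹ := fun s => by simp [altProd]
      rw [altProd_cons, altProd_cons, e, e, e, e]
      simp only [Multiset.prod_cons, Multiset.prod_zero, mul_one, Multiset.card_cons, Multiset.card_zero, zero_add,
        pow_one, zpow_neg_one, inv_div_inv, inv_div]
      rw [show 1 - a * (a * t)⁻¹ = (t - 1) / t by field_simp, show 1 - (a * t)⁻¹ = (a * t - 1) / (a * t) by field_simp,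
        div_div_div_eq, show (t - 1) * (a * t) = t * (a * (t - 1)) by ring, mul_div_mul_left _ _ ht,
        ← neg_sub 1 t, ← neg_sub 1 (a * t), mul_neg, neg_div_neg_eq, mul_div_assoc]
    · obtain ⟨u, hu, -, hf⟩ := ih (fun x hx => hne x (Multiset.mem_cons_of_mem hx)) hS
      have hP : S.prod ≠ 0 := Multiset.prod_ne_zero fun h => hne 0 (Multiset.mem_cons_of_mem h) rfl
      refine ⟨1, one_ne_zero, fun _ => rfl, fun t ht => ?_⟩
      rw [altProd_cons, altProd_cons, Multiset.prod_cons, Multiset.card_cons,
        show (a * S.prod * t)⁻¹ = (S.prod * (a * t))⁻¹ by ring_nf, hf (a * t) (mul_ne_zero ha ht),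
        show a * (S.prod * (a * t))⁻¹ = (S.prod * t)⁻¹ by field_simp, hf t ht, one_mul, pow_succ,
        mul_neg_one, zpow_neg, ← inv_zpow, inv_div, div_zpow, mul_div_mul_left _ _ hu]

end Groth.Agent.AVDeg3
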