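import Groth.Agent.AVDeg3.PointCount
import Groth.Agent.AVDeg3.ZetaAlg
import Groth.Agent.ZetaLib.PointsOfExt
import Groth.Agent.ZetaLib.ZetaProduct

/-!
The zeta function of an abelian variety over a finite field.
-/

noncomputable section

set_option linter.style.haveILetI false
set_option linter.unusedSectionVars false
set_option backward.isDefEq.respectTransparency false
set_option backward.isDefEq.respectTransparency.types false
set_option synthInstance.maxHeartbeats 400000
set_option maxHeartbeats 800000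

universe u

open CategoryTheory MonoidalCategory CartesianMonoidalCategory MonObj GrpObj AlgebraicGeometry

namespace Groth.Agent.AVDeg3

theorem map_hasLogDeriv {R S : Type*} [CommRing R] [CommRing S] (f : R →+* S) {F D : PowerSeries R}
    (h : WeilLib.HasLogDeriv F D) : WeilLib.HasLogDeriv (F.map f) (D.map f) := by
  rw [WeilLib.HasLogDeriv] at h ⊢
  rw [← map_mul, ← h]
  ext n
  simp [PowerSeries.coeff_derivative]

variable (k Ω : Type u) [Field k] [Finite k] [Field Ω] [Algebra k Ω] [IsAlgClosure k Ω]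
  (l : ℕ) [Fact l.Prime] (hl : (l : k) ≠ 0) (X : Over (Spec (CommRingCat.of k)))
  [GrpObj X] [IsCommMonObj X] [IsProper X.hom] [GeometricallyIntegral X.hom]
  (πX : X ⟶ X) [IsMonHom πX] (hπb : πX.left.base = 𝟙 _)
  (hπle : ∀ U : X.left.Opens, U ≤ πX.left ⁻¹ᵁ U)
  (hπapp : ∀ (U : X.left.Opens) (s : Γ(X.left, U)), (πX.left.appLE U U (hπle U)).hom s = s ^ Nat.card k)
  [Module.Free ℤ_[l] (AbDual.TateMod X l (SGA7.pt Ω))] [Module.Finite ℤ_[l] (AbDual.TateMod X l (SGA7.pt Ω))]
  (P : Polynomial ℤ) (hP : (AbDual.tateMapₗ (l := l) (T := SGA7.pt Ω) πX).charpoly = P.map (Int.castRingHom ℤ_[l]))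

include hl hπb hπle hπapp hP

/-- The number of points in the extension of degree `m`, counted through closed points. -/
theorem nPts_eq (m : ℕ) (hm : 1 ≤ m) :
    ((Zeta.nPts X.hom m : ℕ) : ℂ) = ((P.map (Int.castRingHom ℂ)).roots.map (fun α => 1 - α ^ m)).prod := by
  obtain ⟨F, hF, hFm, -⟩ := ZH85.StackCount.exists_fixedLevel (k := k) (k' := k) (kb := AlgebraicClosure k) m hm
  haveI := hF
  haveI : Finite F := Module.finite_of_finite k
  rw [← hFm, ← ZetaLib.pointCount_eq_nPts X.hom F, ← card_points k Ω l hl X πX hπb hπle hπapp P hP F]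
  norm_cast
  exact Nat.card_congr
    { toFun := fun g => Over.homMk g.1 g.2
      invFun := fun g => ⟨g.left, Over.w g⟩
      left_inv := fun _ => rfl
      right_inv := fun _ => rfl }

/-- The zeta function of an abelian variety. -/
theorem zeta_identity :
    (Zeta.zetaFun X.hom).map (algebraMap ℚ ℂ) *
          ∏ j ∈ (Finset.range (P.natDegree + 1)).filter (fun j => Even j),
            ((Pj (P.map (Int.castRingHom ℂ)).roots j : Polynomial ℂ) : PowerSeries ℂ) =
        ∏ j ∈ (Finset.range (P.natDegree + 1)).filter (fun j => Odd j),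
          ((Pj (P.map (Int.castRingHom ℂ)).roots j : Polynomial ℂ) : PowerSeries ℂ) := by
  obtain ⟨g, hg⟩ := AVIdx.exists_dim X
  obtain ⟨hm, -, -⟩ := charpoly_props Ω l hl πX P hP hg
  have hcard : Multiset.card (P.map (Int.castRingHom ℂ)).roots = P.natDegree := by
    rw [← (IsAlgClosed.splits _).natDegree_eq_card_roots, hm.natDegree_map]
  refine mul_prod_even_eq_prod_odd _ _ hcard _ (fun m => ((Zeta.nPts X.hom (m + 1) : ℕ) : ℂ)) ?_ ?_
    fun m => nPts_eq k Ω l hl X πX hπb hπle hπapp P hP (m + 1) (Nat.le_add_left 1 m)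
  · convert map_hasLogDeriv (algebraMap ℚ ℂ) (ZetaLib.hasLogDeriv_zetaFun X.hom) using 1
    ext m
    simp
  · rw [← PowerSeries.coeff_zero_eq_constantCoeff_apply, PowerSeries.coeff_map,
      PowerSeries.coeff_zero_eq_constantCoeff_apply, ZetaLib.constantCoeff_zetaFun, map_one]

/-- The product of the roots is `q^g`. -/
theorem prod_roots {g : ℕ} (hg : topologicalKrullDim X.left = g) :
    (P.map (Int.castRingHom ℂ)).roots.prod = ((Nat.card k : ℂ) ^ g) := by
  obtain ⟨hm, hd, h0⟩ := charpoly_props Ω l hl πX P hP hg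
  let S := (P.map (Int.castRingHom ℂ)).roots
  have hcard : Multiset.card S = 2 * g := by
    rw [← (IsAlgClosed.splits _).natDegree_eq_card_roots, hm.natDegree_map, hd]
  have hsplit := (IsAlgClosed.splits (P.map (Int.castRingHom ℂ))).coeff_zero_eq_prod_roots_of_monic (hm.map _)
  rw [hm.natDegree_map, hd, pow_mul, neg_one_sq, one_pow, _root_.one_mul, Polynomial.coeff_map, eq_intCast] at hsplit
  have hnorm : ‖S.prod‖ = (Nat.card k : ℝ) ^ g := by
    rw [← normHom_apply, map_multiset_prod, Multiset.map_congr rfl (g := fun _ => Real.sqrt (Nat.card k)) fun α hα => ?_,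
      Multiset.map_const', Multiset.prod_replicate, hcard, pow_mul, Real.sq_sqrt (Nat.cast_nonneg _)]
    refine norm_root_frobenius πX (Nat.card k) hπb hπle hπapp l _ P hP α ?_
    have := Polynomial.isRoot_of_mem_roots hα
    rwa [Polynomial.IsRoot, Polynomial.eval_map, ← algebraMap_int_eq, ← Polynomial.aeval_def] at this
  rw [← Polynomial.coeff_zero_eq_eval_zero] at h0
  rw [← hsplit, Complex.norm_intCast, abs_of_nonneg (by exact_mod_cast h0)] at hnorm
  rw [← hsplit, ← Complex.ofReal_intCast, hnorm]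
  push_cast
  rfl

/-- The functional equation. -/
theorem zeta_functional {g : ℕ} (hg : topologicalKrullDim X.left = g) (hg1 : 1 ≤ g) (t : ℂ) (ht : t ≠ 0) :
    ∏ j ∈ Finset.range (2 * g + 1),
        (Polynomial.eval (((Nat.card k : ℂ) ^ g * t)⁻¹) (Pj (P.map (Int.castRingHom ℂ)).roots j)) ^ ((-1 : ℤ) ^ (j + 1)) =
      ∏ j ∈ Finset.range (2 * g + 1),
        (Polynomial.eval t (Pj (P.map (Int.castRingHom ℂ)).roots j)) ^ ((-1 : ℤ) ^ (j + 1)) := by
  obtain ⟨hm, hd, -⟩ := charpoly_props Ω l hl πX P hP hg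
  let S := (P.map (Int.castRingHom ℂ)).roots
  have hcard : Multiset.card S = 2 * g := by
    rw [← (IsAlgClosed.splits _).natDegree_eq_card_roots, hm.natDegree_map, hd]
  have hprod := prod_roots k Ω l hl X πX hπb hπle hπapp P hP hg
  have hne : ∀ a ∈ S, a ≠ 0 := fun a ha h0 => by
    have : S.prod = 0 := Multiset.prod_eq_zero (h0 ▸ ha)
    rw [hprod] at this
    exact pow_ne_zero g (Nat.cast_ne_zero.2 Nat.card_pos.ne') this
  have e : ∀ s : ℂ, ∏ j ∈ Finset.range (2 * g + 1), (Polynomial.eval s (Pj S j)) ^ ((-1 : ℤ) ^ (j + 1)) =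
      altProd S s := by
    intro s
    rw [altProd, ← prod_range_powersetCard, hcard]
    refine Finset.prod_congr rfl fun j _ => ?_
    rw [Pj, Polynomial.eval_multiset_prod, Multiset.map_map, ← Multiset.prod_map_zpow]
    refine congrArg Multiset.prod (Multiset.map_congr rfl fun I hI => ?_)
    simp [(Multiset.mem_powersetCard.1 hI).2]
  obtain ⟨u, -, hu, hf⟩ := altProd_functional S hne (fun h => by
    have h0 : Multiset.card S = 0 := by rw [h]; rfl
    omega)
  rw [e, e, ← hprod, hf t ht, hu (by omega), _root_.one_mul, hcard, pow_mul, neg_one_sq, one_pow, zpow_one]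

end Groth.Agent.AVDeg3
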